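import Cfsg.Agent.Lib.McLThree.Setup
import Cfsg.Agent.Lib.Hall.Product
import Cfsg.Agent.Lib.PGroups.Extraspecial

/-!
# The data from the hypotheses of the 3-local characterization

`Z ≤ J`, so the condition at the nontrivial elements of `J` gives the one at `Z`.
-/

set_option autoImplicit false
set_option linter.unusedSectionVars false
set_option linter.style.haveILetI false

namespace Cfsg.Agent.McLThree

open Subgroup Cfsg
open scoped Pointwise

universe u

variable {G : Type u} [Group G] [Finite G]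

theorem exists_quot {A B : Subgroup G} {X : Type*} [Group X] [(B.subgroupOf A).Normal]
    (e : A ⧸ B.subgroupOf A ≃* X) :
    ∃ π : ↥A →* X, Function.Surjective π ∧ ∀ g : ↥A, π g = 1 ↔ (g : G) ∈ B := by
  refine ⟨e.toMonoidHom.comp (QuotientGroup.mk' _), e.surjective.comp (QuotientGroup.mk'_surjective _), fun g => ?_⟩
  rw [MonoidHom.comp_apply, MulEquiv.coe_toMonoidHom, MulEquiv.map_eq_one_iff, QuotientGroup.mk'_apply,
    QuotientGroup.eq_one_iff, mem_subgroupOf]

/-- `Z` is a subgroup of order three of `J`. -/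
theorem Z_le_J_of_data (S : Sylow 3 G) (Z : Subgroup G)
    (hZ : Z = (S : Subgroup G) ⊓ centralizer ((S : Subgroup G) : Set G))
    (J : Subgroup G) (hJS : J ≤ S) (hJc : ∀ a ∈ J, ∀ b ∈ J, a * b = b * a) (hJcard : Nat.card J = 81)
    (L₀ : Subgroup G) (hL₀ : L₀ = Subgroup.closure {g : G | g ∈ normalizer (Z : Set G) ∧ ∃ k : ℕ, orderOf g = 3 ^ k})
    (Q : Subgroup G) (hQ : Q = (pCore 3 (normalizer (Z : Set G))).map (normalizer (Z : Set G)).subtype)
    (hQex : IsExtraspecial 3 Q) (hQcard : Nat.card Q = 243) (hQL : Q ≤ L₀)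
    (hquot : ∃ π : ↥L₀ →* SL5, Function.Surjective π ∧ ∀ g : ↥L₀, π g = 1 ↔ (g : G) ∈ Q) :
    Z ≤ J ∧ Nat.card ↥Z = 3 := by
  haveI : Fact (Nat.Prime 3) := ⟨Nat.prime_three⟩
  have hcomm : ∀ z ∈ Z, ∀ g ∈ (S : Subgroup G), g * z = z * g := fun z hz g hg =>
    mem_centralizer_iff.1 (hZ ▸ hz : z ∈ (S : Subgroup G) ⊓ centralizer ((S : Subgroup G) : Set G)).2 g hg
  have hZS : Z ≤ (S : Subgroup G) := hZ ▸ inf_le_left
  have hSN : (S : Subgroup G) ≤ normalizer (Z : Set G) := fun g hg =>
    Subgroup.mem_normalizer_fintype fun z hz => by rw [hcomm z hz g hg, mul_inv_cancel_right]; exact hz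
  have hQS : Q ≤ (S : Subgroup G) := by
    have h := PLocal.Cores.pCore_le_sylow (S.subtype hSN)
    rw [hQ]
    refine (Subgroup.map_mono h).trans ?_
    rw [Sylow.coe_subtype, Subgroup.map_subgroupOf_eq_of_le hSN]
  have hSL : (S : Subgroup G) ≤ L₀ := fun g hg => by
    obtain ⟨k, hk⟩ := IsPGroup.iff_orderOf.1 S.2 ⟨g, hg⟩
    rw [hL₀]
    exact Subgroup.subset_closure ⟨hSN hg, k, by rw [← hk, orderOf_mk]⟩
  have hL : Nat.card ↥L₀ = 29160 := by
    obtain ⟨π, hπ, hk⟩ := hquot
    have hker : π.ker = Q.subgroupOf L₀ := by ext g; rw [MonoidHom.mem_ker, hk, mem_subgroupOf]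
    have h := π.ker.card_mul_index
    rw [index_ker, MonoidHom.range_eq_top.2 hπ, card_top, card_SL5, hker,
      Nat.card_congr (subgroupOfEquivOfLe hQL).toEquiv, hQcard] at h
    omega
  have hS : Nat.card (S : Subgroup G) = 729 := by
    have h := (S.subtype hSL).card_eq_multiplicity
    rw [Sylow.coe_subtype, Nat.card_congr (subgroupOfEquivOfLe hSL).toEquiv, hL] at h
    rw [h, show (29160 : ℕ) = 3 ^ 6 * 40 by norm_num, Nat.factorization_mul (by norm_num) (by norm_num),
      Finsupp.add_apply, Nat.prime_three.factorization_pow, Finsupp.single_eq_same,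
      Nat.factorization_eq_zero_of_not_dvd (by norm_num : ¬ 3 ∣ 40)]
    norm_num
  have hZQ : Z ≤ Q := by
    rw [hQ]
    have hZN : Z ≤ normalizer (Z : Set G) := le_normalizer
    haveI : (Z.subgroupOf (normalizer (Z : Set G))).Normal := normal_subgroupOf_of_le_normalizer le_rfl
    have h := PLocal.Cores.le_pCore (N := Z.subgroupOf (normalizer (Z : Set G)))
      ((S.2.to_le hZS).comap_of_injective _ (normalizer (Z : Set G)).subtype_injective)
    exact (Subgroup.map_subgroupOf_eq_of_le hZN).ge.trans (Subgroup.map_mono h)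
  have hle : Z ≤ (center ↥Q).map Q.subtype := fun z hz =>
    ⟨⟨z, hZQ hz⟩, mem_center_iff.2 fun q => Subtype.ext (hcomm z hz q (hQS q.2)), rfl⟩
  have hc : Nat.card ↥((center ↥Q).map Q.subtype) = 3 := by
    rw [card_map_of_injective Q.subtype_injective, hQex.2]
  have hne : Z ≠ ⊥ := by
    haveI : Nontrivial ↥(S : Subgroup G) := Finite.one_lt_card_iff_nontrivial.1 (by rw [hS]; norm_num)
    haveI := S.2.center_nontrivial
    obtain ⟨⟨z, hz⟩, hz1⟩ := exists_ne (1 : ↥(center ↥(S : Subgroup G)))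
    intro h
    refine hz1 (Subtype.ext (Subtype.ext ?_))
    have hzZ : (z : G) ∈ Z := by
      rw [hZ]
      exact ⟨z.2, mem_centralizer_iff.2 fun g hg => congrArg Subtype.val (mem_center_iff.1 hz ⟨g, hg⟩)⟩
    rwa [h, mem_bot] at hzZ
  have h3 : Nat.card ↥Z = 3 := by
    rcases (Nat.dvd_prime Nat.prime_three).1 (hc ▸ card_dvd_of_le hle) with h | h
    · exact absurd (Subgroup.eq_bot_of_card_eq Z h) hne
    · exact h
  refine ⟨?_, h3⟩
  by_contra hZJ
  set A := J ⊔ Z
  have hAS : A ≤ (S : Subgroup G) := sup_le hJS hZS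
  have hAc : IsMulCommutative ↥A := by
    have hle' : A ≤ centralizer (A : Set G) := by
      refine sup_le ?_ ?_ <;> rw [le_centralizer_iff] <;> refine sup_le ?_ ?_ <;> intro a ha <;>
        refine mem_centralizer_iff.2 fun b hb => ?_
      · exact hJc b hb a ha
      · exact hcomm a ha b (hJS hb)
      · exact (hcomm b hb a (hJS ha)).symm
      · exact hcomm a ha b (hZS hb)
    exact ⟨⟨fun a b => Subtype.ext (mem_centralizer_iff.1 (hle' b.2) a a.2)⟩⟩
  have hA243 : 243 ≤ Nat.card ↥A := by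
    have hlt : 81 < Nat.card ↥A := by
      by_contra h
      replace h : ¬ 81 < Nat.card ↥(J ⊔ Z) := h
      exact hZJ ((eq_of_le_of_card_ge (le_sup_left : J ≤ J ⊔ Z) (by omega)).ge.trans' le_sup_right)
    obtain ⟨i, hi⟩ := (S.2.to_le hAS).exists_card_eq
    rw [hi] at hlt ⊢
    rcases Nat.lt_or_ge i 5 with h | h
    · have : 3 ^ i ≤ 3 ^ 4 := Nat.pow_le_pow_right (by norm_num) (by omega)
      omega
    · exact (by norm_num : (243 : ℕ) = 3 ^ 5) ▸ Nat.pow_le_pow_right (by norm_num) h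
  have hint : 81 ≤ Nat.card ↥(A ⊓ Q) := by
    have h := Hall.card_mul_inf A Q
    have hle' : Nat.card ↥((A : Set G) * (Q : Set G)) ≤ Nat.card ↥((S : Subgroup G) : Set G) :=
      Nat.card_mono (Set.toFinite _) (by
        rintro _ ⟨a, ha, b, hb, rfl⟩
        exact mul_mem (hAS ha) (hQS hb))
    have hle'' : Nat.card ↥((A : Set G) * (Q : Set G)) ≤ 729 := hle'.trans_eq hS
    rw [hQcard] at h
    nlinarith
  set X := (A ⊓ Q).subgroupOf Q
  haveI : IsMulCommutative ↥X := ⟨⟨fun a b => Subtype.ext (Subtype.ext (congrArg (fun w : ↥A => (w : G))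
    (hAc.is_comm.comm ⟨_, (mem_subgroupOf.1 a.2).1⟩ ⟨_, (mem_subgroupOf.1 b.2).1⟩)))⟩⟩
  have h := PGroups.Extraspecial.card_sq_le_of_abelian hQex X
  rw [Nat.card_congr (subgroupOfEquivOfLe inf_le_right).toEquiv, hQcard] at h
  nlinarith

/-- The condition at `Z` from the one at the elements of `J`. -/
theorem weak_of_strong {Z J : Subgroup G} (hZJ : Z ≤ J) (hZ3 : Nat.card ↥Z = 3)
    (hiii : ∀ x ∈ J, x ≠ 1 →
      centralizer (((pCore 3 (centralizer ({x} : Set G))).map (centralizer ({x} : Set G)).subtype : Subgroup G) : Set G)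
        ≤ (pCore 3 (centralizer ({x} : Set G))).map (centralizer ({x} : Set G)).subtype) :
    centralizer (((pCore 3 (centralizer (Z : Set G))).map (centralizer (Z : Set G)).subtype : Subgroup G) : Set G)
      ≤ (pCore 3 (centralizer (Z : Set G))).map (centralizer (Z : Set G)).subtype := by
  haveI : Fact (Nat.Prime 3) := ⟨Nat.prime_three⟩
  haveI : Nontrivial ↥Z := Finite.one_lt_card_iff_nontrivial.1 (by omega)
  obtain ⟨z, hz⟩ := exists_ne (1 : ↥Z)
  have hgen : zpowers (z : G) = Z := by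
    refine eq_of_le_of_card_ge (zpowers_le.2 z.2) ?_
    rw [hZ3, Nat.card_zpowers, Subgroup.orderOf_coe, orderOf_eq_prime (p := 3)
      (hZ3 ▸ pow_card_eq_one') hz]
  have hC : centralizer (Z : Set G) = centralizer ({(z : G)} : Set G) := by
    refine (congrArg (fun K : Subgroup G => centralizer (K : Set G)) hgen).symm.trans ?_
    rw [Subgroup.zpowers_eq_closure, Subgroup.centralizer_closure]
  rw [hC]
  exact hiii z (hZJ z.2) fun h => hz (Subtype.ext h)

end Cfsg.Agent.McLThree
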