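import Mathlib

/-!
# The centraliser of an involution modulo it
-/

set_option autoImplicit false
set_option linter.unusedSectionVars false

namespace Cfsg.Agent.McLThree

open Subgroup

universe u

variable {G : Type u} [Group G] (t : G)

/-- `⟨t⟩` inside `C(t)`. -/
abbrev tSub : Subgroup ↥(centralizer ({t} : Set G)) := (zpowers t).subgroupOf (centralizer ({t} : Set G))

instance tSub_normal : (tSub t).Normal := ⟨fun x hx g => by
  have hc : Commute (g : G) (x : G) := by
    obtain ⟨i, hi⟩ := mem_zpowers_iff.1 (mem_subgroupOf.1 hx)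
    rw [← hi]
    exact (show Commute (g : G) t from mem_centralizer_singleton_iff.1 g.2).zpow_right i
  rwa [show g * x * g⁻¹ = x from Subtype.ext (by
    show (g : G) * x * (g : G)⁻¹ = x
    rw [hc.eq, mul_inv_cancel_right])]⟩

/-- `C(t)/⟨t⟩`. -/
abbrev Bar : Type u := ↥(centralizer ({t} : Set G)) ⧸ tSub t

/-- The projection. -/
abbrev barMap : ↥(centralizer ({t} : Set G)) →* Bar t := QuotientGroup.mk' (tSub t)

/-- The image of a subgroup. -/
def bar (A : Subgroup G) : Subgroup (Bar t) := (A.subgroupOf (centralizer ({t} : Set G))).map (barMap t)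

variable {t}

theorem barMap_eq_iff (h2 : t * t = 1) (x y : ↥(centralizer ({t} : Set G))) :
    barMap t x = barMap t y ↔ (y : G) = x ∨ (y : G) = (x : G) * t := by
  rw [QuotientGroup.mk'_apply, QuotientGroup.mk'_apply, QuotientGroup.eq, mem_subgroupOf, Subgroup.coe_mul,
    InvMemClass.coe_inv]
  constructor
  · intro h
    obtain ⟨i, hi⟩ := mem_zpowers_iff.1 h
    have h' : t ^ (2 : ℤ) = 1 := by rw [zpow_two]; exact h2
    rw [zpow_eq_zpow_emod i h'] at hi
    rcases Int.emod_two_eq_zero_or_one i with e | e <;> rw [e] at hi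
    · exact Or.inl (inv_mul_eq_one.1 (by rw [← hi, zpow_zero])).symm
    · exact Or.inr (by rw [zpow_one] at hi; exact inv_mul_eq_iff_eq_mul.1 hi.symm)
  · rintro (h | h) <;> rw [h]
    · rw [inv_mul_cancel]; exact one_mem _
    · rw [inv_mul_cancel_left]; exact mem_zpowers t

theorem mem_bar {A : Subgroup G} {x : Bar t} :
    x ∈ bar t A ↔ ∃ g : ↥(centralizer ({t} : Set G)), (g : G) ∈ A ∧ barMap t g = x :=
  ⟨fun ⟨g, hg, e⟩ => ⟨g, hg, e⟩, fun ⟨g, hg, e⟩ => ⟨g, hg, e⟩⟩

variable [Finite G]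

theorem card_bar (h2 : orderOf t = 2) {A : Subgroup G} (htA : t ∈ A) (hA : A ≤ centralizer ({t} : Set G)) :
    2 * Nat.card ↥(bar t A) = Nat.card ↥A := by
  set A' := A.subgroupOf (centralizer ({t} : Set G))
  set ψ := (barMap t).comp A'.subtype
  have h := ψ.ker.card_mul_index
  rw [index_ker, show ψ.range = bar t A from by rw [MonoidHom.range_comp, Subgroup.range_subtype]; rfl,
    Nat.card_congr (subgroupOfEquivOfLe hA).toEquiv] at h
  rw [← h]
  congr 1
  refine (Eq.trans ?_ ((Nat.card_zpowers t).trans h2)).symm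
  refine Nat.card_congr
    { toFun := fun x => ⟨((x : ↥A') : G), mem_subgroupOf.1 ((QuotientGroup.eq_one_iff _).1 x.2)⟩
      invFun := fun y => ⟨⟨⟨y, hA (zpowers_le.2 htA y.2)⟩, mem_subgroupOf.2 (zpowers_le.2 htA y.2)⟩,
        (QuotientGroup.eq_one_iff _).2 (mem_subgroupOf.2 y.2)⟩
      left_inv := fun x => rfl
      right_inv := fun y => rfl }

/-- Equal images of elements of order three are equal. -/
theorem eq_of_three (h2 : orderOf t = 2) {x y : G} (hx : x ^ 3 = 1) (hy : y ^ 3 = 1)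
    (hxt : Commute x t) (h : y = x ∨ y = x * t) : y = x := by
  rcases h with h | h
  · exact h
  exfalso
  have h3 : t ^ 3 = 1 := by rw [h, hxt.mul_pow, hx, one_mul] at hy; exact hy
  have hd := orderOf_dvd_of_pow_eq_one h3
  rw [h2] at hd
  norm_num at hd

theorem centralizer_bar (h2 : orderOf t = 2) (x : ↥(centralizer ({t} : Set G))) (hx : (x : G) ^ 3 = 1) :
    centralizer ({barMap t x} : Set (Bar t)) =
      bar t (centralizer ({(x : G)} : Set G) ⊓ centralizer ({t} : Set G)) := by
  have htt : t * t = 1 := by rw [← pow_two, ← h2, pow_orderOf_eq_one]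
  ext p
  rw [mem_bar, mem_centralizer_singleton_iff]
  constructor
  · intro h
    obtain ⟨g, rfl⟩ := QuotientGroup.mk'_surjective (tSub t) p
    refine ⟨g, ⟨mem_centralizer_singleton_iff.2 ?_, g.2⟩, rfl⟩
    have he : barMap t x = barMap t (g * x * g⁻¹) := by
      rw [map_mul, map_mul, map_inv]
      exact (mul_inv_eq_iff_eq_mul.2 h).symm
    exact mul_inv_eq_iff_eq_mul.1 (eq_of_three h2 hx (by rw [conj_pow, hx, mul_one, mul_inv_cancel])
      (mem_centralizer_singleton_iff.1 x.2) ((barMap_eq_iff htt x _).1 he))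
  · rintro ⟨g, hg, rfl⟩
    rw [← map_mul, ← map_mul]
    exact congrArg (barMap t) (Subtype.ext (mem_centralizer_singleton_iff.1 hg.1))

/-- The normalizer of the image of a subgroup of exponent three. -/
theorem normalizer_bar (h2 : orderOf t = 2) {A : Subgroup G} (hA : A ≤ centralizer ({t} : Set G))
    (h3 : ∀ a ∈ A, a ^ 3 = 1) :
    normalizer (bar t A : Set (Bar t)) = bar t (normalizer (A : Set G) ⊓ centralizer ({t} : Set G)) := by
  have htt : t * t = 1 := by rw [← pow_two, ← h2, pow_orderOf_eq_one]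
  ext p
  rw [mem_bar]
  constructor
  · intro h
    obtain ⟨g, rfl⟩ := QuotientGroup.mk'_surjective (tSub t) p
    refine ⟨g, ⟨Subgroup.mem_normalizer_fintype fun a ha => ?_, g.2⟩, rfl⟩
    obtain ⟨a', ha', hae⟩ := mem_bar.1 ((mem_normalizer_iff.1 h (barMap t ⟨a, hA ha⟩)).1 ⟨⟨a, hA ha⟩, ha, rfl⟩)
    rw [← map_inv, ← map_mul, ← map_mul] at hae
    have := eq_of_three h2 (h3 _ ha') (y := (g : G) * a * (g : G)⁻¹)
      (by rw [conj_pow, h3 a ha, mul_one, mul_inv_cancel]) (mem_centralizer_singleton_iff.1 a'.2)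
      ((barMap_eq_iff htt a' _).1 hae)
    rw [this]; exact ha'
  · rintro ⟨g, hg, rfl⟩
    refine Subgroup.mem_normalizer_fintype fun p hp => ?_
    obtain ⟨a, ha, rfl⟩ := mem_bar.1 hp
    refine ⟨g * a * g⁻¹, (mem_normalizer_iff.1 hg.1 (a : G)).1 ha, ?_⟩
    rw [map_mul, map_mul, map_inv]

end Cfsg.Agent.McLThree
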