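import Cfsg.Agent.Lib.McLThree.CountE
import Cfsg.Agent.Lib.McLThree.BarGen
import Cfsg.Agent.Lib.EightLocal.Order
import Cfsg.Agent.Lib.EightLocal.Ident
import Cfsg.Agent.Lib.EightFour.Sym
import Cfsg.Agent.Lib.EightFour.AltMain
import Cfsg.Agent.Lib.AutPOmega.Groups

/-!
# The recognition of `C(t)/⟨t⟩`

It is `Alt 8`, or it satisfies the conclusion of the recognition of `Sym 8` with its exception.
-/

set_option autoImplicit false
set_option linter.unusedSectionVars false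
set_option linter.style.haveILetI false

namespace Cfsg.Agent.McLThree

open Subgroup Cfsg
open scoped Pointwise

universe u

variable {G : Type u} [Group G] [Finite G] {S : Sylow 3 G} {Z J M₀ L₀ Q : Subgroup G}
  (H : Hyp S Z J M₀ L₀ Q) {π : ↥L₀ →* SL5} {t f : G} (F : Frame Q L₀ π t f)
  {s z z' : G} (K : JSide Z J L₀ t s z z')
include H F K

theorem Hyp.Ej_exp : ∀ e ∈ Ej J t, e ^ 3 = 1 := fun e he => H.J_exp e he.1

theorem Hyp.card_barE : Nat.card ↥(bar t (Ej J t)) = 9 := by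
  set A := (Ej J t).subgroupOf (centralizer ({t} : Set G))
  have hinj : Function.Injective ((barMap t).comp A.subtype) := by
    intro x y h
    refine Subtype.ext (Subtype.ext ?_)
    exact (eq_of_three F.t_two (H.Ej_exp F K _ (mem_subgroupOf.1 x.2)) (H.Ej_exp F K _ (mem_subgroupOf.1 y.2))
      (mem_centralizer_singleton_iff.1 (x : ↥(centralizer ({t} : Set G))).2)
      ((barMap_eq_iff (H.tt F K) _ _).1 h)).symm
  have h := Nat.card_congr (MonoidHom.ofInjective hinj).toEquiv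
  rw [Nat.card_congr (subgroupOfEquivOfLe inf_le_right).toEquiv, H.card_Ej F] at h
  rw [h, MonoidHom.range_comp, Subgroup.range_subtype]
  rfl

theorem Hyp.barE_comm : ∀ a ∈ bar t (Ej J t), ∀ b ∈ bar t (Ej J t), a * b = b * a := by
  intro a ha b hb
  obtain ⟨x, hx, rfl⟩ := mem_bar.1 ha
  obtain ⟨y, hy, rfl⟩ := mem_bar.1 hb
  rw [← map_mul, ← map_mul]
  exact congrArg (barMap t) (Subtype.ext (H.J_comm _ hx.1 _ hy.1))

theorem Hyp.barE_exp : ∀ a ∈ bar t (Ej J t), a ^ 3 = 1 := by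
  intro a ha
  obtain ⟨x, hx, rfl⟩ := mem_bar.1 ha
  rw [← map_pow, show x ^ 3 = 1 from Subtype.ext (H.Ej_exp F K _ hx), map_one]

theorem Hyp.normalizer_barE : normalizer (bar t (Ej J t) : Set (Bar t)) = bar t (NE J t) :=
  normalizer_bar F.t_two inf_le_right (H.Ej_exp F K)

/-- `E` modulo `t` is a Sylow 3-subgroup of `C(t)/⟨t⟩`. -/
theorem Hyp.barE_sylow : ∃ P : Sylow 3 (Bar t), (P : Subgroup (Bar t)) = bar t (Ej J t) := by
  haveI : Fact (Nat.Prime 3) := ⟨Nat.prime_three⟩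
  set D := bar t (Ej J t)
  have hDp : IsPGroup 3 ↥D := IsPGroup.of_card (n := 2) (by rw [H.card_barE F K]; norm_num)
  obtain ⟨P, hP⟩ := hDp.exists_le_sylow
  refine ⟨P, le_antisymm ?_ hP⟩
  by_contra hne
  have hlt : D.subgroupOf (P : Subgroup (Bar t)) < ⊤ :=
    lt_top_iff_ne_top.2 fun h => hne (subgroupOf_eq_top.1 h)
  haveI : Group.IsNilpotent ↥(P : Subgroup (Bar t)) := P.2.isNilpotent
  obtain ⟨p, hpn, hpD⟩ := SetLike.exists_of_lt (Group.normalizerCondition_of_isNilpotent (D.subgroupOf (P : Subgroup (Bar t))) hlt)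
  have hpN : (p : Bar t) ∈ normalizer (D : Set (Bar t)) := by
    refine Subgroup.mem_normalizer_fintype fun x hx => ?_
    exact mem_subgroupOf.1 ((mem_normalizer_iff.1 hpn ⟨x, hP hx⟩).1 (mem_subgroupOf.2 hx))
  rw [H.normalizer_barE F K, mem_bar] at hpN
  obtain ⟨g, hgN, hge⟩ := hpN
  obtain ⟨k, hk⟩ := IsPGroup.iff_orderOf.1 P.2 p
  have hpow : ((g : G) ^ 2) ^ 3 ^ k = 1 := by
    have h1 : barMap t (g ^ 3 ^ k) = barMap t 1 := by
      rw [map_pow, hge, map_one, ← hk, ← SubmonoidClass.coe_pow, pow_orderOf_eq_one]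
      rfl
    rcases (barMap_eq_iff (H.tt F K) _ _).1 h1.symm with h | h <;>
      simp only [SubmonoidClass.coe_pow, Subgroup.coe_one, one_mul] at h <;> rw [← pow_mul, mul_comm, pow_mul, h]
    · exact one_pow 2
    · rw [pow_two, H.tt F K]
  have hodd : Odd (orderOf ((g : G) ^ 2)) :=
    (Odd.pow (by decide : Odd 3)).of_dvd_nat (orderOf_dvd_of_pow_eq_one hpow)
  have hgN2 : (g : G) ^ 2 ∈ NE J t := pow_mem hgN 2
  have hCE := H.odd_mem_CE F K hgN2 hodd
  set g2 := (g : G) ^ 2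
  -- `E ⟨g²⟩` is a 3-subgroup of `C(Z) ∩ C(t)`
  set U := Ej J t ⊔ zpowers g2
  have hcomm : ∀ e ∈ Ej J t, g2 * e = e * g2 := fun e he => (mem_centralizer_iff.1 hCE.1 e he).symm
  have hU : U ≤ centZt Z t := sup_le (le_inf (fun x hx => mem_centralizer_iff.2 fun w hw =>
    H.J_comm w (H.Z_le_J F hw) x hx.1) inf_le_right) (zpowers_le.2 (H.CE_le_centZt F K hCE))
  have hUp : IsPGroup 3 ↥U := IsPGroup.to_sup_of_normal_left'
    (IsPGroup.of_card (n := 2) (by rw [H.card_Ej F]; norm_num))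
    (IsPGroup.iff_orderOf.2 fun x => by
      obtain ⟨i, -, hi⟩ := (Nat.dvd_prime_pow Nat.prime_three).1 ((Subgroup.orderOf_coe x).symm.dvd.trans
        ((orderOf_dvd_natCard (zpowers g2) x.2).trans (by rw [Nat.card_zpowers]; exact orderOf_dvd_of_pow_eq_one hpow)))
      exact ⟨i, by rw [← Subgroup.orderOf_coe] at hi ⊢; exact hi⟩)
    (fun x hx => by
      obtain ⟨i, rfl⟩ := mem_zpowers_iff.1 hx
      refine mem_normalizer_iff.2 fun e => ?_
      have hzc : ∀ e ∈ Ej J t, Commute (g2 ^ i) e := fun e he => (show Commute g2 e from hcomm e he).zpow_left i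
      constructor
      · intro he
        rw [(hzc e he).eq, mul_inv_cancel_right]; exact he
      · intro he
        have h := (hzc _ he).eq
        rw [show e = g2 ^ i * e * (g2 ^ i)⁻¹ from ?_]
        · exact he
        · conv_lhs => rw [show e = (g2 ^ i)⁻¹ * (g2 ^ i * e * (g2 ^ i)⁻¹) * g2 ^ i by group, mul_assoc, ← h,
            inv_mul_cancel_left])
  obtain ⟨n, hn⟩ := hUp.exists_card_eq
  have hd := card_dvd_of_le hU
  rw [hn] at hd
  have h9 : n ≤ 2 := by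
    by_contra hlt'
    have h27 : 27 ∣ Nat.card ↥(centZt Z t) := ((pow_dvd_pow 3 (by omega : 3 ≤ n)).trans hd)
    rcases H.card_centZt F with ⟨e, -⟩ | ⟨e, -⟩ <;> rw [e] at h27 <;> norm_num at h27
  have hUE : Ej J t = U := eq_of_le_of_card_ge le_sup_left (by
    rw [hn, H.card_Ej F]
    exact (Nat.pow_le_pow_right (by norm_num) h9).trans (by norm_num))
  have hgE : g2 ∈ Ej J t := hUE.ge (mem_sup_right (mem_zpowers g2))
  have hp2 : (p : Bar t) ^ 2 ∈ D := by
    rw [← hge, ← map_pow]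
    exact mem_bar.2 ⟨g ^ 2, hgE, rfl⟩
  apply hpD
  rw [mem_subgroupOf]
  obtain ⟨m, hm⟩ : ∃ m, 3 ^ k = 2 * m + 1 := (Odd.pow (by decide : Odd 3))
  have : (p : Bar t) = ((p : Bar t) ^ 2) ^ (m + 1) := by
    rw [← pow_mul, show 2 * (m + 1) = 3 ^ k + 1 by omega, pow_succ, ← hk, ← SubmonoidClass.coe_pow,
      pow_orderOf_eq_one, OneMemClass.coe_one, one_mul]
  rw [this]
  exact pow_mem hp2 _

/-- The preimage of `z` in `C(t)`. -/
def Hyp.zC : ↥(centralizer ({t} : Set G)) := ⟨z, (H.Z_le_Ej F K.z_mem).2⟩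

/-- The preimage of `z z'` in `C(t)`. -/
def Hyp.yC : ↥(centralizer ({t} : Set G)) := ⟨z * z', (mul_mem (H.Z_le_Ej F K.z_mem) K.z'_mem).2⟩

theorem Hyp.bar_gen : Subgroup.closure {barMap t (H.yC F K), barMap t (H.zC F K)} = bar t (Ej J t) := by
  refine le_antisymm ((Subgroup.closure_le _).2 ?_) ?_
  · rintro x (rfl | rfl)
    · exact mem_bar.2 ⟨_, mul_mem (H.Z_le_Ej F K.z_mem) K.z'_mem, rfl⟩
    · exact mem_bar.2 ⟨_, H.Z_le_Ej F K.z_mem, rfl⟩
  intro x hx
  obtain ⟨e, he, rfl⟩ := mem_bar.1 hx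
  set W := Subgroup.closure {barMap t (H.yC F K), barMap t (H.zC F K)}
  set w' : ↥(centralizer ({t} : Set G)) := ⟨z', K.z'_mem.2⟩
  have hz : barMap t (H.zC F K) ∈ W := Subgroup.subset_closure (Or.inr rfl)
  have hz' : barMap t w' ∈ W := by
    have h := mul_mem (inv_mem hz) (Subgroup.subset_closure (Or.inl rfl) : barMap t (H.yC F K) ∈ W)
    rw [← map_inv, ← map_mul] at h
    rwa [show (H.zC F K)⁻¹ * H.yC F K = w' from Subtype.ext (inv_mul_cancel_left z z')] at h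
  have hkey : ∀ (v : ↥(centralizer ({t} : Set G))), (v : G) ∈ Z ∨ (v : G) ∈ zpowers z' → barMap t v ∈ W := by
    intro v hv
    rcases hv with hv | hv
    · rw [← H.Z_eq_zpowers F K] at hv
      obtain ⟨k, hk⟩ := mem_zpowers_iff.1 hv
      rw [show v = H.zC F K ^ k from Subtype.ext hk.symm, map_zpow]; exact zpow_mem hz k
    · obtain ⟨k, hk⟩ := mem_zpowers_iff.1 hv
      rw [show v = w' ^ k from Subtype.ext hk.symm, map_zpow]; exact zpow_mem hz' k
  rcases H.Ej_cases F K he with h | h | h | h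
  · exact hkey e (Or.inl h)
  · exact hkey e (Or.inr h)
  · rcases h with h | h
    · rw [show e = H.zC F K * w' from Subtype.ext h, map_mul]; exact mul_mem hz hz'
    · rw [show e = H.zC F K * w'⁻¹ from Subtype.ext h, map_mul, map_inv]; exact mul_mem hz (inv_mem hz')
  · rcases h with h | h
    · rw [show e = (H.zC F K * w')⁻¹ from Subtype.ext (inv_eq_iff_eq_inv.1 h), map_inv, map_mul]
      exact inv_mem (mul_mem hz hz')
    · rw [show e = (H.zC F K * w'⁻¹)⁻¹ from Subtype.ext (inv_eq_iff_eq_inv.1 h), map_inv, map_mul, map_inv]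
      exact inv_mem (mul_mem hz (inv_mem hz'))

theorem Hyp.bar_card_N : 2 * Nat.card ↥(normalizer (bar t (Ej J t) : Set (Bar t))) = 8 * Nat.card ↥(CE J t) := by
  rw [H.normalizer_barE F K, card_bar F.t_two (H.norm_J_le_NE F K (H.t_norm_J F) (Commute.refl t)) inf_le_right,
    (H.card_NE F K).1]

theorem Hyp.cent_y_eq : centralizer ({z * z'} : Set G) ⊓ centralizer ({t} : Set G) =
    NE J t ⊓ centralizer ({z * z'} : Set G) := by
  refine le_antisymm (fun g hg => ⟨H.norm_J_le_NE F K (K.cent_y _ (Or.inl rfl) hg.1)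
    (mem_centralizer_singleton_iff.1 hg.2), hg.1⟩) fun g hg => ⟨hg.2, hg.1.2⟩

theorem Hyp.bar_card_y : Nat.card ↥(centralizer ({barMap t (H.yC F K)} : Set (Bar t))) = Nat.card ↥(CE J t) := by
  have h := card_bar F.t_two (A := centralizer ({z * z'} : Set G) ⊓ centralizer ({t} : Set G))
    ⟨mem_centralizer_singleton_iff.2 ((mem_centralizer_singleton_iff.1
      (H.yC F K).2 : (z * z') * t = t * (z * z'))).symm, mem_centralizer_singleton_iff.2 rfl⟩ inf_le_right
  rw [centralizer_bar F.t_two (H.yC F K) (H.J_exp _ (mul_mem (H.Z_le_J F K.z_mem) K.z'_mem.1))]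
  change _ = Nat.card ↥(CE J t)
  rw [H.cent_y_eq F K, (H.card_NE F K).2] at h
  rw [show centralizer ({((H.yC F K : ↥(centralizer ({t} : Set G))) : G)} : Set G) ⊓ centralizer ({t} : Set G) =
    NE J t ⊓ centralizer ({z * z'} : Set G) from H.cent_y_eq F K]
  omega

theorem Hyp.bar_y_norm : ∀ g ∈ centralizer ({barMap t (H.yC F K)} : Set (Bar t)),
    g ∈ normalizer (bar t (Ej J t) : Set (Bar t)) := by
  intro g hg
  rw [centralizer_bar F.t_two (H.yC F K) (H.J_exp _ (mul_mem (H.Z_le_J F K.z_mem) K.z'_mem.1))] at hg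
  obtain ⟨a, ha, rfl⟩ := mem_bar.1 hg
  rw [H.normalizer_barE F K]
  exact mem_bar.2 ⟨a, H.norm_J_le_NE F K (K.cent_y _ (Or.inl rfl) ha.1)
    (mem_centralizer_singleton_iff.1 a.2), rfl⟩

theorem Hyp.bar_card_z : 2 * Nat.card ↥(centralizer ({barMap t (H.zC F K)} : Set (Bar t))) =
    Nat.card ↥(centZt Z t) := by
  rw [centralizer_bar F.t_two (H.zC F K) (H.z_cube F K),
    show centralizer ({((H.zC F K : ↥(centralizer ({t} : Set G))) : G)} : Set G) ⊓ centralizer ({t} : Set G) =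
      centZt Z t by
      show centralizer ({z} : Set G) ⊓ centralizer ({t} : Set G) = centZt Z t
      rw [centZt, H.cent_Z_eq F K]]
  exact card_bar F.t_two ⟨H.L_le_cent F.t_mem, mem_centralizer_singleton_iff.2 rfl⟩ inf_le_right

/-- Coordinates of the normalizer of `z` modulo `t`. -/
theorem Hyp.bar_shape : ∃ φ : ↥(normZt Z t) →* Equiv.Perm (Fin 3) × Equiv.Perm (Fin 5),
    Nonempty (↥(normalizer (zpowers (barMap t (H.zC F K)) : Set (Bar t))) ≃* ↥φ.range) ∧
    (Nat.card ↥(centZt Z t) = 720 → φ.range = ⊤) ∧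
    (Nat.card ↥(centZt Z t) = 360 → φ.range = (((Equiv.Perm.sign).comp
      (MonoidHom.fst (Equiv.Perm (Fin 3)) (Equiv.Perm (Fin 5)))) *
        ((Equiv.Perm.sign).comp (MonoidHom.snd (Equiv.Perm (Fin 3)) (Equiv.Perm (Fin 5))))).ker) := by
  obtain ⟨φ, hker, htop, hsgn⟩ := H.exists_shape F K
  have hzZ : zpowers (barMap t (H.zC F K)) = bar t Z := by
    refine le_antisymm (zpowers_le.2 (mem_bar.2 ⟨_, K.z_mem, rfl⟩)) fun x hx => ?_
    obtain ⟨v, hv, rfl⟩ := mem_bar.1 hx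
    rw [← H.Z_eq_zpowers F K] at hv
    obtain ⟨k, hk⟩ := mem_zpowers_iff.1 hv
    rw [show v = H.zC F K ^ k from Subtype.ext hk.symm, map_zpow]
    exact zpow_mem (mem_zpowers _) k
  have hN : normalizer (zpowers (barMap t (H.zC F K)) : Set (Bar t)) = bar t (normZt Z t) := by
    rw [hzZ]
    exact normalizer_bar F.t_two ((H.Z_le_Ej F).trans inf_le_right) fun a ha => H.Q_exp a (H.Z_le_Q ha)
  set ψ : ↥(normZt Z t) →* Bar t := (barMap t).comp (Subgroup.inclusion inf_le_right)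
  have hψr : ψ.range = bar t (normZt Z t) := by
    ext x
    rw [mem_bar]
    exact ⟨fun ⟨g, hg⟩ => ⟨Subgroup.inclusion inf_le_right g, g.2, hg⟩,
      fun ⟨g, hg, hge⟩ => ⟨⟨g, hg⟩, hge⟩⟩
  have hk : ψ.ker = φ.ker := by
    ext g
    rw [MonoidHom.mem_ker, MonoidHom.mem_ker, hker]
    show barMap t _ = 1 ↔ _
    rw [QuotientGroup.mk'_apply, QuotientGroup.eq_one_iff, mem_subgroupOf]
    rfl
  refine ⟨φ, ⟨?_⟩, fun hc => MonoidHom.range_eq_top.2 (htop hc), hsgn⟩
  exact (MulEquiv.subgroupCongr (hN.trans hψr.symm)).trans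
    ((QuotientGroup.quotientKerEquivRange ψ).symm.trans
      ((QuotientGroup.quotientMulEquivOfEq hk).trans (QuotientGroup.quotientKerEquivRange φ)))

/-- With only inner automorphisms, `C(t)/⟨t⟩` is `Alt 8`. -/
theorem Hyp.bar_alt (hc : Nat.card ↥(centZt Z t) = 360) : Nonempty (Bar t ≃* alternatingGroup (Fin 8)) := by
  classical
  obtain ⟨P, hP⟩ := H.barE_sylow F K
  obtain ⟨φ, ⟨e⟩, -, hsgn⟩ := H.bar_shape F K
  have eL : ↥(normalizer (zpowers (barMap t (H.zC F K)) : Set (Bar t))) ≃* EightLocal.Pairs :=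
    e.trans (MulEquiv.subgroupCongr (hsgn hc))
  have hCE := (H.card_CE F K).1 hc
  have hN := H.bar_card_N F K
  have hz := H.bar_card_z F K
  obtain ⟨φ', t', Dt⟩ := EightLocal.exists_data (P := P) (z := barMap t (H.zC F K)) (y := barMap t (H.yC F K))
    (by rw [hP]; exact H.barE_comm F K) (by rw [hP]; exact H.card_barE F K) (by rw [hP]; exact H.barE_exp F K)
    (by rw [hP]; exact mem_bar.2 ⟨_, H.Z_le_Ej F K.z_mem, rfl⟩)
    (by rw [hP]; exact mem_bar.2 ⟨_, mul_mem (H.Z_le_Ej F K.z_mem) K.z'_mem, rfl⟩)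
    (by rw [hP]; exact H.bar_gen F K) (by rw [hP]; omega)
    (by rw [H.bar_card_y F K, hCE]) (by rw [hP]; exact H.bar_y_norm F K) (by omega) eL
  have hN' : Nat.card (normalizer ((P : Subgroup (Bar t)) : Set (Bar t))) = 72 := by rw [hP]; omega
  obtain ⟨hn, χ, d, hd, h1, h2, h3, h4, h5⟩ := Dt.main hN'
  have hd' : (d : ℤ) = 7 ∨ (d : ℤ) = 8 := by rcases hd with rfl | rfl <;> simp
  obtain ⟨g, hg⟩ := Dt.exists_hom_alt χ hd' (Dt.restrict χ h1 h2 h3 h4 h5)
  have hA : Nat.card (alternatingGroup (Fin 8)) = 20160 := by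
    have h := two_mul_nat_card_alternatingGroup (α := Fin 8)
    rw [Nat.card_eq_fintype_card (α := Equiv.Perm (Fin 8)), Fintype.card_perm, Fintype.card_fin] at h
    rw [show Nat.factorial 8 = 40320 from rfl] at h
    omega
  have hdvd := Subgroup.card_dvd_of_injective g hg
  have hG : Nat.card (Bar t) = 20160 := by
    rcases hn with h | h
    · exact h
    · rw [hA, h] at hdvd
      norm_num at hdvd
  exact ⟨(MulEquiv.ofBijective g ((Nat.bijective_iff_injective_and_card g).2 ⟨hg, hA.trans hG.symm⟩)).symm⟩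

theorem Hyp.bar_sq_y : ∀ g ∈ centralizer ({barMap t (H.yC F K)} : Set (Bar t)), g ^ 2 ∈ bar t (Ej J t) := by
  intro g hg
  rw [centralizer_bar F.t_two (H.yC F K) (H.J_exp _ (mul_mem (H.Z_le_J F K.z_mem) K.z'_mem.1))] at hg
  obtain ⟨a, ha, rfl⟩ := mem_bar.1 hg
  rw [← map_pow]
  rcases K.sq_y _ (Or.inl rfl) a (mem_centralizer_singleton_iff.1 ha.1) (mem_centralizer_singleton_iff.1 a.2) with h | h
  · exact mem_bar.2 ⟨a ^ 2, by rw [SubmonoidClass.coe_pow, pow_two]; exact h, rfl⟩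
  · refine mem_bar.2 ⟨⟨(a : G) * a * t, h.2⟩, h, ((barMap_eq_iff (H.tt F K) _ _).2 (Or.inr ?_)).symm⟩
    show (a : G) * a * t = ((a ^ 2 : ↥(centralizer ({t} : Set G))) : G) * t
    rw [SubmonoidClass.coe_pow, pow_two]

theorem Hyp.centralizer_barE : centralizer (bar t (Ej J t) : Set (Bar t)) = bar t (CE J t) := by
  have htt := H.tt F K
  ext p
  rw [mem_bar]
  constructor
  · intro h
    obtain ⟨g, rfl⟩ := QuotientGroup.mk'_surjective (tSub t) p
    refine ⟨g, ⟨mem_centralizer_iff.2 fun e he => ?_, g.2⟩, rfl⟩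
    have hh := mem_centralizer_iff.1 h (barMap t ⟨e, he.2⟩) (mem_bar.2 ⟨⟨e, he.2⟩, he, rfl⟩)
    have he' : barMap t ⟨e, he.2⟩ = barMap t (g * ⟨e, he.2⟩ * g⁻¹) := by
      rw [map_mul, map_mul, map_inv]
      exact (mul_inv_eq_iff_eq_mul.2 hh.symm).symm
    have h1 : (g : G) * e * (g : G)⁻¹ = e :=
      eq_of_three F.t_two (H.Ej_exp F K e he) (by rw [conj_pow, H.Ej_exp F K e he, mul_one, mul_inv_cancel])
        (mem_centralizer_singleton_iff.1 he.2) ((barMap_eq_iff htt _ _).1 he')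
    exact (mul_inv_eq_iff_eq_mul.1 h1).symm
  · rintro ⟨g, hg, rfl⟩
    refine mem_centralizer_iff.2 fun x hx => ?_
    obtain ⟨e, he, rfl⟩ := mem_bar.1 hx
    rw [← map_mul, ← map_mul]
    exact congrArg (barMap t) (Subtype.ext (mem_centralizer_iff.1 hg.1 e he))

/-- With all automorphisms, `C(t)/⟨t⟩` is `Sym 8` or the exception. -/
theorem Hyp.bar_sym_or (hc : Nat.card ↥(centZt Z t) = 720) : Nonempty (Bar t ≃* Equiv.Perm (Fin 8)) ∨
    ∃ N : Subgroup (Bar t), N.Normal ∧ Cfsg.generalizedFittingSubgroup (Bar t) = N ∧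
      Nonempty (N ≃* alternatingGroup (Fin 5) × alternatingGroup (Fin 5)) ∧
      (∀ W : Subgroup (Bar t), W.Normal → W ≤ N → W = ⊥ ∨ W = N) ∧
      N.index = 4 ∧ ∀ g : Bar t, g ^ 2 ∈ N := by
  classical
  obtain ⟨P, hP⟩ := H.barE_sylow F K
  obtain ⟨φ, ⟨e⟩, htop, -⟩ := H.bar_shape F K
  have eL : ↥(normalizer (zpowers (barMap t (H.zC F K)) : Set (Bar t))) ≃* EightFour.L :=
    e.trans ((MulEquiv.subgroupCongr (htop hc)).trans Subgroup.topEquiv)
  have hCE := (H.card_CE F K).2 hc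
  have hN := H.bar_card_N F K
  have hz := H.bar_card_z F K
  have hN' : Nat.card (normalizer ((P : Subgroup (Bar t)) : Set (Bar t))) = 144 := by rw [hP]; omega
  obtain ⟨φ', t', Dt⟩ := EightFour.exists_frame (P := P) (z := barMap t (H.zC F K)) (y := barMap t (H.yC F K))
    (by rw [hP]; exact H.barE_comm F K) (by rw [hP]; exact H.card_barE F K) (by rw [hP]; exact H.barE_exp F K)
    (by rw [hP]; exact mem_bar.2 ⟨_, H.Z_le_Ej F K.z_mem, rfl⟩)
    (by rw [hP]; exact mem_bar.2 ⟨_, mul_mem (H.Z_le_Ej F K.z_mem) K.z'_mem, rfl⟩)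
    (by rw [hP]; exact H.bar_gen F K) hN'
    (by rw [H.bar_card_y F K, hCE]) (by rw [hP]; exact H.bar_sq_y F K) (by rw [hP]; exact H.bar_y_norm F K)
    (by omega) eL
  set NP := normalizer ((P : Subgroup (Bar t)) : Set (Bar t))
  set CP := centralizer ((P : Subgroup (Bar t)) : Set (Bar t))
  haveI hcn : (CP.subgroupOf NP).Normal := by
    refine ⟨fun c hc g => ?_⟩
    refine mem_subgroupOf.2 (mem_centralizer_iff.2 fun x hx => ?_)
    have hx' : (g : Bar t)⁻¹ * x * g ∈ (P : Subgroup (Bar t)) := (mem_normalizer_iff''.1 g.2 x).1 hx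
    have h := mem_centralizer_iff.1 (mem_subgroupOf.1 hc) _ hx'
    show x * ((g : Bar t) * c * (g : Bar t)⁻¹) = (g : Bar t) * c * (g : Bar t)⁻¹ * x
    calc x * ((g : Bar t) * c * (g : Bar t)⁻¹) = (g : Bar t) * (((g : Bar t)⁻¹ * x * g) * c) * (g : Bar t)⁻¹ := by group
      _ = (g : Bar t) * (c * ((g : Bar t)⁻¹ * x * g)) * (g : Bar t)⁻¹ := by rw [h]
      _ = _ := by group
  -- `N(P)/C(P)` is dihedral
  have htC : t ∈ CE J t := ⟨mem_centralizer_iff.2 fun e he => mem_centralizer_singleton_iff.1 he.2,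
    mem_centralizer_singleton_iff.2 rfl⟩
  have hcard8 : Nat.card (↥NP ⧸ CP.subgroupOf NP) = 8 := by
    have h := (CP.subgroupOf NP).card_eq_card_quotient_mul_card_subgroup
    have hCP : Nat.card ↥CP = 18 := by
      show Nat.card ↥(centralizer ((P : Subgroup (Bar t)) : Set (Bar t))) = 18
      rw [hP, H.centralizer_barE F K]
      have := card_bar F.t_two htC (inf_le_right : CE J t ≤ _)
      omega
    rw [Nat.card_congr (subgroupOfEquivOfLe (centralizer_le_normalizer _ : CP ≤ NP)).toEquiv, hN', hCP] at h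
    omega
  obtain ⟨b, -, hbt, hbb, hbN, hbz, hbz'⟩ := H.exists_b F K
  obtain ⟨a, haN, haz, hay⟩ := H.exists_swap F K
  have hmem : ∀ {x : G} (hx : x ∈ NE J t), barMap t ⟨x, hx.2⟩ ∈ NP := fun {x} hx => by
    show _ ∈ normalizer ((P : Subgroup (Bar t)) : Set (Bar t))
    rw [hP, H.normalizer_barE F K]
    exact mem_bar.2 ⟨⟨x, hx.2⟩, hx, rfl⟩
  set q := QuotientGroup.mk' (CP.subgroupOf NP)
  set bq := q ⟨_, hmem hbN⟩
  set aq := q ⟨_, hmem haN⟩
  have hq1 : ∀ {x : G} (hx : x ∈ NE J t), q ⟨_, hmem hx⟩ = 1 ↔ x ∈ CE J t := by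
    intro x hx
    rw [QuotientGroup.mk'_apply, QuotientGroup.eq_one_iff, mem_subgroupOf]
    show barMap t ⟨x, hx.2⟩ ∈ centralizer ((P : Subgroup (Bar t)) : Set (Bar t)) ↔ _
    rw [hP, H.centralizer_barE F K, mem_bar]
    constructor
    · rintro ⟨g, hg, he⟩
      rcases (barMap_eq_iff (H.tt F K) _ _).1 he with h | h <;> change x = _ at h <;> rw [h]
      · exact hg
      · exact mul_mem hg htC
    · exact fun h => ⟨⟨x, hx.2⟩, h, rfl⟩
  have hb2 : bq * bq = 1 := by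
    rw [← map_mul]
    refine (hq1 (mul_mem hbN hbN)).2 ?_
    rw [hbb]; exact htC
  have ha2 : aq * aq = 1 := by
    rw [← map_mul]
    refine (hq1 (mul_mem haN haN)).2 ?_
    rcases K.sq_y _ (Or.inl rfl) a hay (mem_centralizer_singleton_iff.1 haN.2) with h | h
    · exact ⟨mem_centralizer_iff.2 fun e he => H.J_comm e he.1 _ h.1, h.2⟩
    · rw [show a * a = a * a * t * t by rw [mul_assoc (a * a), H.tt F K, mul_one]]
      exact mul_mem (⟨mem_centralizer_iff.2 fun e he => H.J_comm e he.1 _ h.1, h.2⟩ : a * a * t ∈ CE J t) htC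
  have hab : bq * aq ≠ aq * bq := by
    intro h
    rw [← map_mul, ← map_mul] at h
    have h' : q (⟨_, hmem haN⟩ * ⟨_, hmem hbN⟩)⁻¹ * q (⟨_, hmem hbN⟩ * ⟨_, hmem haN⟩) = 1 := by
      rw [map_inv, h, inv_mul_cancel]
    rw [← map_mul] at h'
    have hc' := (hq1 (mul_mem (inv_mem (mul_mem haN hbN)) (mul_mem hbN haN))).1 h'
    have hfix : (a * b)⁻¹ * (b * a) * z * ((a * b)⁻¹ * (b * a))⁻¹ = z := by
      rw [← mem_centralizer_iff.1 hc'.1 z (H.Z_le_Ej F K.z_mem), mul_inv_cancel_right]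
    obtain ⟨k, hk⟩ := mem_zpowers_iff.1 haz
    have h1 : b * a * z * (b * a)⁻¹ = a * z * a⁻¹ := by
      rw [show b * a * z * (b * a)⁻¹ = b * (a * z * a⁻¹) * b⁻¹ by group, ← hk, ← conj_zpow, hbz']
    have h2 : a * b * z * (a * b)⁻¹ = (a * z * a⁻¹)⁻¹ := by
      rw [show a * b * z * (a * b)⁻¹ = a * (b * z * b⁻¹) * a⁻¹ by group, hbz, conj_inv]
    have h3 : b * a * z * (b * a)⁻¹ = a * b * z * (a * b)⁻¹ := by
      calc b * a * z * (b * a)⁻¹ = (a * b) * ((a * b)⁻¹ * (b * a) * z * ((a * b)⁻¹ * (b * a))⁻¹) * (a * b)⁻¹ := by group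
        _ = _ := by rw [hfix]
    rw [h1, h2] at h3
    refine H.inv_ne F K (Or.inl rfl) (mul_left_cancel (a := a) (mul_right_cancel (b := a⁻¹) ?_))
    rw [← conj_inv]
    exact h3.symm
  obtain ⟨eNC⟩ := AutPOmega.Groups.dihedral_four hcard8 hb2 ha2 hab
  rcases Dt.ts with hS | hE
  · exact Or.inl (Dt.sym8 eNC hS)
  · have A : EightFour.AltFrame P φ' t' := ⟨Dt, hE, Dt.cent_i_alt eNC hE⟩
    exact Or.inr (A.conclusion hcn eNC)

end Cfsg.Agent.McLThree
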