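import Cfsg.Agent.Lib.McLThree.Frame

/-!
# The automorphisms of `SL₂(5)`

At most 120 automorphisms; the inner ones number 60.
-/

set_option autoImplicit false
set_option linter.style.setOption false

namespace Cfsg.Agent.McLThree

/-- An element of order four. -/
def four5 : SL5 := ⟨!![0, -1; 1, 0], by decide +kernel⟩

theorem gen_word : ∀ σ : SL5, ∃ i j k l : Fin 5, σ = five5 ^ (i : ℕ) * four5 * five5 ^ (j : ℕ) * four5 *
    five5 ^ (k : ℕ) * four5 * five5 ^ (l : ℕ) := by decide +kernel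

theorem four5_facts : four5 * four5 = neg5 ∧ ((five5 * four5) ^ 3 = 1 ∨ (five5 * four5) ^ 3 = neg5) ∧
    (∀ σ : SL5, σ * five5 = five5 * σ → σ * four5 = four5 * σ → σ = 1 ∨ σ = neg5) := by decide +kernel

set_option maxRecDepth 1000000 in
theorem card_fives : (Finset.univ.filter fun a : SL5 => a ^ 5 = 1 ∧ a ≠ 1).card = 24 := by decide +kernel

set_option maxRecDepth 1000000 in
theorem card_pairs : ∀ a ∈ (Finset.univ.filter fun a : SL5 => a ^ 5 = 1 ∧ a ≠ 1),
    (Finset.univ.filter fun b : SL5 => b * b = neg5 ∧ (a * b) ^ 3 = (five5 * four5) ^ 3).card ≤ 5 := by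
  decide +kernel

theorem map_neg5 (α : MulAut SL5) : α neg5 = neg5 := by
  obtain ⟨n2, n1, -, hinv, -, -⟩ := neg5_facts
  rcases hinv (α neg5) (by rw [← map_mul, n2, map_one]) with h | h
  · exact absurd (α.injective (h.trans (map_one α).symm)) n1
  · exact h

theorem mulAut_ext (α β : MulAut SL5) (h1 : α five5 = β five5) (h2 : α four5 = β four5) : α = β :=
  MulEquiv.ext fun σ => by
    obtain ⟨i, j, k, l, rfl⟩ := gen_word σ
    simp only [map_mul, map_pow, h1, h2]

theorem card_mulAut_SL5_le : Nat.card (MulAut SL5) ≤ 120 := by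
  classical
  obtain ⟨-, -, -, -, f5, f1⟩ := neg5_facts
  obtain ⟨hb, hab, -⟩ := four5_facts
  set P := (Finset.univ.filter fun a : SL5 => a ^ 5 = 1 ∧ a ≠ 1).sigma fun a =>
    Finset.univ.filter fun b : SL5 => b * b = neg5 ∧ (a * b) ^ 3 = (five5 * four5) ^ 3 with hP
  have hmem : ∀ α : MulAut SL5, (⟨α five5, α four5⟩ : Σ _ : SL5, SL5) ∈ P := by
    intro α
    rw [hP, Finset.mem_sigma, Finset.mem_filter, Finset.mem_filter]
    refine ⟨⟨Finset.mem_univ _, by rw [← map_pow, f5, map_one], fun h => f1 (α.injective (h.trans (map_one α).symm))⟩,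
      Finset.mem_univ _, by rw [← map_mul, hb, map_neg5], ?_⟩
    rw [← map_mul, ← map_pow]
    rcases hab with h | h
    · rw [h, map_one]
    · rw [h, map_neg5]
  calc Nat.card (MulAut SL5) ≤ Nat.card ↥P :=
        Nat.card_le_card_of_injective (fun α => (⟨_, hmem α⟩ : ↥P)) fun α β e => by
          have e' : (⟨α five5, α four5⟩ : Σ _ : SL5, SL5) = ⟨β five5, β four5⟩ := congrArg Subtype.val e
          exact mulAut_ext α β (congrArg Sigma.fst e') (eq_of_heq (Sigma.mk.inj e').2)
    _ = P.card := Nat.card_eq_finsetCard P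
    _ ≤ 24 * 5 := by
      rw [hP, Finset.card_sigma, ← card_fives, ← smul_eq_mul]
      exact Finset.sum_le_card_nsmul _ _ _ card_pairs
    _ = 120 := rfl

/-- The kernel of conjugation is `⟨-1⟩`. -/
theorem conj_eq_one_iff {σ : SL5} : MulAut.conj σ = 1 ↔ σ = 1 ∨ σ = neg5 := by
  constructor
  · intro h
    refine four5_facts.2.2 σ ?_ ?_
    · have h' : σ * five5 * σ⁻¹ = five5 := congrArg (fun α : MulAut SL5 => α five5) h
      exact mul_inv_eq_iff_eq_mul.1 h'
    · have h' : σ * four5 * σ⁻¹ = four5 := congrArg (fun α : MulAut SL5 => α four5) h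
      exact mul_inv_eq_iff_eq_mul.1 h'
  · rintro (rfl | rfl)
    · exact map_one _
    · refine MulEquiv.ext fun τ => ?_
      show neg5 * τ * neg5⁻¹ = τ
      rw [← neg5_facts.2.2.1 τ, mul_inv_cancel_right]

theorem card_inn : Nat.card ↥(MulAut.conj (G := SL5)).range = 60 := by
  have h := (MulAut.conj (G := SL5)).ker.card_mul_index
  rw [Subgroup.index_ker, card_SL5] at h
  have hk : Nat.card ↥(MulAut.conj (G := SL5)).ker = 2 := by
    rw [show ((MulAut.conj (G := SL5)).ker : Subgroup SL5) = Subgroup.zpowers neg5 from ?_, Nat.card_zpowers,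
      orderOf_eq_prime (by rw [pow_two]; exact neg5_facts.1) neg5_facts.2.1]
    refine le_antisymm (fun σ hσ => ?_) (Subgroup.zpowers_le.2 (conj_eq_one_iff.2 (Or.inr rfl)))
    rcases conj_eq_one_iff.1 hσ with h | h
    · rw [h]; exact one_mem _
    · rw [h]; exact Subgroup.mem_zpowers _
  rw [hk] at h
  omega

end Cfsg.Agent.McLThree
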