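import Cfsg.Agent.Lib.McLThree.Kernel
import Cfsg.Agent.Lib.McLThree.SLAut

/-!
# The order of `C(Z) ∩ C(t)`

`L₀` is normal in `N(Z)`, every element of `N(Z)` is an element of `Q` times one commuting with `t`, and
`C(Z) ∩ C(t)` acts on `L₀/Q` with kernel `Z⟨t⟩`: its order is 360 or 720.
-/

set_option autoImplicit false
set_option linter.unusedSectionVars false
set_option linter.style.haveILetI false

namespace Cfsg.Agent.McLThree

open Subgroup
open scoped Pointwise

universe u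

variable {G : Type u} [Group G] [Finite G] {S : Sylow 3 G} {Z J M₀ L₀ Q : Subgroup G}
  (H : Hyp S Z J M₀ L₀ Q)
include H

/-- `L₀` is normal in `N(Z)`. -/
theorem Hyp.normalizer_le_L : normalizer (Z : Set G) ≤ normalizer (L₀ : Set G) := by
  intro g hg
  refine Subgroup.mem_normalizer_fintype fun x hx => ?_
  have h : L₀.map (MulAut.conj g).toMonoidHom ≤ L₀ := by
    conv_lhs => rw [H.L_eq]
    rw [MonoidHom.map_closure, Subgroup.closure_le]
    rintro _ ⟨y, ⟨hy, k, hk⟩, rfl⟩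
    rw [SetLike.mem_coe, H.L_eq]
    refine Subgroup.subset_closure ⟨mul_mem (mul_mem hg hy) (inv_mem hg), k, ?_⟩
    rw [← hk]
    exact orderOf_injective (MulAut.conj g).toMonoidHom (MulAut.conj g).injective y
  exact h ⟨x, hx, rfl⟩

variable {π : ↥L₀ →* SL5} {t f : G} (F : Frame Q L₀ π t f)
include F

theorem Hyp.t_not_Q : t ∉ Q := fun h => by
  have hd := orderOf_dvd_natCard Q h
  rw [F.t_two, H.Q_card] at hd
  norm_num at hd

/-- `t` acts trivially on `L₀/Q`. -/
theorem Hyp.t_comm_L {c : G} (hc : c ∈ L₀) : t * c * t⁻¹ * c⁻¹ ∈ Q := by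
  have hm : t * c * t⁻¹ * c⁻¹ =
      ((⟨t, F.t_mem⟩ * ⟨c, hc⟩ * ⟨t, F.t_mem⟩⁻¹ * ⟨c, hc⟩⁻¹ : ↥L₀) : G) := rfl
  rw [hm, ← F.ker, map_mul, map_mul, map_mul, map_inv, map_inv, F.t_val, ← neg5_facts.2.2.1,
    mul_inv_cancel_right, mul_inv_cancel]

/-- An element of `N(Z)` is an element of `Q` times one commuting with `t`. -/
theorem Hyp.exists_commute {g : G} (hg : g ∈ normalizer (Z : Set G)) :
    ∃ q ∈ Q, ∃ c ∈ normalizer (Z : Set G), Commute c t ∧ g = q * c := by
  have htt : t * t = 1 := by rw [← pow_two, ← F.t_two, pow_orderOf_eq_one]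
  set s := g * t * g⁻¹ with hs
  have hsL : s ∈ L₀ := (mem_normalizer_iff.1 (H.normalizer_le_L hg) t).1 F.t_mem
  have hss : s * s = 1 := by rw [hs, show g * t * g⁻¹ * (g * t * g⁻¹) = g * (t * t) * g⁻¹ by group, htt]; group
  have hsQ : s ∉ Q := fun h => H.t_not_Q F
    ((mem_normalizer_iff.1 (H.normalizer_le hg) t).2 h)
  have hπ : π ⟨s, hsL⟩ = neg5 := by
    rcases neg5_facts.2.2.2.1 (π ⟨s, hsL⟩) (by rw [← map_mul, show (⟨s, hsL⟩ * ⟨s, hsL⟩ : ↥L₀) = 1 from Subtype.ext hss, map_one]) with h | h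
    · exact absurd ((F.ker _).1 h) hsQ
    · exact h
  set q := t * s with hq
  have hqQ : q ∈ Q := by
    have : q = ((⟨t, F.t_mem⟩ * ⟨s, hsL⟩ : ↥L₀) : G) := rfl
    rw [this, ← F.ker, map_mul, F.t_val, hπ, neg5_facts.1]
  have hti : t⁻¹ = t := inv_eq_of_mul_eq_one_right htt
  have hsi : s⁻¹ = s := inv_eq_of_mul_eq_one_right hss
  -- `q t q⁻¹ = s`
  have hq3 : q * q * q = 1 := by rw [← pow_two, ← pow_succ]; exact H.Q_exp q hqQ
  have hqt : t * q * t = q⁻¹ := by
    rw [hq, mul_inv_rev, hti, hsi, show t * (t * s) * t = t * t * (s * t) by group, htt, one_mul]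
  have hconj : q * t * q⁻¹ = s := by
    have h1 : q * t * q⁻¹ = t * (t * q * t) * q⁻¹ := by
      rw [show t * (t * q * t) * q⁻¹ = t * t * q * t * q⁻¹ by group, htt, one_mul]
    have h2 : q⁻¹ * q⁻¹ = q := by
      rw [← mul_inv_rev]
      exact inv_eq_of_mul_eq_one_right hq3
    rw [h1, hqt, mul_assoc, h2, hq, ← mul_assoc, htt, one_mul]
  refine ⟨q, hqQ, q⁻¹ * g, mul_mem (inv_mem (H.Q_le_normalizer hqQ)) hg, ?_, by group⟩
  show q⁻¹ * g * t = t * (q⁻¹ * g)
  calc q⁻¹ * g * t = q⁻¹ * s * g := by rw [hs]; group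
    _ = q⁻¹ * (q * t * q⁻¹) * g := by rw [hconj]
    _ = _ := by group

/-- `C(Z) ∩ C(t)`. -/
abbrev centZt (Z : Subgroup G) (t : G) : Subgroup G :=
  centralizer (Z : Set G) ⊓ centralizer ({t} : Set G)

theorem Hyp.centZt_inf_Q : centZt Z t ⊓ Q = Z := by
  refine le_antisymm (fun x hx => H.eq_Z_of_t F hx.2 (mem_centralizer_singleton_iff.1 hx.1.2).symm) fun z hz => ?_
  have hc : z ∈ centralizer (Z : Set G) := H.Q_le_cent (H.Z_le_Q hz)
  exact ⟨⟨hc, mem_centralizer_singleton_iff.2 (mem_centralizer_iff.1 (H.L_le_cent F.t_mem) z hz)⟩, H.Z_le_Q hz⟩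

theorem Hyp.card_cent : Nat.card ↥(centralizer (Z : Set G)) = 81 * Nat.card ↥(centZt Z t) := by
  have hset : (Q : Set G) * (centZt Z t : Set G) = (centralizer (Z : Set G) : Set G) := by
    refine Set.Subset.antisymm ?_ fun g hg => ?_
    · rintro _ ⟨a, ha, b, hb, rfl⟩
      exact mul_mem (H.Q_le_cent ha) hb.1
    · obtain ⟨q, hq, c, -, hct, rfl⟩ := H.exists_commute F (H.cent_le hg)
      refine ⟨q, hq, c, ⟨?_, mem_centralizer_singleton_iff.2 hct.eq⟩, rfl⟩
      have h := mul_mem (inv_mem (H.Q_le_cent hq)) hg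
      rwa [inv_mul_cancel_left] at h
  have h := Hall.card_mul_inf Q (centZt Z t)
  rw [hset, inf_comm, H.centZt_inf_Q F, H.card_Z, H.Q_card] at h
  change Nat.card ↥(centralizer (Z : Set G)) * 3 = _ at h
  omega

/-- The automorphism of `L₀/Q` induced by an element of `N(Z)`. -/
noncomputable def Hyp.actFun (c : G) (hc : c ∈ normalizer (Z : Set G)) (σ : SL5) : SL5 :=
  π ⟨c * (Function.surjInv F.surj σ : ↥L₀) * c⁻¹,
    (mem_normalizer_iff.1 (H.normalizer_le_L hc) _).1 (Function.surjInv F.surj σ).2⟩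

theorem Hyp.actFun_apply {c : G} (hc : c ∈ normalizer (Z : Set G)) (x : ↥L₀) :
    H.actFun F c hc (π x) =
      π ⟨c * x * c⁻¹, (mem_normalizer_iff.1 (H.normalizer_le_L hc) _).1 x.2⟩ := by
  set y := Function.surjInv F.surj (π x) with hy
  have hxy : ((x⁻¹ * y : ↥L₀) : G) ∈ Q := (F.ker _).1 (by
    rw [map_mul, map_inv, hy, Function.surjInv_eq F.surj, inv_mul_cancel])
  show π _ = π _
  refine eq_of_inv_mul_eq_one ?_
  rw [← map_inv, ← map_mul, F.ker]
  show (c * (y : G) * c⁻¹)⁻¹ * (c * (x : G) * c⁻¹) ∈ Q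
  rw [show (c * (y : G) * c⁻¹)⁻¹ * (c * (x : G) * c⁻¹) = c * ((x : G)⁻¹ * y)⁻¹ * c⁻¹ by group]
  exact (mem_normalizer_iff.1 (H.normalizer_le hc) _).1 (inv_mem hxy)

/-- The action of `N(Z)` on `L₀/Q`. -/
noncomputable def Hyp.act : ↥(normalizer (Z : Set G)) →* MulAut SL5 where
  toFun c :=
    { toFun := H.actFun F c c.2
      invFun := H.actFun F (c : G)⁻¹ (inv_mem c.2)
      left_inv := fun σ => by
        obtain ⟨x, rfl⟩ := F.surj σ
        rw [H.actFun_apply F c.2, H.actFun_apply F (inv_mem c.2)]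
        exact congrArg π (Subtype.ext (by show (c : G)⁻¹ * ((c : G) * x * (c : G)⁻¹) * (c : G)⁻¹⁻¹ = x; group))
      right_inv := fun σ => by
        obtain ⟨x, rfl⟩ := F.surj σ
        rw [H.actFun_apply F (inv_mem c.2), H.actFun_apply F c.2]
        exact congrArg π (Subtype.ext (by show (c : G) * ((c : G)⁻¹ * x * (c : G)⁻¹⁻¹) * (c : G)⁻¹ = x; group))
      map_mul' := fun σ τ => by
        obtain ⟨x, rfl⟩ := F.surj σ
        obtain ⟨y, rfl⟩ := F.surj τ
        rw [← map_mul, H.actFun_apply F c.2, H.actFun_apply F c.2, H.actFun_apply F c.2, ← map_mul]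
        exact congrArg π (Subtype.ext (by
          show (c : G) * ((x : G) * y) * (c : G)⁻¹ = (c : G) * x * (c : G)⁻¹ * ((c : G) * y * (c : G)⁻¹)
          group)) }
  map_one' := MulEquiv.ext fun σ => by
    obtain ⟨x, rfl⟩ := F.surj σ
    show H.actFun F (1 : G) (one_mem _) (π x) = π x
    rw [H.actFun_apply F]
    exact congrArg π (Subtype.ext (by show (1 : G) * x * (1 : G)⁻¹ = x; group))
  map_mul' := fun a b => MulEquiv.ext fun σ => by
    obtain ⟨x, rfl⟩ := F.surj σ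
    show H.actFun F ((a : G) * b) (mul_mem a.2 b.2) (π x) = H.actFun F a a.2 (H.actFun F b b.2 (π x))
    rw [H.actFun_apply F, H.actFun_apply F b.2, H.actFun_apply F a.2]
    exact congrArg π (Subtype.ext (by
      show (a : G) * b * x * ((a : G) * b)⁻¹ = (a : G) * ((b : G) * x * (b : G)⁻¹) * (a : G)⁻¹
      group))

theorem Hyp.act_apply (c : ↥(normalizer (Z : Set G))) (x : ↥L₀) :
    H.act F c (π x) =
      π ⟨(c : G) * x * (c : G)⁻¹, (mem_normalizer_iff.1 (H.normalizer_le_L c.2) _).1 x.2⟩ :=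
  H.actFun_apply F c.2 x

theorem Hyp.act_eq_one_iff (c : ↥(normalizer (Z : Set G))) :
    H.act F c = 1 ↔ ∀ x ∈ L₀, (c : G) * x * (c : G)⁻¹ * x⁻¹ ∈ Q := by
  constructor
  · intro h x hx
    have h' := congrArg (fun α : MulAut SL5 => α (π ⟨x, hx⟩)) h
    simp only [MulAut.one_apply, H.act_apply F] at h'
    have := (F.ker _).1 (by rw [map_mul, map_inv, h', mul_inv_cancel] :
      π (⟨(c : G) * x * (c : G)⁻¹, (mem_normalizer_iff.1 (H.normalizer_le_L c.2) _).1 hx⟩ * ⟨x, hx⟩⁻¹) = 1)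
    exact this
  · intro h
    refine MulEquiv.ext fun σ => ?_
    obtain ⟨x, rfl⟩ := F.surj σ
    rw [H.act_apply F, MulAut.one_apply]
    refine eq_of_mul_inv_eq_one ?_
    rw [← map_inv, ← map_mul, F.ker]
    exact h x x.2

theorem Hyp.act_of_mem (c : ↥(normalizer (Z : Set G))) (hc : (c : G) ∈ L₀) :
    H.act F c = MulAut.conj (π ⟨c, hc⟩) := MulEquiv.ext fun σ => by
  obtain ⟨x, rfl⟩ := F.surj σ
  rw [H.act_apply F, MulAut.conj_apply, ← map_inv, ← map_mul, ← map_mul]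
  rfl

/-- The action of `C(Z) ∩ C(t)` on `L₀/Q`. -/
noncomputable def Hyp.actK : ↥(centZt Z t) →* MulAut SL5 :=
  (H.act F).comp (Subgroup.inclusion (inf_le_left.trans H.cent_le))

theorem Hyp.ker_actK {c : ↥(centZt Z t)} : H.actK F c = 1 ↔ ((c : G) ∈ Z ∨ (c : G) * t ∈ Z) := by
  show H.act F _ = 1 ↔ _
  rw [H.act_eq_one_iff F]
  constructor
  · exact fun h => H.kernel_eq F c.2.1 (mem_centralizer_singleton_iff.1 c.2.2) h
  · intro h x hx
    have hZ : ∀ z ∈ Z, z * x * z⁻¹ * x⁻¹ ∈ Q := fun z hz => by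
      rw [← mem_centralizer_iff.1 (H.L_le_cent hx) z hz |>.symm, mul_inv_cancel_right, mul_inv_cancel]
      exact one_mem _
    rcases h with h | h
    · exact hZ _ h
    · show (c : G) * x * (c : G)⁻¹ * x⁻¹ ∈ Q
      have htt : t⁻¹ = t := inv_eq_of_mul_eq_one_right (by rw [← pow_two, ← F.t_two, pow_orderOf_eq_one])
      set z := (c : G) * t
      have hc : (c : G) = z * t := by
        show (c : G) = (c : G) * t * t
        rw [mul_assoc, ← pow_two, show t ^ 2 = 1 by rw [← F.t_two, pow_orderOf_eq_one], mul_one]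
      have hQx := H.t_comm_L F hx
      rw [hc, show z * t * x * (z * t)⁻¹ * x⁻¹ = z * (t * x * t⁻¹ * x⁻¹) * z⁻¹ * (z * x * z⁻¹ * x⁻¹) by group]
      exact mul_mem ((mem_normalizer_iff.1 (H.normalizer_le (H.cent_le (H.Q_le_cent (H.Z_le_Q h)))) _).1 hQx)
        (hZ z h)

theorem Hyp.conj_mem_range (σ : SL5) : MulAut.conj σ ∈ (H.actK F).range := by
  obtain ⟨c, hc, hct⟩ := F.lift σ
  refine ⟨⟨c, H.L_le_cent c.2, mem_centralizer_singleton_iff.2 hct.eq⟩, ?_⟩
  show H.act F _ = _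
  rw [H.act_of_mem F _ (c.2 : ((_ : ↥(normalizer (Z : Set G))) : G) ∈ L₀)]
  exact congrArg MulAut.conj hc

theorem Hyp.card_ker_actK : Nat.card ↥(H.actK F).ker = 6 := by
  have htC : t ∈ centralizer (Z : Set G) := H.L_le_cent F.t_mem
  have htt : t * t = 1 := by rw [← pow_two, ← F.t_two, pow_orderOf_eq_one]
  have hzK : ∀ z ∈ Z, z ∈ centZt Z t := fun z hz => ((H.centZt_inf_Q F).ge hz).1
  have htK : t ∈ centZt Z t := ⟨htC, mem_centralizer_singleton_iff.2 rfl⟩
  have htZ : t ∉ Z := fun h => H.t_not_Q F (H.Z_le_Q h)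
  let e : ↥Z × Bool → ↥(H.actK F).ker := fun p =>
    ⟨⟨(p.1 : G) * bif p.2 then t else 1, mul_mem (hzK _ p.1.2) (by cases p.2 <;> simp [htK, one_mem])⟩, by
      rw [MonoidHom.mem_ker, H.ker_actK F]
      cases p.2
      · exact Or.inl (by simp)
      · refine Or.inr ?_
        show (p.1 : G) * t * t ∈ Z
        rw [mul_assoc, htt, mul_one]; exact p.1.2⟩
  have he : Function.Bijective e := by
    refine ⟨?_, fun k => ?_⟩
    · rintro ⟨a, i⟩ ⟨b, j⟩ h
      have h' : (a : G) * (bif i then t else 1) = (b : G) * bif j then t else 1 :=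
        congrArg (fun k : ↥(H.actK F).ker => ((k : ↥(centZt Z t)) : G)) h
      cases i <;> cases j <;> simp only [cond_true, cond_false, mul_one] at h'
      · exact Prod.ext (Subtype.ext h') rfl
      · exact absurd ((mul_mem_cancel_left b.2).1 (h' ▸ a.2)) htZ
      · exact absurd ((mul_mem_cancel_left a.2).1 (h'.symm ▸ b.2)) htZ
      · exact Prod.ext (Subtype.ext (mul_right_cancel h')) rfl
    · rcases (H.ker_actK F).1 k.2 with h | h
      · exact ⟨(⟨_, h⟩, false), Subtype.ext (Subtype.ext (mul_one _))⟩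
      · refine ⟨(⟨_, h⟩, true), Subtype.ext (Subtype.ext ?_)⟩
        show ((k : ↥(centZt Z t)) : G) * t * t = _
        rw [mul_assoc, htt, mul_one]
  rw [← Nat.card_congr (Equiv.ofBijective e he), Nat.card_prod, H.card_Z, Nat.card_eq_fintype_card]
  rfl

/-- The order of `C(Z) ∩ C(t)` is 360, when only inner automorphisms are induced, or 720. -/
theorem Hyp.card_centZt : (Nat.card ↥(centZt Z t) = 360 ∧ (H.actK F).range = (MulAut.conj (G := SL5)).range) ∨
    (Nat.card ↥(centZt Z t) = 720 ∧ (H.actK F).range = ⊤) := by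
  have hle : (MulAut.conj (G := SL5)).range ≤ (H.actK F).range := by
    rintro _ ⟨σ, rfl⟩
    exact H.conj_mem_range F σ
  have hd := card_dvd_of_le hle
  rw [card_inn] at hd
  have hm := card_le_card_group (H.actK F).range
  have hb := card_mulAut_SL5_le
  have hk := (H.actK F).ker.card_mul_index
  rw [index_ker, H.card_ker_actK F] at hk
  obtain ⟨j, hj⟩ := hd
  have hpos : 0 < Nat.card ↥(H.actK F).range := Nat.card_pos
  have hj2 : j = 1 ∨ j = 2 := by omega
  rcases hj2 with rfl | rfl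
  · exact Or.inl ⟨by omega, (eq_of_le_of_card_ge hle (by rw [card_inn]; omega)).symm⟩
  · exact Or.inr ⟨by omega, eq_top_of_card_eq _ (by omega)⟩

end Cfsg.Agent.McLThree
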