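import Cfsg.Agent.Lib.McLThree.StabFin

/-!
# Finite facts for the centralizer of a nonsingular vector

The rotations fixing `vy` act on three coordinate blocks; affine maps give permutations of nine points.
All checks are run on truth values.
-/

set_option autoImplicit false
set_option synthInstance.maxSize 2000
set_option synthInstance.maxHeartbeats 200000
set_option maxRecDepth 100000

namespace Cfsg.Agent.McLThree

open Model

/-- Membership as a truth value. -/
def mmem (l : List Mat) (a : Mat) : Bool := l.any (meq a)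

theorem mmem_iff {l : List Mat} {a : Mat} : mmem l a = true ↔ a ∈ l := by simp [mmem, meq]

/-- All vectors. -/
def f81 : List V := f3.flatMap fun a => f3.flatMap fun b => f3.flatMap fun c => f3.map fun d => (a, b, c, d)

theorem mem_f81 (v : V) : v ∈ f81 := by
  obtain ⟨a, b, c, d⟩ := v
  simp only [f81, List.mem_flatMap, List.mem_map]
  exact ⟨a, mem_f3 a, b, mem_f3 b, c, mem_f3 c, d, mem_f3 d, rfl⟩

theorem sub_chk : ((four.all (mmem twelve)) && (twelve.all (mmem rot24)) && mmem rot24 tMat &&
    mmem four Model.one) = true := by decide +kernel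

theorem four_sub {m : Mat} (h : m ∈ four) : m ∈ twelve :=
  mmem_iff.1 (List.all_eq_true.1 (by have := sub_chk; simp only [Bool.and_eq_true] at this; exact this.1.1.1) m h)

theorem twelve_sub {m : Mat} (h : m ∈ twelve) : m ∈ rot24 :=
  mmem_iff.1 (List.all_eq_true.1 (by have := sub_chk; simp only [Bool.and_eq_true] at this; exact this.1.1.2) m h)

theorem one_mem_four : Model.one ∈ four :=
  mmem_iff.1 (by have := sub_chk; simp only [Bool.and_eq_true] at this; exact this.2)

theorem rot_closed_chk : (rot24.all fun m => rot24.all fun n => mmem rot24 (comp m n)) = true := by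
  decide +kernel

theorem rot_closed {m n : Mat} (hm : m ∈ rot24) (hn : n ∈ rot24) : comp m n ∈ rot24 :=
  mmem_iff.1 (List.all_eq_true.1 (List.all_eq_true.1 rot_closed_chk m hm) n hn)

theorem four_norm_chk : (rot24.all fun m => rot24.all fun n => !(meq (comp m n) Model.one) ||
    four.all fun k => mmem four (comp (comp m k) n)) = true := by
  decide +kernel

theorem four_norm {m n k : Mat} (hm : m ∈ rot24) (hn : n ∈ rot24) (h : comp m n = Model.one) (hk : k ∈ four) :
    comp (comp m k) n ∈ four := by
  have h1 := List.all_eq_true.1 (List.all_eq_true.1 four_norm_chk m hm) n hn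
  simp only [meq, h, decide_true, Bool.not_true, Bool.false_or] at h1
  exact mmem_iff.1 (List.all_eq_true.1 h1 k hk)

theorem four_group_chk : (four.all fun m => meq (comp m m) Model.one &&
    four.all fun n => mmem four (comp m n) && meq (comp m n) (comp n m)) = true := by
  decide +kernel

theorem four_sq {m : Mat} (hm : m ∈ four) : comp m m = Model.one := by
  have h1 := List.all_eq_true.1 four_group_chk m hm
  simp only [Bool.and_eq_true, meq, decide_eq_true_eq] at h1
  exact h1.1

theorem four_mul {m n : Mat} (hm : m ∈ four) (hn : n ∈ four) :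
    comp m n ∈ four ∧ comp m n = comp n m := by
  have h1 := List.all_eq_true.1 four_group_chk m hm
  simp only [Bool.and_eq_true] at h1
  have h2 := List.all_eq_true.1 h1.2 n hn
  simp only [Bool.and_eq_true, mmem_iff, meq, decide_eq_true_eq] at h2
  exact h2

/-- The cosets of the four group in the twelve rotations. -/
def chi (m : Mat) : ZMod 3 :=
  if mmem four m then 0 else if mmem (four.map (comp cycM)) m then 1 else 2

theorem chi_chk : (twelve.all fun m =>
    (decide (chi m = 0) == mmem four m) &&
    (meq m Model.one || !(meq (comp m (comp m m)) Model.one) || !(decide (chi m = 0))) &&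
    twelve.all fun n => mmem twelve (comp m n) && decide (chi (comp m n) = chi m + chi n)) = true := by
  decide +kernel

theorem chi_mul {m n : Mat} (hm : m ∈ twelve) (hn : n ∈ twelve) :
    comp m n ∈ twelve ∧ chi (comp m n) = chi m + chi n := by
  have h1 := List.all_eq_true.1 chi_chk m hm
  simp only [Bool.and_eq_true] at h1
  have h2 := List.all_eq_true.1 h1.2 n hn
  simpa [mmem_iff] using h2

theorem chi_zero {m : Mat} (hm : m ∈ twelve) : chi m = 0 ↔ m ∈ four := by
  have h1 := List.all_eq_true.1 chi_chk m hm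
  simp only [Bool.and_eq_true, beq_iff_eq] at h1
  rw [← mmem_iff, ← h1.1.1, decide_eq_true_eq]

theorem chi_three {m : Mat} (hm : m ∈ twelve) (h3 : comp m (comp m m) = Model.one) (h1 : m ≠ Model.one) :
    chi m ≠ 0 := by
  have h := List.all_eq_true.1 chi_chk m hm
  simp only [Bool.and_eq_true] at h
  have h' := h.1.2
  simp [meq, h1, h3] at h'
  exact h'

theorem four_fix_chk : (f81.all fun v => !(four.all fun m => veq (app m v) v) || veq v (sc v.1 vy)) = true := by
  decide +kernel

theorem four_fix {v : V} (h : ∀ m ∈ four, app m v = v) : v = sc v.1 vy := by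
  have h1 := List.all_eq_true.1 four_fix_chk v (mem_f81 v)
  have h2 : (four.all fun m => veq (app m v) v) = true :=
    List.all_eq_true.2 fun m hm => by simp [veq, h m hm]
  rw [h2] at h1
  simpa [veq] using h1

theorem odd_chk : (rot24.all fun a => mmem twelve a || rot24.all fun m => mmem twelve m ||
    twelve.any fun n => meq m (comp a n)) = true := by
  decide +kernel

theorem odd_cover {a m : Mat} (ha : a ∈ rot24) (ha' : a ∉ twelve) (hm : m ∈ rot24) (hm' : m ∉ twelve) :
    ∃ n ∈ twelve, m = comp a n := by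
  have h1 := List.all_eq_true.1 odd_chk a ha
  simp only [Bool.or_eq_true, mmem_iff, ha', false_or] at h1
  have h2 := List.all_eq_true.1 h1 m hm
  simp only [Bool.or_eq_true, mmem_iff, hm', false_or] at h2
  simpa [meq] using h2

/-- A singular vector orthogonal to `vy`. -/
def axisB (c : V) : Bool := !(veq c 0) && decide (qf c = 0) && decide (bil c vy = 0)

theorem axis_chk : (rot24.all fun m => !(meq (comp m (comp m m)) Model.one) || meq m Model.one ||
    ((f81.any fun c => axisB c && veq (app m c) c) &&
    f81.all fun c => !(axisB c && veq (app m c) c) ||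
      ((f81.all fun v => !(veq (app m v) v) || f9.any fun ij => veq v (sc ij.1 vy + sc ij.2 c)) &&
      rot24.all fun n => !(veq (app n c) c) || meq n Model.one || meq n m || meq n (comp m m)))) = true := by
  decide +kernel

/-- An axis of a rotation of order three. -/
def Axis (m : Mat) (c : V) : Prop := c ≠ 0 ∧ qf c = 0 ∧ bil c vy = 0 ∧ app m c = c

theorem axisB_iff {m : Mat} {c : V} : (axisB c && veq (app m c) c) = true ↔ Axis m c := by
  simp [axisB, Axis, veq, and_assoc]

theorem exists_axis {m : Mat} (hm : m ∈ rot24) (h3 : comp m (comp m m) = Model.one) (h1 : m ≠ Model.one) :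
    ∃ c, Axis m c := by
  have h := List.all_eq_true.1 axis_chk m hm
  simp only [meq, h3, h1, decide_true, decide_false, Bool.not_true, Bool.false_or, Bool.and_eq_true] at h
  obtain ⟨c, -, hc⟩ := List.any_eq_true.1 h.1
  exact ⟨c, axisB_iff.1 hc⟩

theorem axis_facts {m : Mat} (hm : m ∈ rot24) (h3 : comp m (comp m m) = Model.one) (h1 : m ≠ Model.one)
    {c : V} (hc : Axis m c) : (∀ v, app m v = v → ∃ i j, v = sc i vy + sc j c) ∧
      ∀ n ∈ rot24, app n c = c → n = Model.one ∨ n = m ∨ n = comp m m := by
  have h := List.all_eq_true.1 axis_chk m hm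
  simp only [meq, h3, h1, decide_true, decide_false, Bool.not_true, Bool.false_or, Bool.and_eq_true] at h
  have h' := List.all_eq_true.1 h.2 c (mem_f81 c)
  rw [axisB_iff.2 hc] at h'
  simp only [Bool.not_true, Bool.false_or, Bool.and_eq_true] at h'
  constructor
  · intro v hv
    have h2 := List.all_eq_true.1 h'.1 v (mem_f81 v)
    simp only [veq, hv, decide_true, Bool.not_true, Bool.false_or] at h2
    obtain ⟨ij, -, hij⟩ := List.any_eq_true.1 h2
    exact ⟨ij.1, ij.2, of_decide_eq_true hij⟩
  · intro n hn hnc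
    have h2 := List.all_eq_true.1 h'.2 n hn
    simpa [veq, hnc, meq, or_assoc] using h2

/-- Both images lie in and span the plane of `vw1` and `vw2`. -/
def toPlane (M : Mat) (b : V) : Bool :=
  decide ((app M vy).1 = 0) && decide ((app M vy).2.2.2 = 0) && decide ((app M b).1 = 0) &&
    decide ((app M b).2.2.2 = 0) &&
    f9.all fun pq => f9.any fun ij => veq ((0, pq.1, pq.2, 0) : V) (sc ij.1 (app M vy) + sc ij.2 (app M b))

theorem plane_chk : (f81.all fun b => (f3.any fun i => decide (qf (b + sc i vy) = 0)) ||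
    f9.any fun ab => f9.any fun cd => toPlane (comp (uni ab.1 ab.2) (lo cd.1 cd.2)) b) = true := by
  decide +kernel

theorem exists_to_plane {b : V} (hb : ∀ i, qf (b + sc i vy) ≠ 0) :
    ∃ a₁ a₂ c₁ c₂ : ZMod 3, ∀ v : V, v.1 = 0 → v.2.2.2 = 0 →
      ∃ i j, v = app (comp (uni a₁ a₂) (lo c₁ c₂)) (sc i vy + sc j b) := by
  have h := List.all_eq_true.1 plane_chk b (mem_f81 b)
  simp only [Bool.or_eq_true, List.any_eq_true, decide_eq_true_eq] at h
  rcases h with ⟨i, -, hi⟩ | ⟨ab, -, cd, -, hM⟩
  · exact absurd hi (hb i)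
  · refine ⟨ab.1, ab.2, cd.1, cd.2, fun v h1 h4 => ?_⟩
    simp only [toPlane, Bool.and_eq_true, List.all_eq_true, List.any_eq_true, veq, decide_eq_true_eq] at hM
    obtain ⟨ij, -, e⟩ := hM.2 (v.2.1, v.2.2.1) (mem_f9 _)
    refine ⟨ij.1, ij.2, ?_⟩
    have hv : v = (0, v.2.1, v.2.2.1, 0) := blk_of v h1 h4
    rw [hv, e]
    simp only [app, sc, Prod.ext_iff, Prod.fst_add, Prod.snd_add]
    refine ⟨?_, ?_, ?_, ?_⟩ <;> ring

theorem uni_cube_chk : (f9.all fun ab => meq (uni ab.1 ab.2) Model.one || f81.all fun v =>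
    !(veq (v + app (uni ab.1 ab.2) v + app (uni ab.1 ab.2) (app (uni ab.1 ab.2) v)) 0) ||
      decide (v.2.2.2 = 0)) = true := by
  decide +kernel

theorem uni_cube {a b : ZMod 3} (h : uni a b ≠ Model.one) {v : V}
    (hv : v + app (uni a b) v + app (uni a b) (app (uni a b) v) = 0) : v.2.2.2 = 0 := by
  have h1 := List.all_eq_true.1 uni_cube_chk (a, b) (mem_f9 _)
  simp only [meq, h, decide_false, Bool.false_or] at h1
  have h2 := List.all_eq_true.1 h1 v (mem_f81 v)
  simp only [veq, hv, decide_true, Bool.not_true, Bool.false_or, decide_eq_true_eq] at h2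
  exact h2

theorem uni_fixes : uni 1 (-1) ≠ Model.one ∧ app (uni 1 (-1)) ((0, 1, 1, 0) : V) = (0, 1, 1, 0) := by
  decide +kernel

theorem mover_chk : (f9.any fun ab => f9.any fun cd =>
    veq (app (comp (uni ab.1 ab.2) (lo cd.1 cd.2)) ((0, 1, 1, 0) : V)) vy) = true := by
  decide +kernel

theorem exists_mover :
    ∃ a₁ a₂ c₁ c₂ : ZMod 3, app (comp (uni a₁ a₂) (lo c₁ c₂)) ((0, 1, 1, 0) : V) = vy := by
  have h := mover_chk
  simp only [List.any_eq_true, veq, decide_eq_true_eq] at h
  obtain ⟨ab, -, cd, -, e⟩ := h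
  exact ⟨_, _, _, _, e⟩

/-- The nine points. -/
abbrev Pt : Type := Fin 3 × ZMod 3

/-- The points in a list. -/
def ptList : List Pt := ([0, 1, 2] : List (Fin 3)).flatMap fun i => f3.map fun a => (i, a)

theorem mem_ptList : ∀ p : Pt, p ∈ ptList := by decide +kernel

/-- The axes. -/
def ax : Fin 3 → V := ![vys, vw1, vw2]

/-- The index of an axis. -/
def axOf (v : V) : Fin 3 := if bil v vys ≠ 0 then 0 else if bil v vw1 ≠ 0 then 1 else 2

/-- The linear part. -/
def linFun (m : Mat) (p : Pt) : Pt :=
  (axOf (app m (ax p.1)), bil (app m (ax p.1)) (ax (axOf (app m (ax p.1)))) * p.2)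

/-- The translation part. -/
def tauFun (v : V) (p : Pt) : Pt := (p.1, p.2 + bil v (ax p.1))

/-- The affine map of a vector and a matrix. -/
def aff (v : V) (m : Mat) (p : Pt) : Pt := tauFun v (linFun m p)

theorem tau_add (v w : V) (p : Pt) : tauFun v (tauFun w p) = tauFun (v + w) p := by
  obtain ⟨i, x⟩ := p
  simp only [tauFun, bil, Prod.fst_add, Prod.snd_add, Prod.mk.injEq, true_and]
  ring

theorem lin_comp_chk : (rot24.all fun m => rot24.all fun n => ptList.all fun p =>
    decide (linFun (comp m n) p = linFun m (linFun n p))) = true := by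
  decide +kernel

theorem lin_tau_chk : (rot24.all fun m => f81.all fun v => ptList.all fun p =>
    decide (linFun m (tauFun v p) = tauFun (app m v) (linFun m p))) = true := by
  decide +kernel

theorem aff_mul {m n : Mat} (hm : m ∈ rot24) (hn : n ∈ rot24) (v w : V) (p : Pt) :
    aff v m (aff w n p) = aff (v + app m w) (comp m n) p := by
  have h1 := List.all_eq_true.1 (List.all_eq_true.1 (List.all_eq_true.1 lin_tau_chk m hm) w (mem_f81 w))
    (linFun n p) (mem_ptList _)
  have h2 := List.all_eq_true.1 (List.all_eq_true.1 (List.all_eq_true.1 lin_comp_chk m hm) n hn) p (mem_ptList _)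
  rw [aff, aff, of_decide_eq_true h1, tau_add, ← of_decide_eq_true h2, aff]

theorem aff_one : ∀ p, aff 0 Model.one p = p := by decide +kernel

theorem aff_vy_chk : (f3.all fun c => ptList.all fun p => decide (tauFun (sc c vy) p = p)) = true := by
  decide +kernel

theorem aff_shift (c : ZMod 3) (v : V) (m : Mat) (p : Pt) : aff (v + sc c vy) m p = aff v m p := by
  have h := of_decide_eq_true (List.all_eq_true.1 (List.all_eq_true.1 aff_vy_chk c (mem_f3 c)) (linFun m p)
    (mem_ptList _))
  rw [aff, aff, ← tau_add, h]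

theorem aff_inj_chk : (rot24.all fun m => f81.all fun v =>
    !(ptList.all fun p => decide (aff v m p = p)) || (meq m Model.one && veq v (sc v.1 vy))) = true := by
  decide +kernel

theorem aff_inj {m : Mat} (hm : m ∈ rot24) {v : V} (h : ∀ p, aff v m p = p) :
    m = Model.one ∧ v = sc v.1 vy := by
  have h1 := List.all_eq_true.1 (List.all_eq_true.1 aff_inj_chk m hm) v (mem_f81 v)
  have h2 : (ptList.all fun p => decide (aff v m p = p)) = true := List.all_eq_true.2 fun p _ => decide_eq_true (h p)
  rw [h2] at h1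
  simpa [meq, veq] using h1

/-- The points as numbers. -/
def num : Pt ≃ Fin 9 where
  toFun p := ⟨3 * (p.1 : ℕ) + p.2.val, by have h1 := p.1.2; have h2 := ZMod.val_lt p.2; omega⟩
  invFun i := (⟨(i : ℕ) / 3, by omega⟩, ((i : ℕ) : ZMod 3))
  left_inv := by decide +kernel
  right_inv := by decide +kernel

/-- The permutation is an affine map with linear part in the list. -/
def isAff (l : List Mat) (g : Equiv.Perm (Fin 9)) : Bool :=
  f81.any fun v => l.any fun m => ptList.all fun p => decide (num (aff v m p) = g (num p))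

theorem isAff_spec {l : List Mat} {g : Equiv.Perm (Fin 9)} (h : isAff l g = true) :
    ∃ v, ∃ m ∈ l, ∀ p, num (aff v m p) = g (num p) := by
  simp only [isAff, List.any_eq_true, List.all_eq_true, decide_eq_true_eq] at h
  obtain ⟨v, -, m, hm, hp⟩ := h
  exact ⟨v, m, hm, fun p => hp p (mem_ptList p)⟩

theorem small_gens : ([Equiv.swap (0 : Fin 9) 1 * Equiv.swap 1 2, Equiv.swap (3 : Fin 9) 4 * Equiv.swap 4 5,
    Equiv.swap (6 : Fin 9) 7 * Equiv.swap 7 8, Equiv.swap (0 : Fin 9) 1 * Equiv.swap 3 4,
    Equiv.swap (0 : Fin 9) 1 * Equiv.swap 6 7].all (isAff four)) = true := by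
  decide +kernel

theorem large_gens : ([Equiv.swap (0 : Fin 9) 1 * Equiv.swap 1 2,
    Equiv.swap (0 : Fin 9) 3 * Equiv.swap 3 6 * (Equiv.swap (1 : Fin 9) 4 * Equiv.swap 4 7) *
      (Equiv.swap (2 : Fin 9) 5 * Equiv.swap 5 8),
    Equiv.swap (0 : Fin 9) 1 * Equiv.swap 3 4,
    Equiv.swap (0 : Fin 9) 3 * Equiv.swap 1 4 * Equiv.swap 2 5 * Equiv.swap 6 7].all (isAff rot24)) = true := by
  decide +kernel

theorem counts : four.length = 4 ∧ rot24.length = 24 := ⟨rfl, rfl⟩

end Cfsg.Agent.McLThree
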