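import Cfsg.Agent.Lib.McLThree.StabFin

/-!
# The stabilizer in `N(J)` of the vector `z z'`

It acts on `J` as the twelve (or twenty-four) rotations of the orthogonal complement.
-/

set_option autoImplicit false
set_option linter.unusedSectionVars false
set_option linter.style.haveILetI false
set_option synthInstance.maxSize 2000
set_option synthInstance.maxHeartbeats 200000

namespace Cfsg.Agent.McLThree

open Subgroup
open Model

universe u

theorem app_add' (m : Mat) (a b : V) : app m (a + b) = app m a + app m b := by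
  simp only [app, sc, Prod.ext_iff, Prod.fst_add, Prod.snd_add]
  refine ⟨?_, ?_, ?_, ?_⟩ <;> ring

/-- The linear map of a matrix. -/
def appHom (m : Mat) : V →+ V where
  toFun := app m
  map_zero' := by simp [app, sc, Prod.ext_iff]
  map_add' := app_add' m

theorem eq_mono_mat {m : Mat} (h : app m vy = vy) : m = mono (app m vys) m.2.1 m.2.2.1 := by
  obtain ⟨e1, e2, e3, e4⟩ := app_basis m
  have h' := eq_mono (appHom m) h
  simp only [matOf, appHom, AddMonoidHom.coe_mk, ZeroHom.coe_mk, e1, e2, e3, e4] at h'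
  exact h'

theorem det4_swp (p q : ZMod 3 × ZMod 3) : det4 (swp p q) = -(p.1 * q.2 - p.2 * q.1) := by
  simp [det4, toM, crd, swp, vz, vz', Matrix.det_succ_row_zero, Fin.sum_univ_succ, Fin.succAbove]
  ring

/-- A minor of a matrix. -/
def minor (b c d : ZMod 3 × ZMod 3 × ZMod 3) : ZMod 3 :=
  b.1 * (c.2.1 * d.2.2 - c.2.2 * d.2.1) - c.1 * (b.2.1 * d.2.2 - b.2.2 * d.2.1) +
    d.1 * (b.2.1 * c.2.2 - b.2.2 * c.2.1)

/-- The determinant, expanded along the first row. -/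
def det4f (m : Mat) : ZMod 3 :=
  m.1.1 * minor m.2.1.2 m.2.2.1.2 m.2.2.2.2 - m.2.1.1 * minor m.1.2 m.2.2.1.2 m.2.2.2.2 +
    m.2.2.1.1 * minor m.1.2 m.2.1.2 m.2.2.2.2 - m.2.2.2.1 * minor m.1.2 m.2.1.2 m.2.2.1.2

theorem det4_eq (m : Mat) : det4 m = det4f m := by
  simp [det4, det4f, minor, toM, crd, Matrix.det_succ_row_zero, Fin.sum_univ_succ, Fin.succAbove]
  ring

set_option maxRecDepth 100000 in
theorem frames_det : ∀ a ∈ six, ∀ b ∈ six, ∀ c ∈ six, bil a b = 0 → bil a c = 0 → bil b c = 0 →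
    det4f (mono a b c) = 1 → mono a b c ∈ rot24 := by
  decide +kernel

variable {G : Type u} [Group G] [Finite G] {S : Sylow 3 G} {Z J M₀ L₀ Q : Subgroup G}
  (H : Hyp S Z J M₀ L₀ Q) {π : ↥L₀ →* SL5} {t f : G} (F : Frame Q L₀ π t f)
  {ρ : ↥M₀ →* Six.A6} {u w : G} (B : Base S J M₀ t ρ u w)
  {z x y : G} (C : Coord Z J Q t w z x y)
include H F B C

local notation "zz" => w * z * w⁻¹

theorem Hyp.emb_vy : emb z zz x y vy = z * zz ∧ emb z zz x y vys = z * zz⁻¹ := by
  obtain ⟨hz, hz', hx, hy⟩ := H.mems F B C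
  constructor
  · simp [emb, vy, zp_zero, zp_one]
  · simp only [emb, vys]
    rw [zp_zero, zp_zero, one_mul, one_mul, zp_one, zp_neg (H.J_exp zz hz'), zp_one]

theorem Hyp.commute_of_acts {n : G} {m : Mat} (hm : Acts z zz x y n m) {v : V} (hv : app m v = v) :
    Commute n (emb z zz x y v) := mul_inv_eq_iff_eq_mul.1 (by rw [hm, hv])

/-- Elements centralizing `z z'` act as rotations. -/
theorem Hyp.stab_cases {n : G} (hn : n ∈ normalizer (J : Set G)) (hny : Commute n (z * zz)) {m : Mat}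
    (hm : Acts z zz x y n m) : m ∈ rot24 := by
  obtain ⟨m', hm', hμ, hsim⟩ := H.exists_acts F B C hn
  obtain rfl := H.acts_unique F B C hm' hm
  have hvy : app m' vy = vy := C.inj (by
    rw [← hm, (H.emb_vy F B C).1, hny.eq, mul_inv_cancel_right])
  have hμ1 : mult m' = 1 := by
    have h := hsim vy
    rw [hvy, show qf vy = 1 by decide, mul_one] at h
    exact h.symm
  have hdet : det4 m' = 1 := by rw [H.det_eq_mult F B C hn hm, hμ1]
  have hsix : ∀ v : V, qf v = -1 → bil v vy = 0 → app m' v ∈ six := fun v h1 h2 =>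
    mem_six _ (by rw [hsim, hμ1, one_mul, h1]) (by
      have := bil_app m' v vy hsim
      rwa [hvy, hμ1, h2, one_mul] at this)
  have horth : ∀ v v' : V, bil v v' = 0 → bil (app m' v) (app m' v') = 0 := fun v v' h => by
    rw [bil_app m' v v' hsim, h, mul_zero]
  have e := eq_mono_mat hvy
  have ha := hsix vys (by decide) (by decide)
  have hb := hsix vw1 (by decide) (by decide)
  have hc := hsix vw2 (by decide) (by decide)
  have o1 := horth vys vw1 (by decide)
  have o2 := horth vys vw2 (by decide)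
  have o3 := horth vw1 vw2 (by decide)
  rw [(app_basis m').2.1] at hb o1 o3
  rw [(app_basis m').2.2.1] at hc o2 o3
  rw [e, det4_eq] at hdet
  rw [e]
  exact frames_det _ ha _ hb _ hc o1 o2 o3 hdet

theorem Hyp.w_swp : ∃ p q : ZMod 3 × ZMod 3, Acts z zz x y w (swp p q) ∧
    p.1 * p.1 + p.2 * p.2 = 1 ∧ q.1 * q.1 + q.2 * q.2 = 1 ∧ p.1 * q.1 + p.2 * q.2 = 0 ∧
    p.1 * q.2 - p.2 * q.1 = -1 := by
  obtain ⟨m, hm, -, hsim⟩ := H.exists_acts F B C (H.M_le B.w_mem)
  obtain ⟨w1, w4⟩ := H.w_basis F B C hm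
  obtain ⟨hd, hμ⟩ := H.det_M F B C B.w_mem m hm
  have horth : ∀ i : V, bil i vz = 0 → bil i vz' = 0 → (app m i).1 = 0 ∧ (app m i).2.2.2 = 0 := by
    intro i hi hi'
    have a1 := bil_app m i vz hsim
    have a4 := bil_app m i vz' hsim
    rw [(app_basis m).1, w1, hi, mul_zero] at a1
    rw [(app_basis m).2.2.2, w4, hi', mul_zero] at a4
    exact (show ∀ v : V, bil v vz' = 0 → bil v vz = 0 → v.1 = 0 ∧ v.2.2.2 = 0 by decide +kernel) _ a1 a4
  obtain ⟨p2, p2'⟩ := horth vw1 (by decide) (by decide)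
  obtain ⟨p3, p3'⟩ := horth vw2 (by decide) (by decide)
  rw [(app_basis m).2.1] at p2 p2'
  rw [(app_basis m).2.2.1] at p3 p3'
  have e : m = swp (m.2.1.2.1, m.2.1.2.2.1) (m.2.2.1.2.1, m.2.2.1.2.2.1) := by
    unfold swp
    ext1; · exact w1
    ext1; · exact blk_of _ p2 p2'
    ext1; · exact blk_of _ p3 p3'
    exact w4
  have sa := hsim vw1
  have sb := hsim vw2
  have sab := bil_app m vw1 vw2 hsim
  rw [hμ, one_mul] at sa sb sab
  rw [(app_basis m).2.1] at sa sab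
  rw [(app_basis m).2.2.1] at sb sab
  rw [e, det4_swp] at hd
  simp [qf, bil, vw1, vw2, p2, p2', p3, p3'] at sa sb sab
  refine ⟨_, _, e ▸ hm, ?_, ?_, ?_, ?_⟩
  · linear_combination (-1 : ZMod 3) * sa
  · linear_combination (-1 : ZMod 3) * sb
  · exact (show ∀ e : ZMod 3, -2 * e = 0 → e = 0 by decide) _ (by linear_combination sab)
  · linear_combination (-1 : ZMod 3) * hd

theorem Hyp.exists_lo (a b : ZMod 3) : ∃ n ∈ M₀, Acts z zz x y n (lo a b) := by
  obtain ⟨p, q, hw, hp, hq, hpq, -⟩ := H.w_swp F B C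
  obtain ⟨c, d, e⟩ := lo_conj p q hp hq hpq a b
  obtain ⟨n, hn, hna⟩ := C.trans c d
  refine ⟨w * n * w⁻¹, mul_mem (mul_mem B.w_mem (H.Q_le_M F hn)) (inv_mem B.w_mem), fun v => ?_⟩
  obtain ⟨v', hv'⟩ := C.onto _ ((mem_normalizer_iff''.1 (H.M_le B.w_mem) _).1 (H.emb_J F B C v))
  have hv : app (swp p q) v' = v := C.inj (by rw [← hw, hv']; group)
  rw [show w * n * w⁻¹ * emb z zz x y v * (w * n * w⁻¹)⁻¹ =
    w * (n * (w⁻¹ * emb z zz x y v * w) * n⁻¹) * w⁻¹ by group, ← hv', hna, hw, ← app_comp, ← e, app_comp, hv]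

/-- The twelve rotations are induced by elements of `N(J) ∩ C(z z')`. -/
theorem Hyp.image_twelve {m : Mat} (hm : m ∈ twelve) :
    ∃ n ∈ normalizer (J : Set G), Acts z zz x y n m := by
  obtain ⟨a, b, e⟩ := lo_cyc
  obtain ⟨q, hq, hqa⟩ := C.trans (-1) (-1)
  obtain ⟨q', hq', hq'a⟩ := C.trans 1 1
  obtain ⟨l, hl, hla⟩ := H.exists_lo F B C a b
  have hQN : ∀ q ∈ Q, q ∈ normalizer (J : Set G) := fun q hq => H.S_le_normalizer_J F (H.Q_le_S hq)
  obtain ⟨c, hc, hca⟩ : ∃ c ∈ normalizer (J : Set G), Acts z zz x y c cycM :=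
    ⟨q * l * q', mul_mem (mul_mem (hQN q hq) (H.M_le hl)) (hQN q' hq'), e ▸ (Acts.mul (Acts.mul hqa hla) hq'a)⟩
  have ht := H.acts_t F B C
  rw [← tMat_eq] at ht
  have htN := H.t_norm_J F
  obtain ⟨-, -, h2, h3⟩ := twelve_facts
  have hfour : ∀ m ∈ four, ∃ n ∈ normalizer (J : Set G), Acts z zz x y n m := by
    intro m hm
    simp only [four, List.mem_cons, List.not_mem_nil, or_false] at hm
    rcases hm with rfl | rfl | rfl | rfl
    · exact ⟨1, one_mem _, Acts.one_one z zz x y⟩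
    · exact ⟨t, htN, ht⟩
    · exact ⟨c * t * (c * c), mul_mem (mul_mem hc htN) (mul_mem hc hc), h2 ▸ (hca.mul ht).mul (hca.mul hca)⟩
    · exact ⟨c * c * t * c, mul_mem (mul_mem (mul_mem hc hc) htN) hc, h3 ▸ ((hca.mul hca).mul ht).mul hca⟩
  simp only [twelve, List.mem_append, List.mem_map] at hm
  rcases hm with (hm | ⟨m', hm', rfl⟩) | ⟨m', hm', rfl⟩
  · exact hfour m hm
  · obtain ⟨n, hn, hna⟩ := hfour m' hm'
    exact ⟨c * n, mul_mem hc hn, hca.mul hna⟩
  · obtain ⟨n, hn, hna⟩ := hfour m' hm'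
    exact ⟨c * c * n, mul_mem (mul_mem hc hc) hn, (hca.mul hca).mul hna⟩

theorem Hyp.mem_Ej_of_acts {n : G} (hnt : Commute n t) (hn : Acts z zz x y n Model.one) :
    n ∈ Ej J t := by
  refine ⟨H.cent_J F (mem_centralizer_iff.2 fun a ha => ?_), mem_centralizer_singleton_iff.2 hnt.eq⟩
  obtain ⟨v, rfl⟩ := C.onto a ha
  exact (H.commute_of_acts F B C hn (uni_steps.2.2 v)).eq.symm

theorem Hyp.acts_commute_t {n : G} {m : Mat} (hnt : Commute n t) (hm : Acts z zz x y n m) :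
    comp m tMat = comp tMat m :=
  H.acts_unique F B C (hm.mul (H.acts_t F B C)) (by rw [hnt.eq]; exact (H.acts_t F B C).mul hm)

theorem Hyp.comp_tMat : comp tMat tMat = Model.one := by decide +kernel

/-- (F3) -/
theorem Hyp.sq_stab {h : G} (ht : Commute h t) (hy : Commute h (z * zz)) (hJ : h ∈ normalizer (J : Set G)) :
    h * h ∈ Ej J t ∨ h * h * t ∈ Ej J t := by
  obtain ⟨m, hm, -, -⟩ := H.exists_acts F B C hJ
  rcases eight_sq m (cent_tMat m (H.stab_cases F B C hJ hy hm) (H.acts_commute_t F B C ht hm)) with e | e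
  · exact Or.inl (H.mem_Ej_of_acts F B C (ht.mul_left ht) (e ▸ hm.mul hm))
  · have h1 := (hm.mul hm).mul (H.acts_t F B C)
    rw [e, H.comp_tMat F B C] at h1
    exact Or.inr (H.mem_Ej_of_acts F B C ((ht.mul_left ht).mul_left (Commute.refl t)) h1)

theorem Hyp.fused_t_fix {n i : G} (hn : n ∈ normalizer (J : Set G)) (e : n * t * n⁻¹ = i) {m : Mat}
    (hm : Acts z zz x y i m) : ∃ v : V, v ≠ 0 ∧ qf v = 0 ∧ app m v = v := by
  obtain ⟨mn, hmn, hμ, hsim⟩ := H.exists_acts F B C hn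
  refine ⟨app mn vz, fun h => ?_, by rw [hsim, show qf vz = 0 by decide, mul_zero], C.inj ?_⟩
  · have := hmn vz
    rw [h, (emb_basis z zz x y).1, (emb_basis z zz x y).2.1] at this
    exact C.z_ne (_root_.conj_eq_one_iff.1 this)
  · rw [← hm, ← hmn, ← e,
      show n * t * n⁻¹ * (n * emb z zz x y vz * n⁻¹) * (n * t * n⁻¹)⁻¹ = n * (t * emb z zz x y vz * t⁻¹) * n⁻¹ by
        group, H.acts_t F B C]
    congr 4

/-- (F5) -/
theorem Hyp.not_both_fused {i d : G} (hit : Commute i t) (hiy : Commute i (z * zz))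
    (hiJ : i ∈ normalizer (J : Set G)) (hii : i * i = 1) (hi1 : i ≠ 1) (hne : i ≠ t)
    (hdt : Commute d t) (hdz : Commute d z) (hdz' : Commute d zz) (hdJ : d ∈ normalizer (J : Set G))
    (hdd : d * d = t) :
    (∀ n ∈ normalizer (J : Set G), n * t * n⁻¹ ≠ i) ∨ (∀ n ∈ normalizer (J : Set G), n * t * n⁻¹ ≠ i * d) := by
  obtain ⟨m, hm, -, -⟩ := H.exists_acts F B C hiJ
  obtain ⟨r, hr, -, -⟩ := H.exists_acts F B C hdJ
  have hms := H.stab_cases F B C hiJ hiy hm
  have hrs := H.stab_cases F B C hdJ (hdz.mul_right hdz') hr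
  have hm2 : comp m m = Model.one :=
    H.acts_unique F B C (hm.mul hm) (by rw [hii]; exact Acts.one_one z zz x y)
  have hr2 : comp r r = tMat := H.acts_unique F B C (hr.mul hr) (by rw [hdd]; exact H.acts_t F B C)
  have hrys : app r vys = vys := C.inj (by
    rw [← hr, (H.emb_vy F B C).2, (hdz.mul_right hdz'.inv_right).eq, mul_inv_cancel_right])
  rcases rot_invol m (cent_tMat m hms (H.acts_commute_t F B C hit hm)) hm2 with e | e | e
  · exfalso
    have hE := H.mem_Ej_of_acts F B C hit (e ▸ hm)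
    have h3 := H.J_exp i hE.1
    rw [pow_succ, pow_two, hii, one_mul] at h3
    exact hi1 h3
  · exfalso
    have h1 := hm.mul (H.acts_t F B C)
    rw [e, H.comp_tMat F B C] at h1
    have hE := H.mem_Ej_of_acts F B C (hit.mul_left (Commute.refl t)) h1
    have htt : t * t = 1 := by rw [← pow_two, ← F.t_two, pow_orderOf_eq_one]
    have h2 : i * t * (i * t) = 1 := by
      calc i * t * (i * t) = i * (t * i) * t := by group
        _ = i * i * (t * t) := by rw [hit.symm.eq]; group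
        _ = 1 := by rw [hii, htt, one_mul]
    have h3 := H.J_exp _ hE.1
    rw [pow_succ, pow_two, h2, one_mul] at h3
    exact hne ((mul_eq_one_iff_eq_inv.1 h3).trans (inv_eq_of_mul_eq_one_left htt))
  · rcases e r (cent_tMat r hrs (H.acts_commute_t F B C hdt hr)) hrys hr2 with e' | e'
    · refine Or.inl fun n hn h => ?_
      obtain ⟨v, hv0, hq, hv⟩ := H.fused_t_fix F B C hn h hm
      exact e' v (mem_singList v hq hv0) hv
    · refine Or.inr fun n hn h => ?_
      obtain ⟨v, hv0, hq, hv⟩ := H.fused_t_fix F B C hn h (hm.mul hr)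
      exact e' v (mem_singList v hq hv0) hv

/-- (F4) -/
theorem Hyp.not_commute {g g' : G} (hgL : g ∈ L₀) (hgJ : g ∈ normalizer (J : Set G))
    (hgg : g * g = t) (hgz : g * zz * g⁻¹ = zz⁻¹)
    (hg'L : w⁻¹ * g' * w ∈ L₀) (hg'J : g' ∈ normalizer (J : Set G))
    (hg'z : g' * z * g'⁻¹ = z⁻¹) : g * g' ≠ g' * g := by
  intro hcomm
  obtain ⟨hz, hz', hx, hy⟩ := H.mems F B C
  obtain ⟨e0, ez, ew1, ew2, ez'⟩ := emb_basis z zz x y
  set h := w⁻¹ * g' * w with hhdef
  have hwN := H.M_le B.w_mem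
  have hhJ : h ∈ normalizer (J : Set G) := mul_mem (mul_mem (inv_mem hwN) hg'J) hwN
  have hwzz : w * zz * w⁻¹ = z := H.w_sq_Z F B C.z_mem
  have hhz : h * zz * h⁻¹ = zz⁻¹ := by
    have e1 : zz = w⁻¹ * z * w := by
      calc zz = w⁻¹ * (w * zz * w⁻¹) * w := by group
        _ = _ := by rw [hwzz]
    calc h * zz * h⁻¹ = h * (w⁻¹ * z * w) * h⁻¹ := by rw [← e1]
      _ = w⁻¹ * (g' * z * g'⁻¹) * w := by rw [hhdef]; group
      _ = (w⁻¹ * z * w)⁻¹ := by rw [hg'z]; group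
      _ = _ := by rw [← e1]
  have hdc : Commute (g⁻¹ * h) zz := mul_inv_eq_iff_eq_mul.1 (by
    rw [show g⁻¹ * h * zz * (g⁻¹ * h)⁻¹ = g⁻¹ * (h * zz * h⁻¹) * g by group, hhz, ← hgz]; group)
  obtain ⟨mg, hmg, -, hsimg⟩ := H.exists_acts F B C hgJ
  have hgz1 : g * z * g⁻¹ = z := by
    rw [← mem_centralizer_iff.1 (H.L_le_cent hgL) z C.z_mem, mul_inv_cancel_right]
  have hg1 : mg.1 = vz := C.inj (by rw [← (app_basis mg).1, ← hmg, ez, hgz1])
  have hg4 : mg.2.2.2 = -vz' := by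
    refine C.inj ?_
    rw [← (app_basis mg).2.2.2, ← hmg, ez', hgz]
    have h0 := H.emb_mul F B C (-vz') vz'
    rw [neg_add_cancel, e0, ez'] at h0
    exact (eq_inv_of_mul_eq_one_left h0.symm).symm
  have hμg : mult mg = -1 := by rw [mult, hg1, hg4]; decide
  have horth : ∀ i : V, bil i vz = 0 → bil i vz' = 0 → (app mg i).1 = 0 ∧ (app mg i).2.2.2 = 0 := by
    intro i hi hi'
    have a1 := bil_app mg i vz hsimg
    have a4 := bil_app mg i vz' hsimg
    rw [(app_basis mg).1, hg1, hi, mul_zero] at a1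
    rw [(app_basis mg).2.2.2, hg4, hi', mul_zero] at a4
    exact (show ∀ v : V, bil v vz = 0 → bil v (-vz') = 0 → v.1 = 0 ∧ v.2.2.2 = 0 by
      decide +kernel) _ a1 a4
  obtain ⟨p2, p2'⟩ := horth vw1 (by decide) (by decide)
  obtain ⟨p3, p3'⟩ := horth vw2 (by decide) (by decide)
  rw [(app_basis mg).2.1] at p2 p2'
  rw [(app_basis mg).2.2.1] at p3 p3'
  obtain ⟨c1, hc1⟩ : ∃ c1 : ZMod 3 × ZMod 3, mg.2.1 = (0, c1.1, c1.2, 0) := ⟨(_, _), blk_of _ p2 p2'⟩
  obtain ⟨d2, hd2⟩ : ∃ d2 : ZMod 3 × ZMod 3, mg.2.2.1 = (0, d2.1, d2.2, 0) := ⟨(_, _), blk_of _ p3 p3'⟩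
  have hmgeq : mg = blk c1 d2 (-1) := by
    unfold blk
    ext1; · exact hg1
    ext1; · exact hc1
    ext1; · exact hd2
    rw [hg4]; simp [vz', Prod.ext_iff]
  subst hmgeq
  have hsq : comp (blk c1 d2 (-1)) (blk c1 d2 (-1)) = tMat :=
    H.acts_unique F B C (hmg.mul hmg) (by rw [hgg]; exact H.acts_t F B C)
  obtain ⟨k, hk, hka⟩ : ∃ k, (k = blk c1 d2 (-1) ∨ k = comp (blk c1 d2 (-1)) tMat) ∧ Acts z zz x y h k := by
    rcases H.cent_L_acts F B C (mul_mem (inv_mem hgL) hg'L) hdc with e | e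
    · refine ⟨_, Or.inl rfl, ?_⟩
      have h1 := hmg.mul e
      rwa [mul_inv_cancel_left,
        show comp (blk c1 d2 (-1)) Model.one = blk c1 d2 (-1) by
          simp [comp, app, sc, blk, Model.one, vz, vw1, vw2, vz', Prod.ext_iff]] at h1
    · exact ⟨_, Or.inr rfl, by have h1 := hmg.mul e; rwa [mul_inv_cancel_left] at h1⟩
  obtain ⟨p, q, hw, hp, hq, hpq, hdet⟩ := H.w_swp F B C
  have hswsq : comp (swp p q) (swp p q) = Model.one := by
    have key : ∀ p q : ZMod 3 × ZMod 3, p.1 * p.1 + p.2 * p.2 = 1 → q.1 * q.1 + q.2 * q.2 = 1 →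
        p.1 * q.1 + p.2 * q.2 = 0 → p.1 * q.2 - p.2 * q.1 = -1 → comp (swp p q) (swp p q) = Model.one := by
      decide +kernel
    exact key p q hp hq hpq hdet
  have hg'a : Acts z zz x y g' (comp (comp (swp p q) k) (swp p q)) := by
    intro v
    have hwinv : w⁻¹ * emb z zz x y v * w = emb z zz x y (app (swp p q) v) := by
      have h1 := hw (app (swp p q) v)
      rw [← app_comp, hswsq, uni_steps.2.2] at h1
      rw [← h1]; group
    rw [show g' = w * h * w⁻¹ by rw [hhdef]; group,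
      show w * h * w⁻¹ * emb z zz x y v * (w * h * w⁻¹)⁻¹ =
        w * (h * (w⁻¹ * emb z zz x y v * w) * h⁻¹) * w⁻¹ by group, hwinv, hka, hw, app_comp, app_comp]
  have hne := refl_anti p q c1 d2 hp hq hpq hdet
  have sc1 := hsimg vw1
  have sd1 := hsimg vw2
  have scd := bil_app _ vw1 vw2 hsimg
  rw [hμg] at sc1 sd1 scd
  rw [(app_basis _).2.1] at sc1 scd
  rw [(app_basis _).2.2.1] at sd1 scd
  simp [blk, qf, bil, vw1, vw2] at sc1 sd1 scd
  simp [comp, app, sc, blk, tMat, vz, Prod.ext_iff] at hsq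
  obtain ⟨⟨s1, -⟩, -, -⟩ := hsq
  refine hne ?_ ?_ ?_ ?_ k hk ?_
  · linear_combination (-1 : ZMod 3) * sc1
  · linear_combination (-1 : ZMod 3) * sd1
  · exact (show ∀ e : ZMod 3, -2 * e = 0 → e = 0 by decide) _ (by linear_combination scd)
  · linear_combination s1
  · exact H.acts_unique F B C (hmg.mul hg'a) (by rw [hcomm]; exact hg'a.mul hmg)

end Cfsg.Agent.McLThree
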