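import Cfsg.Agent.Lib.McLThree.Lines
import Cfsg.Agent.Lib.McLThree.Stab
import Cfsg.Agent.Lib.SelfNine.Klein
import Cfsg.Agent.Lib.Coprime.Generation

/-!
# The centralizer of `[J, t]` normalizes `J`

In `C(W) / W` the image of `J` is elementary of order nine and contains the centralizer of each of its
non-identity elements up to an inversion.  Without an inversion a fixed-point-free action of a non-cyclic
group is excluded; with one, the exchanging element makes the automizer a four-group and the character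
bound for that configuration applies.
-/

set_option autoImplicit false
set_option linter.unusedSectionVars false
set_option linter.style.haveILetI false
set_option synthInstance.maxSize 2000
set_option synthInstance.maxHeartbeats 200000

namespace Cfsg.Agent.McLThree

open Subgroup

universe u

section Abstract

variable {G : Type u} [Group G] [Finite G]

/-- A 3-subgroup in whose normalizer every element squares into it is a Sylow subgroup. -/
theorem exists_sylow_eq {P₀ : Subgroup G} (h3 : IsPGroup 3 ↥P₀)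
    (hsq : ∀ g ∈ normalizer (P₀ : Set G), g * g ∈ P₀) : ∃ P : Sylow 3 G, (P : Subgroup G) = P₀ := by
  haveI : Fact (Nat.Prime 3) := ⟨Nat.prime_three⟩
  obtain ⟨R, hR⟩ := h3.exists_le_sylow
  refine ⟨R, (le_antisymm hR ?_).symm⟩
  by_contra hne
  have hlt : P₀.subgroupOf (R : Subgroup G) < ⊤ :=
    lt_top_iff_ne_top.2 fun e => hne (Subgroup.subgroupOf_eq_top.1 e)
  haveI : Group.IsNilpotent ↥(R : Subgroup G) := R.2.isNilpotent
  obtain ⟨g, hg, hgn⟩ := SetLike.exists_of_lt (Group.normalizerCondition_of_isNilpotent _ hlt)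
  have hgN : (g : G) ∈ normalizer (P₀ : Set G) := Subgroup.mem_normalizer_fintype fun a ha =>
    mem_subgroupOf.1 ((mem_normalizer_iff.1 hg ⟨a, hR ha⟩).1 (mem_subgroupOf.2 ha))
  obtain ⟨k, hk⟩ := R.2 g
  have hk' : (g : G) ^ (3 ^ k) = 1 := by rw [← Subgroup.coe_pow, hk, Subgroup.coe_one]
  obtain ⟨m, hm⟩ := (show Odd (3 : ℕ) by decide).pow (n := k)
  refine hgn (mem_subgroupOf.2 ?_)
  have e : (g : G) = ((g : G) * g) ^ (m + 1) := by
    rw [← pow_two, ← pow_mul, show 2 * (m + 1) = 3 ^ k + 1 by omega, pow_succ, hk', one_mul]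
  rw [e]
  exact pow_mem (hsq _ hgN) _

/-- The data on `W ≤ J ≤ C`. -/
structure WData (J W C E : Subgroup G) : Prop where
  W_le : W ≤ J
  J_le : J ≤ C
  E_le : E ≤ J
  E_card : Nat.card ↥E = 9
  E_inf : ∀ e ∈ E, e ∈ W → e = 1
  central : ∀ a ∈ W, ∀ c ∈ C, a * c = c * a
  comm : ∀ a ∈ J, ∀ b ∈ J, a * b = b * a
  exp : ∀ a ∈ J, a ^ 3 = 1
  cent : ∀ j ∈ J, j ∉ W → ∀ g ∈ C, Commute g j → g ∈ normalizer (J : Set G)
  sq : ∀ g ∈ C, g ∈ normalizer (J : Set G) → g * g ∈ J

variable {J W C E : Subgroup G} (D : WData J W C E)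
include D

theorem WData.mem_J {g : G} (hg : g ∈ C) (hgN : g ∈ normalizer (J : Set G)) (h3 : g ^ 3 = 1) : g ∈ J := by
  have h := D.sq g hg hgN
  have e : g = (g * g) * (g * g) := by
    calc g = g ^ 3 * g := by rw [h3, one_mul]
      _ = g * g * (g * g) := by simp only [pow_succ, pow_zero, one_mul, mul_assoc]
  rw [e]
  exact mul_mem h h

/-- An element of `C` moving an element of `J - W` into `J` normalizes `J`. -/
theorem WData.fusion {g j : G} (hg : g ∈ C) (hj : j ∈ J) (hjW : j ∉ W) (h : g * j * g⁻¹ ∈ J) :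
    g ∈ normalizer (J : Set G) := by
  refine Subgroup.mem_normalizer_fintype fun a ha => ?_
  have haC : g * a * g⁻¹ ∈ C := mul_mem (mul_mem hg (D.J_le ha)) (inv_mem hg)
  have h' : g * j * g⁻¹ ∉ W := fun hW => hjW (by
    have e := D.central _ hW g hg
    rw [show g * j * g⁻¹ * g = g * j by group] at e
    rwa [mul_left_cancel e])
  have hc : Commute (g * a * g⁻¹) (g * j * g⁻¹) := by
    show g * a * g⁻¹ * (g * j * g⁻¹) = g * j * g⁻¹ * (g * a * g⁻¹)
    calc g * a * g⁻¹ * (g * j * g⁻¹) = g * (a * j) * g⁻¹ := by group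
      _ = g * (j * a) * g⁻¹ := by rw [D.comm a ha j hj]
      _ = _ := by group
  exact D.mem_J haC (D.cent _ h h' _ haC hc) (by rw [conj_pow, D.exp a ha, mul_one, mul_inv_cancel])

/-- Without further normalizing elements, `C = J`. -/
theorem WData.le_of_self (hN : ∀ g ∈ C, g ∈ normalizer (J : Set G) → g ∈ J) : C ≤ J := by
  haveI : Fact (Nat.Prime 3) := ⟨Nat.prime_three⟩
  set J' := J.subgroupOf C with hJ'
  have h3 : IsPGroup 3 ↥J' := fun a => ⟨1, Subtype.ext (Subtype.ext (by simpa using D.exp _ (mem_subgroupOf.1 a.2)))⟩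
  have hnorm : ∀ g : ↥C, g ∈ normalizer (J' : Set ↥C) → (g : G) ∈ J := fun g hg =>
    hN g g.2 (Subgroup.mem_normalizer_fintype fun a ha =>
      mem_subgroupOf.1 ((mem_normalizer_iff.1 hg ⟨a, D.J_le ha⟩).1 (mem_subgroupOf.2 ha)))
  obtain ⟨P, hP⟩ := exists_sylow_eq h3 fun g hg => mem_subgroupOf.2 (mul_mem (hnorm g hg) (hnorm g hg))
  have hPc : normalizer ((P : Subgroup ↥C) : Set ↥C) ≤ centralizer ((P : Subgroup ↥C) : Set ↥C) := by
    rw [hP]
    intro g hg
    exact mem_centralizer_iff.2 fun a ha => Subtype.ext (D.comm _ (mem_subgroupOf.1 ha) _ (hnorm g hg))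
  obtain ⟨K, hKn, hcpl⟩ : ∃ K : Subgroup ↥C, K.Normal ∧ IsComplement' K (P : Subgroup ↥C) :=
    ⟨_, MonoidHom.normal_ker _, MonoidHom.ker_transferSylow_isComplement' P hPc⟩
  have hKcop : ¬ 3 ∣ Nat.card ↥K := by
    rw [← hcpl.index_eq_card]
    exact P.not_dvd_index
  set K' := K.map C.subtype with hK'
  have hE3 : ∀ a : ↥E, a ^ 3 = 1 := fun a => Subtype.ext (by simpa using D.exp _ (D.E_le a.2))
  haveI : IsMulCommutative ↥E := ⟨⟨fun a b => Subtype.ext (D.comm _ (D.E_le a.2) _ (D.E_le b.2))⟩⟩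
  have hcyc : ¬ IsCyclic ↥E := fun h => by
    obtain ⟨a, ha⟩ := h.exists_ofOrder_eq_natCard
    have := orderOf_dvd_of_pow_eq_one (hE3 a)
    rw [ha, D.E_card] at this
    norm_num at this
  have hEK : E ≤ normalizer (K' : Set G) := fun a ha => Subgroup.mem_normalizer_fintype fun k hk => by
    obtain ⟨k, hk, rfl⟩ := hk
    exact ⟨⟨a, D.J_le (D.E_le ha)⟩ * k * ⟨a, D.J_le (D.E_le ha)⟩⁻¹,
      hKn.conj_mem k hk _, rfl⟩
  have hgen := Coprime.fixedGen_eq (A := E) (K := K') hcyc hEK (by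
    rw [D.E_card, hK', card_map_of_injective C.subtype_injective, show (9 : ℕ) = 3 ^ 2 by norm_num]
    exact ((Nat.prime_three.coprime_iff_not_dvd).2 hKcop).pow_left 2)
  have hbot : K' = ⊥ := by
    rw [eq_bot_iff]
    refine hgen.symm.le.trans (iSup₂_le fun a ha => ?_)
    rintro k ⟨⟨k, hk, rfl⟩, hka⟩
    have hkN := D.cent a (D.E_le ha.1) (fun hW => ha.2 (D.E_inf a ha.1 hW)) _ k.2
      (mem_centralizer_singleton_iff.1 hka)
    have hkJ := hN _ k.2 hkN
    have hmem : k ∈ K ⊓ (P : Subgroup ↥C) := ⟨hk, by rw [hP]; exact mem_subgroupOf.2 hkJ⟩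
    rw [hcpl.disjoint.eq_bot, mem_bot] at hmem
    rw [hmem]; simp
  have hK1 : K = ⊥ := (Subgroup.map_eq_bot_iff_of_injective K C.subtype_injective).1 hbot
  intro g hg
  have hPtop : (P : Subgroup ↥C) = ⊤ := by
    have h := hcpl
    rw [hK1] at h
    exact isComplement'_bot_left.1 h
  have hgJ : (⟨g, hg⟩ : ↥C) ∈ J' := by rw [← hP, hPtop]; exact mem_top _
  exact mem_subgroupOf.1 hgJ

set_option maxHeartbeats 1000000 in
/-- With an inverting element `n` and an exchanging element `r`, `C` normalizes `J`. -/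
theorem WData.le_of_klein {r n a b : G} (hr2 : r * r = 1) (hn2 : n * n = 1)
    (hrn : r * n = n * r) (hnC : n ∈ C) (hrC : r ∈ normalizer (C : Set G))
    (hrW : r ∈ normalizer (W : Set G)) (hrJ : r ∈ normalizer (J : Set G)) (hnJ : n ∈ normalizer (J : Set G))
    (ha : a ∈ J) (hb : b ∈ J) (hcard : Nat.card ↥J = 9 * Nat.card ↥W)
    (hgen : ∀ j ∈ J, ∃ i k : ℕ, j * (a ^ i * b ^ k)⁻¹ ∈ W)
    (hra : r * a * r = a) (hrb : r * b * r = b⁻¹) (hna : n * a * n = a⁻¹) (hnb : n * b * n = b⁻¹)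
    (hcl : ∀ g ∈ C, g ∈ normalizer (J : Set G) → g ∈ J ∨ n * g ∈ J) :
    C ≤ normalizer (J : Set G) := by
  classical
  haveI : Fact (Nat.Prime 3) := ⟨Nat.prime_three⟩
  have hri : r⁻¹ = r := inv_eq_of_mul_eq_one_right hr2
  have hcj : ∀ g, g ∈ C → r * g * r ∈ C := fun g hg => by
    have := (mem_normalizer_iff.1 hrC g).1 hg
    rwa [hri] at this
  let Ct : Subgroup G :=
    { carrier := {g | g ∈ C ∨ g * r ∈ C}
      one_mem' := Or.inl (one_mem C)
      mul_mem' := fun {x y} hx hy => by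
        rcases hx with hx | hx <;> rcases hy with hy | hy
        · exact Or.inl (mul_mem hx hy)
        · exact Or.inr (by rw [mul_assoc]; exact mul_mem hx hy)
        · refine Or.inr ?_
          have := mul_mem hx (hcj y hy)
          rwa [show x * r * (r * y * r) = x * (r * r) * y * r by group, hr2, mul_one] at this
        · refine Or.inl ?_
          have := mul_mem hx (hcj _ hy)
          rwa [show x * r * (r * (y * r) * r) = x * (r * r) * y * (r * r) by group, hr2, mul_one, mul_one] at this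
      inv_mem' := fun {x} hx => by
        rcases hx with hx | hx
        · exact Or.inl (inv_mem hx)
        · refine Or.inr ?_
          have := hcj _ (inv_mem hx)
          rwa [mul_inv_rev, ← mul_assoc, mul_inv_cancel, one_mul] at this }
  have hCt : C ≤ Ct := fun g hg => Or.inl hg
  have hWC : W ≤ C := D.W_le.trans D.J_le
  set W' := W.subgroupOf Ct with hW'
  haveI : W'.Normal := normal_subgroupOf_of_le_normalizer (fun g hg => by
    have hcent : ∀ c ∈ C, c ∈ normalizer (W : Set G) := fun c hc => Subgroup.mem_normalizer_fintype fun x hx => by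
      rw [← D.central x hx c hc, mul_inv_cancel_right]; exact hx
    rcases hg with hg | hg
    · exact hcent g hg
    · rw [show g = g * r * r by rw [mul_assoc, hr2, mul_one]]
      exact mul_mem (hcent _ hg) hrW)
  set π := QuotientGroup.mk' W' with hπ
  have hπs : Function.Surjective π := QuotientGroup.mk'_surjective W'
  have hJCt : J ≤ Ct := D.J_le.trans hCt
  set J' := J.subgroupOf Ct with hJ'
  set P₀ := J'.map π with hP₀
  have hker : π.ker ≤ J' := by
    rw [QuotientGroup.ker_mk']; exact fun x hx => D.W_le hx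
  have hmem : ∀ g : ↥Ct, π g ∈ P₀ ↔ (g : G) ∈ J := by
    intro g
    rw [← mem_comap, comap_map_eq_self hker, mem_subgroupOf]
  have hnorm : ∀ g : ↥Ct, π g ∈ normalizer (P₀ : Set (↥Ct ⧸ W')) → (g : G) ∈ normalizer (J : Set G) :=
    fun g hg => Subgroup.mem_normalizer_fintype fun x hx => (hmem (g * ⟨x, hJCt hx⟩ * g⁻¹)).1 (by
      rw [map_mul, map_mul, map_inv]
      exact (mem_normalizer_iff.1 hg _).1 ((hmem _).2 hx))
  -- classification of the normalizer
  have hclass : ∀ g : G, g ∈ Ct → g ∈ normalizer (J : Set G) →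
      ∃ k, (k = 1 ∨ k = r ∨ k = r * n ∨ k = n) ∧ ∃ p ∈ J, g = k * p := by
    intro g hg hgN
    rcases hg with hg | hg
    · rcases hcl g hg hgN with h | h
      · exact ⟨1, Or.inl rfl, g, h, (one_mul g).symm⟩
      · exact ⟨n, by tauto, n * g, h, by rw [← mul_assoc, hn2, one_mul]⟩
    · have h1 : r * g ∈ C := by
        have := hcj _ hg
        rwa [show r * (g * r) * r = r * g * (r * r) by group, hr2, mul_one] at this
      rcases hcl _ h1 (mul_mem hrJ hgN) with h | h
      · exact ⟨r, by tauto, r * g, h, by rw [← mul_assoc, hr2, one_mul]⟩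
      · refine ⟨r * n, by tauto, n * (r * g), h, ?_⟩
        rw [show r * n * (n * (r * g)) = r * (n * n) * r * g by group, hn2, mul_one, hr2, one_mul]
  have hk2 : ∀ k, (k = 1 ∨ k = r ∨ k = r * n ∨ k = n) → k * k = 1 ∧ k ∈ normalizer (J : Set G) := by
    rintro k (rfl | rfl | rfl | rfl)
    · exact ⟨one_mul 1, one_mem _⟩
    · exact ⟨hr2, hrJ⟩
    · refine ⟨?_, mul_mem hrJ hnJ⟩
      rw [show r * n * (r * n) = r * (n * r) * n by group, ← hrn,
        show r * (r * n) * n = r * r * (n * n) by group, hr2, hn2, one_mul]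
    · exact ⟨hn2, hnJ⟩
  have h3 : IsPGroup 3 ↥P₀ := by
    rintro ⟨_, x, hx, rfl⟩
    refine ⟨1, Subtype.ext ?_⟩
    have hx3 : x ^ 3 = 1 := Subtype.ext (by simpa using D.exp _ (mem_subgroupOf.1 hx))
    show π x ^ (3 ^ 1) = 1
    rw [pow_one, ← map_pow, hx3, map_one]
  obtain ⟨P, hP⟩ := exists_sylow_eq h3 (by
    intro v hv
    obtain ⟨g, rfl⟩ := hπs v
    obtain ⟨k, hk, p, hp, e⟩ := hclass g g.2 (hnorm g hv)
    obtain ⟨hkk, hkN⟩ := hk2 k hk
    rw [← map_mul, hmem, Subgroup.coe_mul, e,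
      show k * p * (k * p) = k * p * k⁻¹ * ((k * k) * p) by group, hkk, one_mul]
    exact mul_mem ((mem_normalizer_iff.1 hkN p).1 hp) hp)
  have hPmem : ∀ g : ↥Ct, π g ∈ (P : Subgroup (↥Ct ⧸ W')) ↔ (g : G) ∈ J := by rw [hP]; exact hmem
  have hWle : W ≤ Ct := hWC.trans hCt
  have hc9 : Nat.card ↥(P : Subgroup (↥Ct ⧸ W')) = 9 := by
    have h1 := (π.subgroupMap J').ker.card_mul_index
    rw [index_ker, MonoidHom.range_eq_top.2 (π.subgroupMap_surjective J'), card_top] at h1
    have e : (π.subgroupMap J').ker = W'.subgroupOf J' := by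
      ext x
      rw [MonoidHom.mem_ker, mem_subgroupOf, ← QuotientGroup.eq_one_iff]
      exact Subtype.ext_iff
    rw [e, Nat.card_congr (subgroupOfEquivOfLe (show W' ≤ J' from fun x hx => D.W_le hx)).toEquiv,
      Nat.card_congr (subgroupOfEquivOfLe hWle).toEquiv, Nat.card_congr (subgroupOfEquivOfLe hJCt).toEquiv,
      hcard] at h1
    rw [hP]
    exact Nat.eq_of_mul_eq_mul_left Nat.card_pos (h1.trans (mul_comm _ _))
  have hti : SelfNine.NineTI P := by
    refine ⟨hc9, ?_, ?_, ?_⟩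
    · intro v hv
      obtain ⟨x, rfl⟩ := hπs v
      rw [← map_pow, show x ^ 3 = 1 from Subtype.ext (by simpa using D.exp _ ((hPmem x).1 hv)), map_one]
    · intro v hv v' hv'
      obtain ⟨x, rfl⟩ := hπs v
      obtain ⟨x', rfl⟩ := hπs v'
      rw [← map_mul, ← map_mul]
      exact congrArg π (Subtype.ext (D.comm _ ((hPmem x).1 hv) _ ((hPmem x').1 hv')))
    · intro v hv hv1 u hu
      obtain ⟨x, rfl⟩ := hπs v
      obtain ⟨g, rfl⟩ := hπs u
      have hxJ := (hPmem x).1 hv
      have hxW : (x : G) ∉ W := fun h => hv1 ((QuotientGroup.eq_one_iff x).2 (mem_subgroupOf.2 h))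
      have hgx : (g : G) * x * (g : G)⁻¹ ∈ J := (hPmem (g * x * g⁻¹)).1 (by
        rw [map_mul, map_mul, map_inv, mem_centralizer_singleton_iff.1 hu, mul_inv_cancel_right]
        exact hv)
      have hgN : (g : G) ∈ normalizer (J : Set G) := by
        rcases g.2 with hg | hg
        · exact D.fusion hg hxJ hxW hgx
        · have hxr : r * x * r ∈ J := by
            have := (mem_normalizer_iff.1 hrJ (x : G)).1 hxJ
            rwa [hri] at this
          have hxrW : r * x * r ∉ W := fun h => hxW (by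
            have := (mem_normalizer_iff.1 hrW _).1 h
            rwa [hri, show r * (r * x * r) * r = r * r * x * (r * r) by group, hr2, one_mul, mul_one] at this)
          have := D.fusion hg hxr hxrW (by
            rwa [show (g : G) * r * (r * x * r) * ((g : G) * r)⁻¹ = (g : G) * (r * r) * x * (g : G)⁻¹ by group,
              hr2, mul_one])
          rw [show (g : G) = g * r * r by rw [mul_assoc, hr2, mul_one]]
          exact mul_mem this hrJ
      refine Subgroup.mem_normalizer_fintype fun y hy => ?_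
      obtain ⟨y, rfl⟩ := hπs y
      rw [SetLike.mem_coe, ← map_inv, ← map_mul, ← map_mul, hPmem]
      exact (mem_normalizer_iff.1 hgN _).1 ((hPmem y).1 hy)
  -- coordinates
  let rc : ↥Ct := ⟨r, Or.inr (by rw [hr2]; exact one_mem C)⟩
  let nc : ↥Ct := ⟨n, hCt hnC⟩
  let ac : ↥Ct := ⟨a, hJCt ha⟩
  let bc : ↥Ct := ⟨b, hJCt hb⟩
  have key : ∀ {p q : ↥Ct}, (p : G) = q → π p = π q := fun h => congrArg π (Subtype.ext h)
  have hK : SelfNine.KleinData P (π ac) (π bc) (π rc) (π (rc * nc)) := by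
    refine ⟨hti, (hPmem ac).2 ha, (hPmem bc).2 hb, ?_, ?_, ?_, ?_, ?_, ?_, ?_, ?_, ?_⟩
    · intro v hv
      obtain ⟨x, rfl⟩ := hπs v
      obtain ⟨i, k, hik⟩ := hgen _ ((hPmem x).1 hv)
      refine ⟨i, k, ?_⟩
      rw [← mul_inv_eq_one, ← map_pow, ← map_pow, ← map_mul, ← map_inv, ← map_mul]
      exact (QuotientGroup.eq_one_iff _).2 (mem_subgroupOf.2 hik)
    all_goals try simp only [← map_mul, ← map_inv, ← map_one π]
    · exact key hr2
    · exact key (hk2 _ (Or.inr (Or.inr (Or.inl rfl)))).1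
    · refine key ?_
      show r * (r * n) = r * n * r
      rw [mul_assoc, ← hrn]
    · exact key hra
    · exact key hrb
    · refine key ?_
      show r * n * a * (r * n) = a⁻¹
      conv_lhs => arg 2; rw [hrn]
      rw [show r * n * a * (n * r) = r * (n * a * n) * r by group, hna, ← hri,
        show r⁻¹ * a⁻¹ * r⁻¹ = (r * a * r)⁻¹ by group, hra]
    · refine key ?_
      show r * n * b * (r * n) = b
      conv_lhs => arg 2; rw [hrn]
      rw [show r * n * b * (n * r) = r * (n * b * n) * r by group, hnb, ← hri,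
        show r⁻¹ * b⁻¹ * r⁻¹ = (r * b * r)⁻¹ by group, hrb, inv_inv]
    · intro v hv
      obtain ⟨g, rfl⟩ := hπs v
      rw [hP] at hv
      obtain ⟨k, hk, p, hp, e⟩ := hclass g g.2 (hnorm g hv)
      rcases hk with hk | hk | hk | hk <;> rw [hk] at e
      · exact ⟨1, Or.inl rfl, π ⟨p, hJCt hp⟩, (hPmem _).2 hp, by rw [one_mul]; exact key (by simpa using e)⟩
      · exact ⟨π rc, by tauto, π ⟨p, hJCt hp⟩, (hPmem _).2 hp, by rw [← map_mul]; exact key e⟩
      · exact ⟨π (rc * nc), by tauto, π ⟨p, hJCt hp⟩, (hPmem _).2 hp, by rw [← map_mul]; exact key e⟩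
      · refine ⟨π rc * π (rc * nc), by tauto, π ⟨p, hJCt hp⟩, (hPmem _).2 hp, ?_⟩
        rw [← map_mul, ← map_mul]
        exact key (by
          show (g : G) = r * (r * n) * p
          rw [← mul_assoc, hr2, one_mul]; exact e)
  -- the image of `J` is normal
  set N := normalizer ((P : Subgroup (↥Ct ⧸ W')) : Set (↥Ct ⧸ W')) with hN
  have h10 : ((1, 0) : ZMod 3 × ZMod 3) ≠ 0 := fun h => one_ne_zero (congrArg Prod.fst h)
  have hne1 : π ac ≠ 1 := fun h => hK.coord_ne_one h10 (hK.e1_eq.trans h)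
  have h18 : 18 ∣ Nat.card N := by
    rw [← hK.card_cent_e1]
    exact card_dvd_of_le (hti.cent _ hK.m1 hne1)
  have hN18 : Nat.card N ≠ 18 := by
    intro h
    have heq : centralizer ({π ac} : Set (↥Ct ⧸ W')) = N :=
      eq_of_le_of_card_ge (hti.cent _ hK.m1 hne1) (by rw [h, hK.card_cent_e1])
    have hsN : π (rc * nc) ∈ N := Subgroup.mem_normalizer_fintype fun v hv => by
      obtain ⟨c, rfl⟩ := hK.coord_surj hv
      rw [inv_eq_of_mul_eq_one_right hK.s2, hK.conj_s]
      exact hK.coord_mem _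
    rw [← heq] at hsN
    have h1 := hK.s1
    rw [mem_centralizer_singleton_iff.1 hsN, mul_assoc, hK.s2, mul_one] at h1
    have h2 : π ac * π ac = 1 := by nth_rewrite 2 [h1]; exact mul_inv_cancel _
    have h4 := hti.exp _ hK.m1
    rw [pow_succ, pow_two, h2, one_mul] at h4
    exact hne1 h4
  have hcard72 : N.index * Nat.card N ≤ 72 := by rw [index_mul_card]; exact hK.card_le
  have hmod : N.index % 3 = 1 := by
    rw [hN]; erw [← P.card_eq_index_normalizer]
    exact card_sylow_modEq_one 3 (↥Ct ⧸ W')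
  have hidx : N.index = 1 := by
    obtain ⟨m, hm⟩ := h18
    have hm0 : m ≠ 0 := fun h => by rw [h, mul_zero] at hm; exact Nat.card_pos.ne' hm
    have hm1 : m ≠ 1 := fun h => hN18 (by rw [hm, h])
    have : N.index * 36 ≤ 72 := le_trans (Nat.mul_le_mul_left _ (by omega)) hcard72
    omega
  intro g hg
  refine hnorm ⟨g, hCt hg⟩ ?_
  rw [← hP]
  show π ⟨g, hCt hg⟩ ∈ N
  rw [index_eq_one.1 hidx]
  exact mem_top _

end Abstract

section Model

open Model

/-- The inversion of the hyperbolic plane. -/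
def negE : Mat := (-vz, vw1, vw2, -vz')

theorem blk_outer : ∀ v : V, bil v vw1 = 0 → bil v vw2 = 0 → v = (v.1, 0, 0, v.2.2.2) := by decide +kernel

theorem det4_outer (a d a' d' : ZMod 3) :
    det4 ((a, 0, 0, d), vw1, vw2, (a', 0, 0, d')) = a * d' - d * a' := by
  simp [det4, toM, crd, vw1, vw2, Matrix.det_succ_row_zero, Fin.sum_univ_succ, Fin.succAbove]
  ring

theorem outer_cases : ∀ a d a' d' : ZMod 3, qf (a, 0, 0, d) = 0 → qf (a', 0, 0, d') = 0 →
    bil (a, 0, 0, d) (a', 0, 0, d') = 1 → a * d' - d * a' = 1 →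
    ((a, 0, 0, d), vw1, vw2, (a', 0, 0, d')) = Model.one ∨
      ((a, 0, 0, d), vw1, vw2, (a', 0, 0, d')) = negE := by
  decide +kernel

theorem negE_facts : comp negE negE = Model.one ∧ app negE vy = -vy ∧ app negE vys = -vys ∧
    (∀ v : V, app negE v = (-v.1, v.2.1, v.2.2.1, -v.2.2.2)) ∧
    ∀ v : V, ∃ i j : ZMod 3, v = (0, v.2.1, v.2.2.1, 0) + (sc i vy + sc j vys) := by
  decide +kernel

theorem swp_facts : ∀ p q : ZMod 3 × ZMod 3, p.1 * p.1 + p.2 * p.2 = 1 → q.1 * q.1 + q.2 * q.2 = 1 →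
    p.1 * q.1 + p.2 * q.2 = 0 → p.1 * q.2 - p.2 * q.1 = -1 →
    comp (comp (swp p q) negE) (comp (swp p q) negE) = Model.one ∧ app (swp p q) vy = vy ∧
      app (swp p q) vys = -vys ∧ ∀ a b : ZMod 3, (app (swp p q) (0, a, b, 0)).1 = 0 ∧
        (app (swp p q) (0, a, b, 0)).2.2.2 = 0 := by
  decide +kernel

theorem swp_invol : ∀ p q : ZMod 3 × ZMod 3, p.1 * p.1 + p.2 * p.2 = 1 → q.1 * q.1 + q.2 * q.2 = 1 →
    p.1 * q.1 + p.2 * q.2 = 0 → p.1 * q.2 - p.2 * q.1 = -1 → comp (swp p q) (swp p q) = Model.one := by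
  decide +kernel

theorem sing_span : ∀ a d : ZMod 3, (a ≠ 0 ∨ d ≠ 0) → ∃ b c : ZMod 3, qf (0, b, c, 0) ≠ 0 ∧
    ∃ i j : ZMod 3, sc i (a, 0, 0, d) + sc j (0, b, c, 0) ≠ 0 ∧
      qf (sc i (a, 0, 0, d) + sc j (0, b, c, 0)) = 0 := by
  decide +kernel

end Model

section Concrete

open Model

variable {G : Type u} [Group G] [Finite G] {S : Sylow 3 G} {Z J M₀ L₀ Q : Subgroup G}
  (H : Hyp S Z J M₀ L₀ Q) {π : ↥L₀ →* SL5} {t f : G} (F : Frame Q L₀ π t f)
  {ρ : ↥M₀ →* Six.A6} {u w : G} (B : Base S J M₀ t ρ u w)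
  {z x y : G} (C : Coord Z J Q t w z x y)
include H F B C

local notation "zz" => w * z * w⁻¹

theorem Hyp.emb_neg (v : V) : emb z zz x y (-v) = (emb z zz x y v)⁻¹ :=
  eq_inv_of_mul_eq_one_left (by rw [← H.emb_mul F B C, neg_add_cancel, (emb_basis z zz x y).1])

theorem Hyp.mem_Wj_iff {v : V} : emb z zz x y v ∈ H.Wj F ↔ v.1 = 0 ∧ v.2.2.2 = 0 := by
  have e : app tMat v = (v.1, -v.2.1, -v.2.2.1, v.2.2.2) := by
    simp [app, sc, tMat, blk, vz]
  constructor
  · rintro ⟨-, h⟩
    rw [H.acts_t F B C, ← H.emb_neg F B C, e] at h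
    have h' := C.inj h
    simp only [Prod.ext_iff, Prod.fst_neg, Prod.snd_neg] at h'
    exact ⟨(show ∀ a : ZMod 3, a = -a → a = 0 by decide) _ h'.1,
      (show ∀ a : ZMod 3, a = -a → a = 0 by decide) _ h'.2.2.2⟩
  · rintro ⟨h1, h4⟩
    refine ⟨H.emb_J F B C v, ?_⟩
    rw [H.acts_t F B C, ← H.emb_neg F B C, e]
    congr 1
    simp [Prod.ext_iff, h1, h4]

theorem Hyp.commute_Wj {g : G} (hg : g ∈ centralizer (H.Wj F : Set G)) (b c : ZMod 3) :
    Commute g (emb z zz x y (0, b, c, 0)) :=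
  (mem_centralizer_iff.1 hg _ ((H.mem_Wj_iff F B C).2 ⟨rfl, rfl⟩)).symm

/-- An element of `N(J)` centralizing `[J, t]` acts as the identity or inverts the hyperbolic plane. -/
theorem Hyp.cent_W_acts {g : G} (hg : g ∈ centralizer (H.Wj F : Set G))
    (hgJ : g ∈ normalizer (J : Set G)) :
    Acts z zz x y g Model.one ∨ Acts z zz x y g negE := by
  obtain ⟨m, hm, hμ, hsim⟩ := H.exists_acts F B C hgJ
  have hfix : ∀ b c : ZMod 3, app m (0, b, c, 0) = (0, b, c, 0) := fun b c => C.inj (by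
    rw [← hm, (H.commute_Wj F B C hg b c).eq, mul_inv_cancel_right])
  have h2 : app m vw1 = vw1 := hfix 1 0
  have h3 : app m vw2 = vw2 := hfix 0 1
  have hμ1 : mult m = 1 := by
    have := hsim vw1
    rw [h2, show qf vw1 = -1 by decide] at this
    linear_combination this
  obtain ⟨e1, e2, e3, e4⟩ := app_basis m
  have horth : ∀ i : V, bil i vw1 = 0 → bil i vw2 = 0 → app m i = ((app m i).1, 0, 0, (app m i).2.2.2) := by
    intro i hi hi'
    refine blk_outer _ ?_ ?_
    · have := bil_app m i vw1 hsim; rwa [h2, hi, mul_zero] at this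
    · have := bil_app m i vw2 hsim; rwa [h3, hi', mul_zero] at this
  have o1 := horth vz (by decide) (by decide)
  have o4 := horth vz' (by decide) (by decide)
  rw [e1] at o1
  rw [e4] at o4
  have em : m = ((m.1.1, 0, 0, m.1.2.2.2), vw1, vw2, (m.2.2.2.1, 0, 0, m.2.2.2.2.2.2)) := by
    ext1; · exact o1
    ext1; · exact e2.symm.trans h2
    ext1; · exact e3.symm.trans h3
    exact o4
  have hd := H.det_eq_mult F B C hgJ hm
  rw [hμ1, em, det4_outer] at hd
  have q1 := hsim vz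
  have q4 := hsim vz'
  rw [e1, o1, show qf vz = 0 by decide, mul_zero] at q1
  rw [e4, o4, show qf vz' = 0 by decide, mul_zero] at q4
  have hb : bil m.1 m.2.2.2 = 1 := hμ1
  rw [o1, o4] at hb
  rcases outer_cases _ _ _ _ q1 q4 hb hd with e | e <;> rw [← em] at e <;> subst e
  · exact Or.inl hm
  · exact Or.inr hm

theorem Hyp.mem_J_of_acts {g : G} (hg : Acts z zz x y g Model.one) : g ∈ J :=
  H.cent_J F (mem_centralizer_iff.2 fun a ha => by
    obtain ⟨v, rfl⟩ := C.onto a ha
    exact (H.commute_of_acts F B C hg (uni_steps.2.2 v)).eq.symm)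

theorem Hyp.wdata : WData J (H.Wj F) (centralizer (H.Wj F : Set G)) (Ej J t) where
  W_le := fun _ h => h.1
  J_le := fun a ha => mem_centralizer_iff.2 fun b hb => H.J_comm b hb.1 a ha
  E_le := inf_le_left
  E_card := H.card_Ej F
  E_inf := fun _ he hW => H.Wj_inf_Ej F hW he
  central := fun _ ha _ hc => mem_centralizer_iff.1 hc _ ha
  comm := H.J_comm
  exp := H.J_exp
  cent := by
    intro j hj hjW g hg hgj
    obtain ⟨v, rfl⟩ := C.onto j hj
    have had : v.1 ≠ 0 ∨ v.2.2.2 ≠ 0 := by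
      by_contra hcon
      push Not at hcon
      exact hjW ((H.mem_Wj_iff F B C).2 hcon)
    obtain ⟨b, c, hbc, i, k, hne, hq⟩ := sing_span v.1 v.2.2.2 had
    have hgv : Commute g (emb z zz x y (v.1, 0, 0, v.2.2.2)) := by
      rw [show ((v.1, 0, 0, v.2.2.2) : V) = v + (0, -v.2.1, -v.2.2.1, 0) by simp [Prod.ext_iff],
        H.emb_mul F B C]
      exact hgj.mul_right (H.commute_Wj F B C hg _ _)
    refine H.cent_line_sing F B C g hgv (H.commute_Wj F B C hg b c) ⟨i, k, hne, hq⟩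
      fun s hs => ⟨(0, b, c, 0), by simp, fun d e => hbc ?_⟩
    rw [e, qf_sc, hs, mul_zero]
  sq := by
    intro g hg hgJ
    rcases H.cent_W_acts F B C hg hgJ with h | h
    · exact mul_mem (H.mem_J_of_acts F B C h) (H.mem_J_of_acts F B C h)
    · exact H.mem_J_of_acts F B C (negE_facts.1 ▸ h.mul h)

/-- The centralizer of `[J, t]` normalizes `J`. -/
theorem Hyp.cent_W_le : centralizer (H.Wj F : Set G) ≤ normalizer (J : Set G) := by
  have D := H.wdata F B C
  set CW := centralizer (H.Wj F : Set G) with hCW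
  by_cases hself : ∀ g ∈ CW, g ∈ normalizer (J : Set G) → g ∈ J
  · exact (D.le_of_self hself).trans le_normalizer
  push Not at hself
  obtain ⟨n₁, hn₁, hn₁N, hn₁J⟩ := hself
  have hn₁a : Acts z zz x y n₁ negE :=
    (H.cent_W_acts F B C hn₁ hn₁N).resolve_left fun h => hn₁J (H.mem_J_of_acts F B C h)
  -- an involution inverting the hyperbolic plane
  obtain ⟨j₁, hj₁⟩ : ∃ j, j = n₁ * n₁ := ⟨_, rfl⟩
  have hj₁J : j₁ ∈ J := hj₁ ▸ D.sq n₁ hn₁ hn₁N
  obtain ⟨n', hn'⟩ : ∃ k, k = j₁ * n₁ := ⟨_, rfl⟩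
  have hc₁ : Commute n₁ j₁ := hj₁ ▸ (Commute.refl n₁).mul_right (Commute.refl n₁)
  have hn'2 : n' * n' = 1 := by
    rw [hn', show j₁ * n₁ * (j₁ * n₁) = j₁ * (n₁ * j₁) * n₁ by group, hc₁.eq,
      show j₁ * (j₁ * n₁) * n₁ = j₁ * j₁ * (n₁ * n₁) by group, ← hj₁, ← pow_two, ← pow_succ, H.J_exp _ hj₁J]
  have hn'C : n' ∈ CW := hn' ▸ mul_mem (D.J_le hj₁J) hn₁
  have hJone : ∀ a ∈ J, Acts z zz x y a Model.one := fun a ha v => by
    rw [uni_steps.2.2, H.J_comm a ha _ (H.emb_J F B C v), mul_inv_cancel_right]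
  have hone : ∀ m : Mat, comp Model.one m = m := fun m => by simp [comp, uni_steps.2.2]
  have hn'a : Acts z zz x y n' negE := hn' ▸ hone negE ▸ (hJone _ hj₁J).mul hn₁a
  have hn'N : n' ∈ normalizer (J : Set G) := hn' ▸ mul_mem (le_normalizer hj₁J) hn₁N
  -- the exchanging involution
  obtain ⟨p, q, hw, hp, hq, hpq, hdet⟩ := H.w_swp F B C
  obtain ⟨sN, sy, sys, sW⟩ := swp_facts p q hp hq hpq hdet
  have hswsq : comp (swp p q) (swp p q) = Model.one := swp_invol p q hp hq hpq hdet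
  have hwN := H.M_le B.w_mem
  have hww : w * w ∈ J := H.mem_J_of_acts F B C (hswsq ▸ hw.mul hw)
  obtain ⟨r, hr⟩ : ∃ k, k = w * w * w := ⟨_, rfl⟩
  have hr2 : r * r = 1 := by
    rw [hr, show w * w * w * (w * w * w) = w * w * (w * w) * (w * w) by group, ← pow_two, ← pow_succ,
      H.J_exp _ hww]
  have hra' : Acts z zz x y r (swp p q) := hr ▸ hone (swp p q) ▸ (hJone _ hww).mul hw
  have hrN : r ∈ normalizer (J : Set G) := hr ▸ mul_mem (le_normalizer hww) hwN
  have hri : r⁻¹ = r := inv_eq_of_mul_eq_one_right hr2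
  have hrWmem : ∀ a ∈ H.Wj F, r * a * r⁻¹ ∈ H.Wj F := by
    intro a ha
    obtain ⟨v, rfl⟩ := C.onto a ha.1
    obtain ⟨h1, h4⟩ := (H.mem_Wj_iff F B C).1 ha
    rw [hra', H.mem_Wj_iff F B C, blk_of v h1 h4]
    exact sW _ _
  have hrW : r ∈ normalizer (H.Wj F : Set G) := Subgroup.mem_normalizer_fintype hrWmem
  have hrC : r ∈ normalizer (CW : Set G) := Subgroup.mem_normalizer_fintype fun g hg =>
    mem_centralizer_iff.2 fun a ha => by
      have h := mem_centralizer_iff.1 hg _ ((mem_normalizer_iff''.1 hrW a).1 ha)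
      calc a * (r * g * r⁻¹) = r * (r⁻¹ * a * r * g) * r⁻¹ := by group
        _ = r * (g * (r⁻¹ * a * r)) * r⁻¹ := by rw [h]
        _ = r * g * r⁻¹ * a := by group
  -- make the two commute
  obtain ⟨d, hd⟩ : ∃ k, k = r * n' * r * n' := ⟨_, rfl⟩
  have hdJ : d ∈ J := H.mem_J_of_acts F B C (by
    rw [hd, show r * n' * r * n' = r * n' * (r * n') by group]
    exact sN ▸ (hra'.mul hn'a).mul (hra'.mul hn'a))
  obtain ⟨n, hn⟩ : ∃ k, k = d⁻¹ * n' := ⟨_, rfl⟩
  have hnd : n' * d * n' = d⁻¹ := by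
    refine eq_inv_of_mul_eq_one_left ?_
    rw [hd]
    calc n' * (r * n' * r * n') * n' * (r * n' * r * n')
        = n' * r * n' * r * (n' * n') * r * n' * r * n' := by group
      _ = n' * r * n' * (r * r) * n' * r * n' := by rw [hn'2]; group
      _ = n' * r * (n' * n') * r * n' := by rw [hr2]; group
      _ = n' * (r * r) * n' := by rw [hn'2]; group
      _ = 1 := by rw [hr2, mul_one, hn'2]
  have hrd : r * d * r = d⁻¹ := by
    refine eq_inv_of_mul_eq_one_left ?_
    rw [hd]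
    calc r * (r * n' * r * n') * r * (r * n' * r * n')
        = r * r * n' * r * n' * (r * r) * n' * r * n' := by group
      _ = n' * r * (n' * n') * r * n' := by rw [hr2]; group
      _ = n' * (r * r) * n' := by rw [hn'2]; group
      _ = 1 := by rw [hr2, mul_one, hn'2]
  have hn'i : n'⁻¹ = n' := inv_eq_of_mul_eq_one_right hn'2
  have hn2 : n * n = 1 := by
    have h : n' * d⁻¹ * n' = d := by
      have := congrArg (fun g : G => g⁻¹) hnd
      simp only [mul_inv_rev, hn'i, inv_inv, ← mul_assoc] at this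
      exact this
    rw [hn, show d⁻¹ * n' * (d⁻¹ * n') = d⁻¹ * (n' * d⁻¹ * n') by group, h, inv_mul_cancel]
  have hrn : r * n = n * r := by
    have h1 : r * d⁻¹ * r = d := by
      have := congrArg (fun g : G => g⁻¹) hrd
      simp only [mul_inv_rev, hri, inv_inv, ← mul_assoc] at this
      exact this
    have h2 : r * n' * r = d * n' := by
      rw [hd, mul_assoc (r * n' * r), hn'2, mul_one]
    have h3 : r * n * r = n := by
      rw [hn, show r * (d⁻¹ * n') * r = r * d⁻¹ * n' * r by group,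
        show r * d⁻¹ * n' * r = r * d⁻¹ * r * (r⁻¹ * n' * r) by group, hri, h1, h2, ← mul_assoc]
      congr 1
      exact eq_inv_of_mul_eq_one_left (by rw [← pow_two, ← pow_succ, H.J_exp d hdJ])
    calc r * n = r * n * (r * r) := by rw [hr2, mul_one]
      _ = r * n * r * r := by group
      _ = n * r := by rw [h3]
  have hna : Acts z zz x y n negE := hn ▸ hone negE ▸ (hJone _ (inv_mem hdJ)).mul hn'a
  have hnC : n ∈ CW := hn ▸ mul_mem (inv_mem (D.J_le hdJ)) hn'C
  have hnN : n ∈ normalizer (J : Set G) := hn ▸ mul_mem (inv_mem (le_normalizer hdJ)) hn'N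
  have hni : n⁻¹ = n := inv_eq_of_mul_eq_one_right hn2
  refine D.le_of_klein (r := r) (n := n) (a := emb z zz x y vy) (b := emb z zz x y vys)
    hr2 hn2 hrn hnC hrC hrW hrN hnN (H.emb_J F B C _) (H.emb_J F B C _) ?_ ?_ ?_ ?_ ?_ ?_ ?_
  · rw [H.J_card, H.card_Wj F]
  · intro j hj
    obtain ⟨v, rfl⟩ := C.onto j hj
    obtain ⟨i, k, e⟩ := negE_facts.2.2.2.2 v
    refine ⟨i.val, k.val, ?_⟩
    rw [← H.emb_pow F B C, ← H.emb_pow F B C, ← H.emb_mul F B C, ← H.emb_neg F B C, ← H.emb_mul F B C,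
      H.mem_Wj_iff F B C]
    conv_lhs => rw [e]
    conv_rhs => rw [e]
    simp
  · conv_lhs => arg 2; rw [← hri]
    rw [hra', sy]
  · conv_lhs => arg 2; rw [← hri]
    rw [hra', sys, H.emb_neg F B C]
  · conv_lhs => arg 2; rw [← hni]
    rw [hna, negE_facts.2.1, H.emb_neg F B C]
  · conv_lhs => arg 2; rw [← hni]
    rw [hna, negE_facts.2.2.1, H.emb_neg F B C]
  · intro g hg hgN
    rcases H.cent_W_acts F B C hg hgN with h | h
    · exact Or.inl (H.mem_J_of_acts F B C h)
    · exact Or.inr (H.mem_J_of_acts F B C (negE_facts.1 ▸ hna.mul h))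

end Concrete

end Cfsg.Agent.McLThree
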