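import Cfsg.Agent.Lib.McLThree.Det

/-!
# Centralizers of subgroups of `J` containing a conjugate of `Z`

If `v ∈ J` is not in `Z` then `C(z) ∩ C(v)` normalizes `J`; hence so does the common centralizer of
elements of `J` spanning a space with a singular vector and more than a line.
-/

set_option autoImplicit false
set_option linter.unusedSectionVars false
set_option linter.style.haveILetI false
set_option synthInstance.maxSize 2000
set_option synthInstance.maxHeartbeats 200000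

namespace Cfsg.Agent.McLThree

open Subgroup
open Model
open scoped Pointwise

universe u

/-- Two elements of order three of `SL₂(5)` in distinct subgroups give a word that is the involution. -/
theorem word_neg : ∀ σ : SL5, σ * σ * σ = 1 → σ ≠ 1 → ∀ τ : SL5, τ * τ * τ = 1 → τ ≠ 1 → τ ≠ σ → τ ≠ σ * σ →
    ∃ k ∈ [σ * τ, σ * τ⁻¹, σ * τ * σ⁻¹ * τ⁻¹], ∃ n : Fin 6, k ^ (n : ℕ) = neg5 := by
  decide +kernel

variable {G : Type u} [Group G] [Finite G] {S : Sylow 3 G} {Z J M₀ L₀ Q : Subgroup G}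
  (H : Hyp S Z J M₀ L₀ Q) {π : ↥L₀ →* SL5} {t f : G} (F : Frame Q L₀ π t f)
  {ρ : ↥M₀ →* Six.A6} {u w : G} (B : Base S J M₀ t ρ u w)
  {z x y : G} (C : Coord Z J Q t w z x y)
include H F B C

local notation "zz" => w * z * w⁻¹

theorem Hyp.cent_z_eq {g : G} (hgz : Commute g z) : g ∈ centralizer (Z : Set G) :=
  mem_centralizer_iff.2 fun a ha => by
    obtain ⟨i, rfl⟩ := H.zp_Z C.z_mem C.z_ne ha
    exact ((hgz.pow_right _).eq).symm

/-- The centralizer of `Z` and of a further element of `J` normalizes `J`. -/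
theorem Hyp.cent_Z_line {v g : G} (hv : v ∈ J) (hvZ : v ∉ Z) (hgz : Commute g z) (hgv : Commute g v) :
    g ∈ normalizer (J : Set G) := by
  have hgC := H.cent_z_eq F B C hgz
  have hgQ := H.normalizer_le (H.cent_le hgC)
  have hgL := H.normalizer_le_L (H.cent_le hgC)
  by_cases hvQ : v ∈ Q
  · -- the stabilizer of `vZ` in `L₀` meets only one Sylow 3-subgroup
    obtain ⟨a, ha, haQ⟩ := SetLike.not_le_iff_exists.1 (H.abelian_facts F H.J_le H.J_comm H.J_card).1
    have haL : a ∈ L₀ := H.S_le_L (H.J_le ha)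
    have hbL : g * a * g⁻¹ ∈ L₀ := (mem_normalizer_iff.1 hgL a).1 haL
    have hbQ : g * a * g⁻¹ ∉ Q := fun h => haQ ((mem_normalizer_iff.1 hgQ a).2 h)
    let K : Subgroup ↥L₀ :=
      { carrier := {h | (h : G) * v * (h : G)⁻¹ * v⁻¹ ∈ Z}
        one_mem' := by show (1 : G) * v * (1 : G)⁻¹ * v⁻¹ ∈ Z; simp
        mul_mem' := fun {h k} hh hk => by
          have hc := mem_centralizer_iff.1 (H.L_le_cent h.2) _ hk
          show (h : G) * k * v * ((h : G) * k)⁻¹ * v⁻¹ ∈ Z
          rw [show (h : G) * k * v * ((h : G) * k)⁻¹ * v⁻¹ =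
            (h : G) * ((k : G) * v * (k : G)⁻¹ * v⁻¹) * (h : G)⁻¹ * ((h : G) * v * (h : G)⁻¹ * v⁻¹) by group,
            ← hc, mul_inv_cancel_right]
          exact mul_mem hk hh
        inv_mem' := fun {h} hh => by
          show (h : G)⁻¹ * v * (h : G)⁻¹⁻¹ * v⁻¹ ∈ Z
          have hc := mem_centralizer_iff.1 (H.L_le_cent (inv_mem h.2)) _ (inv_mem hh)
          rw [show (h : G)⁻¹ * v * (h : G)⁻¹⁻¹ * v⁻¹ =
            (h : G)⁻¹ * ((h : G) * v * (h : G)⁻¹ * v⁻¹)⁻¹ * (h : G)⁻¹⁻¹ by group, ← hc, mul_inv_cancel_right]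
          exact inv_mem hh }
    have hK : ∀ c : ↥L₀, Commute (c : G) v → c ∈ K := fun c hc => by
      show (c : G) * v * (c : G)⁻¹ * v⁻¹ ∈ Z
      rw [hc.eq, mul_inv_cancel_right, mul_inv_cancel]
      exact one_mem Z
    have hneg : ∀ c : ↥L₀, c ∈ K → π c ≠ neg5 := by
      intro c hc hcn
      have hQc : ((c * ⟨t, F.t_mem⟩ : ↥L₀) : G) ∈ Q :=
        (F.ker _).1 (by rw [map_mul, hcn, F.t_val, neg5_facts.1])
      have htK : (⟨t, F.t_mem⟩ : ↥L₀) ∈ K := by
        have hm : c * ⟨t, F.t_mem⟩ ∈ K := H.comm_Q hQc hvQ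
        have := mul_mem (inv_mem hc) hm
        rwa [inv_mul_cancel_left] at this
      have h1 : t * v * t⁻¹ * v⁻¹ ∈ Z := htK
      have h2 := H.t_inverts F hvQ
      have h3 := mul_mem (inv_mem h1) h2
      rw [show (t * v * t⁻¹ * v⁻¹)⁻¹ * (t * v * t⁻¹ * v) = v * v by group] at h3
      have h4 := mul_mem h3 h3
      rw [show v * v * (v * v) = v * v ^ 3 by simp only [pow_succ, pow_zero, one_mul, mul_assoc],
        H.J_exp v hv, mul_one] at h4
      exact hvZ h4
    have ha3 : ∀ (b : ↥L₀), (b : G) ^ 3 = 1 → π b * π b * π b = 1 := fun b hb => by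
      rw [← map_mul, ← map_mul, ← map_one π]; congr 1
      apply Subtype.ext
      show (b : G) * b * b = 1
      rw [← pow_two, ← pow_succ]; exact hb
    set A : ↥L₀ := ⟨a, haL⟩
    set A' : ↥L₀ := ⟨g * a * g⁻¹, hbL⟩
    have hAK : A ∈ K := hK A (H.J_comm a ha v hv)
    have hA'K : A' ∈ K := hK A' (by
      show g * a * g⁻¹ * v = v * (g * a * g⁻¹)
      have hv' : g * v * g⁻¹ = v := by rw [hgv.eq, mul_inv_cancel_right]
      calc g * a * g⁻¹ * v = g * a * g⁻¹ * (g * v * g⁻¹) := by rw [hv']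
        _ = g * (a * v) * g⁻¹ := by group
        _ = g * (v * a) * g⁻¹ := by rw [H.J_comm a ha v hv]
        _ = g * v * g⁻¹ * (g * a * g⁻¹) := by group
        _ = _ := by rw [hv'])
    have hsame : π A' = π A ∨ π A' = π A * π A := by
      by_contra hcon
      push Not at hcon
      obtain ⟨k, hk, n, hn⟩ := word_neg (π A) (ha3 A (H.J_exp a ha)) (fun h => haQ ((F.ker _).1 h)) (π A')
        (ha3 A' (by show (g * a * g⁻¹) ^ 3 = 1; rw [conj_pow, H.J_exp a ha, mul_one, mul_inv_cancel]))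
        (fun h => hbQ ((F.ker _).1 h)) hcon.1 hcon.2
      simp only [List.mem_cons, List.not_mem_nil, or_false] at hk
      rcases hk with rfl | rfl | rfl
      · exact hneg _ (pow_mem (mul_mem hAK hA'K) n) (by rw [map_pow, map_mul]; exact hn)
      · exact hneg _ (pow_mem (mul_mem hAK (inv_mem hA'K)) n) (by rw [map_pow, map_mul, map_inv]; exact hn)
      · exact hneg _ (pow_mem (mul_mem (mul_mem (mul_mem hAK hA'K) (inv_mem hAK)) (inv_mem hA'K)) n)
          (by rw [map_pow, map_mul, map_mul, map_mul, map_inv, map_inv]; exact hn)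
    have hb : g * a * g⁻¹ ∈ (S : Subgroup G) := by
      obtain ⟨c, hc, hcS⟩ : ∃ c : ↥L₀, π A' = π c ∧ (c : G) ∈ (S : Subgroup G) := by
        rcases hsame with h | h
        · exact ⟨A, h, H.J_le ha⟩
        · exact ⟨A * A, by rw [map_mul]; exact h, mul_mem (H.J_le ha) (H.J_le ha)⟩
      have hm : ((c⁻¹ * A' : ↥L₀) : G) ∈ Q := (F.ker _).1 (by rw [map_mul, map_inv, hc, inv_mul_cancel])
      have := mul_mem hcS (H.Q_le_S hm)
      simpa [A'] using this
    refine H.normalizer_S_le F (Subgroup.mem_normalizer_fintype fun s hs => ?_)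
    obtain ⟨b, hb', q, hq, rfl⟩ := H.exists_mul F hs
    rw [show g * (b * q) * g⁻¹ = g * b * g⁻¹ * (g * q * g⁻¹) by group]
    refine mul_mem ?_ (H.Q_le_S ((mem_normalizer_iff.1 hgQ q).1 hq))
    -- `J = ⟨a⟩ (J ∩ Q)`
    haveI : Fact (Nat.Prime 3) := ⟨Nat.prime_three⟩
    have hJle : J ≤ zpowers a ⊔ (J ⊓ Q) := by
      have hlt : 27 < Nat.card ↥(zpowers a ⊔ (J ⊓ Q) : Subgroup G) := by
        by_contra hle
        have e : J ⊓ Q = zpowers a ⊔ (J ⊓ Q) := eq_of_le_of_card_ge le_sup_right (by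
          rw [H.card_J_inf_Q F]; omega)
        exact haQ (e.ge (mem_sup_left (mem_zpowers a))).2
      have hsup : zpowers a ⊔ (J ⊓ Q) ≤ J := sup_le (zpowers_le.2 ha) inf_le_left
      obtain ⟨j, hj, hjc⟩ := (Nat.dvd_prime_pow Nat.prime_three).1
        (show Nat.card ↥(zpowers a ⊔ (J ⊓ Q) : Subgroup G) ∣ 3 ^ 4 by
          have := card_dvd_of_le hsup; rwa [H.J_card] at this)
      refine (eq_of_le_of_card_ge hsup ?_).ge
      rw [hjc] at hlt ⊢
      rw [H.J_card]
      interval_cases j <;> omega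
    have hmem : zpowers a ⊔ (J ⊓ Q) ≤ (S : Subgroup G).comap (MulAut.conj g).toMonoidHom :=
      sup_le (zpowers_le.2 hb) fun r hr => H.Q_le_S ((mem_normalizer_iff.1 hgQ r).1 hr.2)
    exact hmem (hJle hb')
  · -- `g` normalizes `S = Q⟨v⟩`
    refine H.normalizer_S_le F (Subgroup.mem_normalizer_fintype fun s hs => ?_)
    have hle : Q ⊔ zpowers v ≤ (S : Subgroup G) := sup_le H.Q_le_S (zpowers_le.2 (H.J_le hv))
    have hS : (S : Subgroup G) ≤ Q ⊔ zpowers v := by
      haveI : Fact (Nat.Prime 3) := ⟨Nat.prime_three⟩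
      have hlt : 243 < Nat.card ↥(Q ⊔ zpowers v : Subgroup G) := by
        by_contra hle'
        have e : Q = Q ⊔ zpowers v := eq_of_le_of_card_ge le_sup_left (by rw [H.Q_card]; omega)
        exact hvQ (e.ge (mem_sup_right (mem_zpowers v)))
      obtain ⟨j, hj, hjc⟩ := (Nat.dvd_prime_pow Nat.prime_three).1
        (show Nat.card ↥(Q ⊔ zpowers v : Subgroup G) ∣ 3 ^ 6 by
          have := card_dvd_of_le hle; rwa [H.card_S] at this)
      refine (eq_of_le_of_card_ge hle ?_).ge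
      rw [hjc] at hlt ⊢
      rw [H.card_S]
      interval_cases j <;> omega
    have hmem : Q ⊔ zpowers v ≤ (S : Subgroup G).comap (MulAut.conj g).toMonoidHom :=
      sup_le (fun r hr => H.Q_le_S ((mem_normalizer_iff.1 hgQ r).1 hr))
        (zpowers_le.2 (by
          show g * v * g⁻¹ ∈ (S : Subgroup G)
          rw [hgv.eq, mul_inv_cancel_right]; exact H.J_le hv))
    exact hmem (hS hs)

/-- A singular vector is moved to `z` by `N(J)`. -/
theorem Hyp.exists_to_z {v : V} (hv : v ≠ 0) (hq : qf v = 0) :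
    ∃ k ∈ normalizer (J : Set G), k * emb z zz x y v * k⁻¹ = z := by
  obtain ⟨g, hg⟩ := (H.sing_iff F B C hv).2 hq
  set z0 := g * emb z zz x y v * g⁻¹ with hz0
  obtain ⟨n, hn, e⟩ := H.fusion_J F (x := z0) (g := g⁻¹) (H.Z_le_J F hg)
    (by rw [hz0, show g⁻¹ * (g * emb z zz x y v * g⁻¹) * g⁻¹⁻¹ = emb z zz x y v by group]; exact H.emb_J F B C v)
  have e' : n⁻¹ * emb z zz x y v * n = z0 := by
    rw [show emb z zz x y v = g⁻¹ * z0 * g⁻¹⁻¹ by rw [hz0]; group, ← e]; group
  obtain ⟨c, hc⟩ := H.zp_Z C.z_mem C.z_ne hg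
  rcases zmod_cases.2.2 c (fun h => by
    subst h
    rw [zp_zero] at hc
    rw [← hc] at e'
    refine hv ((H.emb_eq_one F B C).1 ?_)
    calc emb z zz x y v = n * (n⁻¹ * emb z zz x y v * n) * n⁻¹ := by group
      _ = 1 := by rw [e']; group) with rfl | rfl
  · exact ⟨n⁻¹, inv_mem hn, by rw [inv_inv, e', ← hc, zp_one]⟩
  · obtain ⟨n1, hn1, hneg⟩ := H.exists_neg F B C
    obtain ⟨m1, hm1, -, -⟩ := H.exists_acts F B C (H.M_le hn1)
    refine ⟨n1 * n⁻¹, mul_mem (H.M_le hn1) (inv_mem hn), ?_⟩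
    rw [show n1 * n⁻¹ * emb z zz x y v * (n1 * n⁻¹)⁻¹ = n1 * (n⁻¹ * emb z zz x y v * n) * n1⁻¹ by group, e',
      ← hc, show zp z (-1 : ZMod 3) = emb z zz x y (-vz) by
        rw [show (-vz : V) = sc (-1) vz by decide, H.emb_pow F B C, (emb_basis z zz x y).2.1]; rfl, hm1]
    conv_rhs => rw [← (emb_basis z zz x y).2.1]
    congr 1
    rw [show (-vz : V) = sc (-1) vz by decide]
    simp [app, sc, vz, hneg m1 hm1, Prod.ext_iff]

/-- The common centralizer of two vectors whose span contains a singular vector. -/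
theorem Hyp.cent_line_sing {a b : V} (g : G) (hga : Commute g (emb z zz x y a))
    (hgb : Commute g (emb z zz x y b)) (hsing : ∃ i j : ZMod 3, sc i a + sc j b ≠ 0 ∧ qf (sc i a + sc j b) = 0)
    (hind : ∀ s : V, qf s = 0 → ∃ e ∈ [a, b], ∀ c, e ≠ sc c s) : g ∈ normalizer (J : Set G) := by
  obtain ⟨i, j, hne, hq⟩ := hsing
  set s := sc i a + sc j b
  have hgs : Commute g (emb z zz x y s) := by
    rw [H.emb_mul F B C, H.emb_pow F B C, H.emb_pow F B C]
    exact (hga.pow_right _).mul_right (hgb.pow_right _)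
  obtain ⟨e, he, hec⟩ := hind s hq
  have hge : Commute g (emb z zz x y e) := by
    simp only [List.mem_cons, List.not_mem_nil, or_false] at he
    rcases he with rfl | rfl
    · exact hga
    · exact hgb
  obtain ⟨k, hk, hks⟩ := H.exists_to_z F B C hne hq
  have hcz : ∀ c, Commute g c → Commute (k * g * k⁻¹) (k * c * k⁻¹) := fun c hc => by
    show k * g * k⁻¹ * (k * c * k⁻¹) = k * c * k⁻¹ * (k * g * k⁻¹)
    calc k * g * k⁻¹ * (k * c * k⁻¹) = k * (g * c) * k⁻¹ := by group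
      _ = k * (c * g) * k⁻¹ := by rw [hc.eq]
      _ = _ := by group
  have hne' : k * emb z zz x y e * k⁻¹ ∉ Z := by
    intro hZ
    obtain ⟨c, hc⟩ := H.zp_Z C.z_mem C.z_ne hZ
    refine hec c (C.inj ((MulAut.conj k).injective ?_))
    show k * emb z zz x y e * k⁻¹ = k * emb z zz x y (sc c s) * k⁻¹
    rw [← hc, H.emb_pow F B C, ← conj_pow, hks]; rfl
  have h := H.cent_Z_line F B C ((mem_normalizer_iff.1 hk _).1 (H.emb_J F B C e)) hne'
    (hks ▸ hcz _ hgs) (hcz _ hge)
  have := mul_mem (mul_mem (inv_mem hk) h) hk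
  rwa [show k⁻¹ * (k * g * k⁻¹) * k = g by group] at this

end Cfsg.Agent.McLThree
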