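import Cfsg.Agent.Lib.McLThree.CentFin
import Cfsg.Agent.Lib.McLThree.Lines
import Cfsg.Agent.Lib.McLThree.Stab
import Cfsg.Agent.Lib.McLThree.CentW

/-!
# Fusion in the centralizer of a nonsingular element of `J`

Fusion of elements of `J` outside `⟨y⟩` is induced by `N(J)`; an element of order three outside `J` is
not conjugate into `Z`, nor, in `C(y)`, into `J`.
-/

set_option autoImplicit false
set_option linter.unusedSectionVars false
set_option linter.style.haveILetI false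
set_option synthInstance.maxSize 2000
set_option synthInstance.maxHeartbeats 200000

namespace Cfsg.Agent.McLThree

open Subgroup
open Model

universe u

theorem qf_vy : qf vy = 1 := by decide

theorem three_sq : ∀ l : ZMod 3, l ≠ 0 → l * l = 1 := by decide

section General

variable {G : Type u} [Group G] [Finite G]

/-- Two maximal `p`-subgroups of a group are conjugate in it. -/
theorem conj_of_max {p : ℕ} [Fact p.Prime] {K P₁ P₂ : Subgroup G} (h₁ : P₁ ≤ K) (h₂ : P₂ ≤ K)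
    (hp₁ : IsPGroup p ↥P₁) (hp₂ : IsPGroup p ↥P₂)
    (m₁ : ∀ P : Subgroup G, IsPGroup p ↥P → P₁ ≤ P → P ≤ K → P ≤ P₁)
    (m₂ : ∀ P : Subgroup G, IsPGroup p ↥P → P₂ ≤ P → P ≤ K → P ≤ P₂) :
    ∃ h ∈ K, ∀ x ∈ P₁, h * x * h⁻¹ ∈ P₂ := by
  obtain ⟨T₁, hT₁⟩ := (hp₁.comap_of_injective K.subtype K.subtype_injective).exists_le_sylow
  obtain ⟨T₂, hT₂⟩ := (hp₂.comap_of_injective K.subtype K.subtype_injective).exists_le_sylow
  have up : ∀ {P : Subgroup G}, P ≤ K → ∀ T : Sylow p ↥K, P.comap K.subtype ≤ T →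
      P ≤ (T : Subgroup ↥K).map K.subtype := fun hPK T hT x hx => ⟨⟨x, hPK hx⟩, hT hx, rfl⟩
  have e₂ := m₂ _ (T₂.2.map K.subtype) (up h₂ T₂ hT₂) (map_subtype_le _)
  obtain ⟨h, hh⟩ := MulAction.exists_smul_eq ↥K T₁ T₂
  refine ⟨h, h.2, fun x hx => e₂ ⟨h * ⟨x, h₁ hx⟩ * h⁻¹, ?_, rfl⟩⟩
  rw [← hh]
  exact Subgroup.mem_map_of_mem (MulAut.conj h).toMonoidHom (hT₁ hx)

/-- The elementary abelian subgroup of an outer element and its fixed points in `J`. -/
def axT (J : Subgroup G) {e : G} (he3 : e ^ 3 = 1) : Subgroup G where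
  carrier := {p | ∃ a ∈ J, Commute a e ∧ ∃ i, p = a * zp e i}
  one_mem' := ⟨1, one_mem J, Commute.one_left e, 0, by rw [zp_zero, one_mul]⟩
  mul_mem' := by
    rintro _ _ ⟨a, ha, hae, i, rfl⟩ ⟨b, hb, hbe, j, rfl⟩
    refine ⟨a * b, mul_mem ha hb, hae.mul_left hbe, i + j, ?_⟩
    have hc : Commute b (zp e i) := hbe.pow_right _
    calc a * zp e i * (b * zp e j) = a * (zp e i * b) * zp e j := by group
      _ = a * (b * zp e i) * zp e j := by rw [hc.eq]
      _ = _ := by rw [zp_add he3]; group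
  inv_mem' := by
    rintro _ ⟨a, ha, hae, i, rfl⟩
    refine ⟨a⁻¹, inv_mem ha, hae.inv_left, -i, ?_⟩
    rw [zp_neg he3, mul_inv_rev]
    exact ((hae.pow_right _ : Commute a (zp e i)).inv_left.inv_right).eq.symm

omit [Finite G] in
theorem mul_zp_cube {a e : G} (hae : Commute a e) (ha : a ^ 3 = 1) (he3 : e ^ 3 = 1) (i : ZMod 3) :
    (a * zp e i) ^ 3 = 1 := by
  unfold zp
  rw [(hae.pow_right i.val).mul_pow, ha, one_mul, ← pow_mul, mul_comm, pow_mul, he3, one_pow]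

end General

variable {G : Type u} [Group G] [Finite G] {S : Sylow 3 G} {Z J M₀ L₀ Q : Subgroup G}
  (H : Hyp S Z J M₀ L₀ Q) {π : ↥L₀ →* SL5} {t f : G} (F : Frame Q L₀ π t f)
  {ρ : ↥M₀ →* Six.A6} {u w : G} (B : Base S J M₀ t ρ u w)
  {z x y : G} (C : Coord Z J Q t w z x y)
include H F B C

local notation "zz" => w * z * w⁻¹

/-- A conjugate of a nontrivial element of `Z` in `Q` lies in `Z`. -/
theorem Hyp.weak_closure_Q {g ζ : G} (hζ : ζ ∈ Z) (hζ1 : ζ ≠ 1) (hgQ : g * ζ * g⁻¹ ∈ Q) :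
    g * ζ * g⁻¹ ∈ Z := by
  haveI : Fact (Nat.Prime 3) := ⟨Nat.prime_three⟩
  set a := g * ζ * g⁻¹ with ha
  let δ : ↥Q →* ↥Z :=
    { toFun := fun q => ⟨(q : G) * a * (q : G)⁻¹ * a⁻¹, H.comm_Q q.2 hgQ⟩
      map_one' := Subtype.ext (by simp)
      map_mul' := fun q r => Subtype.ext (by
        have hz := H.comm_Q r.2 hgQ
        have h1 := H.Z_comm hz (H.Q_le_S q.2)
        have h2 := H.Z_comm hz (H.Q_le_S (mul_mem (mul_mem (mul_mem q.2 hgQ) (inv_mem q.2)) (inv_mem hgQ)))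
        show (q : G) * r * a * ((q : G) * r)⁻¹ * a⁻¹ =
          (q : G) * a * (q : G)⁻¹ * a⁻¹ * ((r : G) * a * (r : G)⁻¹ * a⁻¹)
        rw [h2]
        calc (q : G) * r * a * ((q : G) * r)⁻¹ * a⁻¹ =
            (q : G) * ((r : G) * a * (r : G)⁻¹ * a⁻¹) * (q : G)⁻¹ * ((q : G) * a * (q : G)⁻¹ * a⁻¹) := by group
          _ = _ := by rw [h1, mul_inv_cancel_right]) }
  set T := Q ⊓ centralizer ({a} : Set G) with hT
  have hker : δ.ker.map Q.subtype ≤ T := by
    rintro _ ⟨q, hq, rfl⟩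
    exact ⟨q.2, mem_centralizer_singleton_iff.2
      (mul_inv_eq_iff_eq_mul.1 (mul_inv_eq_one.1 (congrArg Subtype.val (MonoidHom.mem_ker.1 hq))))⟩
  have hT81 : 81 ≤ Nat.card ↥T := by
    refine le_trans ?_ (card_le_of_le hker)
    rw [card_map_of_injective Q.subtype_injective]
    have h := δ.ker.card_mul_index
    rw [index_ker, H.Q_card] at h
    have h3 : Nat.card ↥δ.range ≤ 3 := H.card_Z ▸ δ.range.card_le_card_group
    nlinarith [Nat.card_pos (α := ↥δ.ker)]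
  obtain ⟨r, hr, r', hr', hne⟩ : ∃ r ∈ T, ∃ r' ∈ T, r * r' ≠ r' * r := by
    by_contra hc
    push Not at hc
    have := H.abelian_Q (A := T) inf_le_left hc
    omega
  -- a Sylow subgroup of the centralizer
  set K := centralizer ({a} : Set G) with hK
  obtain ⟨P, hP⟩ := ((H.Q_pgroup.to_le (inf_le_left : T ≤ Q)).comap_of_injective K.subtype
    K.subtype_injective).exists_le_sylow
  have hPbig : 729 ≤ Nat.card ↥(P : Subgroup ↥K) := by
    set S' := (S : Subgroup G).map (MulAut.conj g).toMonoidHom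
    have hS'K : S' ≤ K := by
      rintro _ ⟨s, hs, rfl⟩
      refine mem_centralizer_singleton_iff.2 ?_
      show g * s * g⁻¹ * a = a * (g * s * g⁻¹)
      calc g * s * g⁻¹ * a = g * (s * ζ) * g⁻¹ := by rw [ha]; group
        _ = g * (ζ * s) * g⁻¹ := by rw [H.Z_comm hζ hs]
        _ = _ := by rw [ha]; group
    obtain ⟨P', hP'⟩ := ((S.2.map _).comap_of_injective K.subtype K.subtype_injective :
      IsPGroup 3 ↥(S'.comap K.subtype)).exists_le_sylow
    rw [P.card_eq_multiplicity, ← P'.card_eq_multiplicity]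
    refine le_trans (le_of_eq ?_) (card_le_of_le hP')
    show 729 = Nat.card ↥(S'.subgroupOf K)
    rw [Nat.card_congr (subgroupOfEquivOfLe hS'K).toEquiv, card_map_of_injective (MulEquiv.injective _), H.card_S]
  haveI := P.2.isNilpotent
  set T' := (T.comap K.subtype).subgroupOf (P : Subgroup ↥K)
  have hlt : T' < ⊤ := lt_top_iff_ne_top.2 fun h => by
    have h1 := card_le_of_le (Subgroup.subgroupOf_eq_top.1 h)
    have h2 : Nat.card ↥(T.comap K.subtype) = Nat.card ↥T :=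
      Nat.card_congr (subgroupOfEquivOfLe (inf_le_right : T ≤ K)).toEquiv
    have h3 : Nat.card ↥T ≤ 243 := H.Q_card ▸ card_le_of_le (inf_le_left : T ≤ Q)
    omega
  obtain ⟨v, hvN, hvT⟩ := SetLike.exists_of_lt (normalizerCondition_of_isNilpotent T' hlt)
  set u' : G := ((v : ↥K) : G) with hu'
  have hvT' : u' ∉ T := fun h => hvT h
  have huN : ∀ s ∈ T, u' * s * u'⁻¹ ∈ T := fun s hs =>
    (mem_normalizer_iff.1 hvN ⟨⟨s, hs.2⟩, hP hs⟩).1 hs
  have huZ : u' ∈ normalizer (Z : Set G) := by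
    refine Subgroup.mem_normalizer_fintype fun c hc => ?_
    have hcom : r * r' * r⁻¹ * r'⁻¹ ∈ Z := H.comm_Q hr.1 hr'.1
    have hcom1 : r * r' * r⁻¹ * r'⁻¹ ≠ 1 := fun h =>
      hne (mul_inv_eq_iff_eq_mul.1 (mul_inv_eq_one.1 h))
    obtain ⟨i, rfl⟩ := H.zp_Z hcom hcom1 hc
    rw [SetLike.mem_coe, conj_zp]
    refine zp_mem ?_ _
    rw [show u' * (r * r' * r⁻¹ * r'⁻¹) * u'⁻¹ =
      u' * r * u'⁻¹ * (u' * r' * u'⁻¹) * (u' * r * u'⁻¹)⁻¹ * (u' * r' * u'⁻¹)⁻¹ by group]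
    exact H.comm_Q (huN r hr).1 (huN r' hr').1
  obtain ⟨k, hk⟩ := IsPGroup.iff_orderOf.1 P.2 v
  have huL : u' ∈ L₀ := H.mem_L_of_three huZ (k := k) (by rw [← hk, hu', ← orderOf_coe, ← orderOf_coe])
  have hua : Commute u' a := mem_centralizer_singleton_iff.1 (v : ↥K).2
  have huQ : u' ∉ Q := fun h => hvT' ⟨h, (v : ↥K).2⟩
  -- move the element into `S`
  obtain ⟨T₁, hT₁⟩ := ((IsPGroup.iff_orderOf.2 fun a => by
      obtain ⟨b, hb⟩ := mem_zpowers_iff.1 a.2
      obtain ⟨j, -, hj⟩ := (Nat.dvd_prime_pow Nat.prime_three).1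
        (show orderOf a ∣ 3 ^ k by
          rw [← hk]
          refine orderOf_dvd_of_pow_eq_one (Subtype.ext (Subtype.ext ?_))
          show ((a : ↥L₀) : G) ^ orderOf v = 1
          rw [← hb]
          show (u' ^ b) ^ orderOf v = 1
          rw [hu', ← zpow_natCast, ← zpow_mul, mul_comm, zpow_mul, zpow_natCast, ← Subgroup.coe_pow,
            ← Subgroup.coe_pow, pow_orderOf_eq_one]
          simp)
      exact ⟨j, hj⟩) : IsPGroup 3 ↥(zpowers (⟨u', huL⟩ : ↥L₀))).exists_le_sylow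
  obtain ⟨l, hl⟩ := MulAction.exists_smul_eq ↥L₀ T₁ (S.subtype H.S_le_L)
  have hlu : (l : G) * u' * (l : G)⁻¹ ∈ (S : Subgroup G) := by
    have h := Subgroup.mem_map_of_mem (MulAut.conj l).toMonoidHom (hT₁ (mem_zpowers (⟨u', huL⟩ : ↥L₀)))
    have h' : l * ⟨u', huL⟩ * l⁻¹ ∈ ((S.subtype H.S_le_L : Sylow 3 ↥L₀) : Subgroup ↥L₀) := by rw [← hl]; exact h
    rwa [Sylow.coe_subtype, mem_subgroupOf] at h'
  have hlQ := H.L_le_normalizer_Q l.2
  have hnQ : (l : G) * u' * (l : G)⁻¹ ∉ Q := fun h => huQ ((mem_normalizer_iff.1 hlQ u').2 h)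
  have hfix : (l : G) * a * (l : G)⁻¹ ∈ J ⊓ Q := by
    rw [← H.fix_eq F hlu hnQ]
    refine ⟨(mem_normalizer_iff.1 hlQ a).1 hgQ, ?_⟩
    have hc : Commute ((l : G) * u' * (l : G)⁻¹) ((l : G) * a * (l : G)⁻¹) := by
      show _ = _
      calc (l : G) * u' * (l : G)⁻¹ * ((l : G) * a * (l : G)⁻¹) = (l : G) * (u' * a) * (l : G)⁻¹ := by group
        _ = (l : G) * (a * u') * (l : G)⁻¹ := by rw [hua.eq]
        _ = _ := by group
    rw [hc.eq, mul_inv_cancel_right, mul_inv_cancel]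
    exact one_mem _
  rw [ha, show (l : G) * (g * ζ * g⁻¹) * (l : G)⁻¹ = (l : G) * g * ζ * ((l : G) * g)⁻¹ by group] at hfix
  have hz'' := H.sing_R F B hζ hζ1 hfix
  have hc := mem_centralizer_iff.1 (H.L_le_cent l.2) _ hz''
  have : a = (l : G) * g * ζ * ((l : G) * g)⁻¹ := by
    calc a = (l : G)⁻¹ * ((l : G) * g * ζ * ((l : G) * g)⁻¹ * (l : G)) := by rw [ha]; group
      _ = _ := by rw [hc]; group
  rw [this]
  exact hz''

/-- An element moving `J` into `N(J)` normalizes it. -/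
theorem Hyp.norm_of_conj_le {g : G} (h : ∀ j ∈ J, g * j * g⁻¹ ∈ normalizer (J : Set G)) :
    g ∈ normalizer (J : Set G) := by
  have hJg : IsPGroup 3 ↥(J.map (MulAut.conj g).toMonoidHom) := (S.2.to_le H.J_le).map _
  have hP : IsPGroup 3 ↥(J ⊔ J.map (MulAut.conj g).toMonoidHom) := (S.2.to_le H.J_le).to_sup_of_normal_left' hJg
    (by rintro _ ⟨j, hj, rfl⟩; exact h j hj)
  have e := H.J_unique_in F hP (g := g) (fun j hj => mem_sup_right ⟨j, hj, rfl⟩) le_sup_left H.J_comm H.J_card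
  exact Subgroup.mem_normalizer_fintype fun j hj =>
    e.symm ▸ (⟨j, hj, rfl⟩ : g * j * g⁻¹ ∈ J.map (MulAut.conj g).toMonoidHom)

theorem Hyp.emb_vy_mem : z * zz ∈ J := by
  rw [← (H.emb_vy F B C).1]; exact H.emb_J F B C _

theorem Hyp.mem_yline {j : G} : j ∈ zpowers (z * zz) ↔ ∃ c, j = emb z zz x y (sc c vy) := by
  constructor
  · intro hj
    obtain ⟨n, rfl⟩ := (mem_powers_iff_mem_zpowers.2 hj : j ∈ Submonoid.powers (z * zz))
    refine ⟨(n : ZMod 3), ?_⟩
    show (z * zz) ^ n = _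
    rw [H.emb_pow F B C, (H.emb_vy F B C).1, ZMod.val_natCast]
    exact (pow_mod_orderOf _ n).symm.trans (by
      rw [← pow_mod_orderOf (z * zz) (n % 3), Nat.mod_mod_of_dvd _
        (orderOf_dvd_of_pow_eq_one (H.J_exp _ (H.emb_vy_mem F B C)))])
  · rintro ⟨c, rfl⟩
    rw [H.emb_pow F B C, (H.emb_vy F B C).1]
    exact pow_mem (mem_zpowers _) _

/-- The centralizer of `y` and of another element of `J` normalizes `J`. -/
theorem Hyp.line_le {g : G} {v : V} (hgy : Commute g (z * zz)) (hgv : Commute g (emb z zz x y v))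
    (hv : ∀ c, v ≠ sc c vy) : g ∈ normalizer (J : Set G) := by
  rw [← (H.emb_vy F B C).1] at hgy
  by_cases hs : ∃ i, qf (v + sc i vy) = 0
  · obtain ⟨i, hi⟩ := hs
    have e : sc i vy + sc 1 v = v + sc i vy := by simp [sc, Prod.ext_iff, add_comm]
    refine H.cent_line_sing F B C g hgy hgv ⟨i, 1, ?_, by rw [e]; exact hi⟩ fun s hs => ⟨vy, by simp, fun c hc => ?_⟩
    · rw [e]
      intro h
      refine hv (-i) ((eq_neg_of_add_eq_zero_left h).trans ?_)
      simp [sc, Prod.ext_iff, neg_mul]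
    · have h := congrArg qf hc
      rw [qf_sc, hs, mul_zero, qf_vy] at h
      exact one_ne_zero h
  · push Not at hs
    obtain ⟨a₁, a₂, c₁, c₂, hM⟩ := exists_to_plane hs
    obtain ⟨q, hq, hqa⟩ := C.trans a₁ a₂
    obtain ⟨l, hl, hla⟩ := H.exists_lo F B C c₁ c₂
    have hn : q * l ∈ normalizer (J : Set G) :=
      mul_mem (H.S_le_normalizer_J F (H.Q_le_S hq)) (H.M_le hl)
    have hna : Acts z zz x y (q * l) (comp (uni a₁ a₂) (lo c₁ c₂)) := Acts.mul hqa hla
    have h : q * l * g * (q * l)⁻¹ ∈ normalizer (J : Set G) := by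
      refine H.cent_W_le F B C (mem_centralizer_iff.2 fun b hb => ?_)
      obtain ⟨b', rfl⟩ := C.onto b hb.1
      have hb2 : app tMat b' = -b' := C.inj (by
        rw [← H.acts_t F B C, hb.2]
        have h0 := H.emb_mul F B C (-b') b'
        rw [neg_add_cancel, (emb_basis z zz x y).1] at h0
        exact (eq_inv_of_mul_eq_one_left h0.symm).symm)
      obtain ⟨h1, h4⟩ := (show ∀ v : V, app tMat v = -v → v.1 = 0 ∧ v.2.2.2 = 0 by decide +kernel) b' hb2
      obtain ⟨i, j, e⟩ := hM b' h1 h4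
      have hc : Commute g (emb z zz x y (sc i vy + sc j v)) := by
        rw [H.emb_mul F B C, H.emb_pow F B C, H.emb_pow F B C]
        exact (hgy.pow_right _).mul_right (hgv.pow_right _)
      rw [e, ← hna]
      calc q * l * emb z zz x y (sc i vy + sc j v) * (q * l)⁻¹ * (q * l * g * (q * l)⁻¹)
          = q * l * (emb z zz x y (sc i vy + sc j v) * g) * (q * l)⁻¹ := by group
        _ = q * l * (g * emb z zz x y (sc i vy + sc j v)) * (q * l)⁻¹ := by rw [hc.eq]
        _ = _ := by group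
    have := mul_mem (mul_mem (inv_mem hn) h) hn
    rwa [show (q * l)⁻¹ * (q * l * g * (q * l)⁻¹) * (q * l) = g by group] at this

theorem Hyp.line_le' {g j : G} (hgy : Commute g (z * zz)) (hj : j ∈ J) (hjy : j ∉ zpowers (z * zz))
    (hgj : Commute g j) : g ∈ normalizer (J : Set G) := by
  obtain ⟨v, rfl⟩ := C.onto j hj
  exact H.line_le F B C hgy hgj fun c hc => hjy ((H.mem_yline F B C).2 ⟨c, by rw [hc]⟩)

/-- Fusion in `C(y)` of elements of `J` outside `⟨y⟩` is induced by `N(J)`. -/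
theorem Hyp.fuse_J {g j : G} (hgy : Commute g (z * zz)) (hj : j ∈ J) (hjy : j ∉ zpowers (z * zz))
    (hgj : g * j * g⁻¹ ∈ J) : g ∈ normalizer (J : Set G) := by
  refine H.norm_of_conj_le F B C fun a ha => H.line_le' F B C ?_ hgj (fun h => hjy ?_) ?_
  · exact (hgy.mul_left (H.J_comm a ha _ (H.emb_vy_mem F B C))).mul_left hgy.inv_left
  · obtain ⟨i, hi⟩ := mem_zpowers_iff.1 h
    refine mem_zpowers_iff.2 ⟨i, ?_⟩
    calc (z * zz) ^ i = g⁻¹ * (g * (z * zz) ^ i) := by group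
      _ = g⁻¹ * ((g * j * g⁻¹) * g) := by rw [(hgy.zpow_right i).eq, hi]
      _ = j := by group
  · show _ = _
    calc g * a * g⁻¹ * (g * j * g⁻¹) = g * (a * j) * g⁻¹ := by group
      _ = g * (j * a) * g⁻¹ := by rw [H.J_comm a ha j hj]
      _ = _ := by group

/-- Elements of `Q` act by unipotent maps. -/
theorem Hyp.Q_acts {q : G} (hq : q ∈ Q) : ∃ a b, Acts z zz x y q (uni a b) := by
  obtain ⟨a, b, h⟩ := H.Q_image F B C hq
  obtain ⟨q', hq', hact⟩ := C.trans a b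
  have he := (emb_basis z zz x y).2.2.2.2
  have h1 := hact vz'
  rw [he, ← h] at h1
  have h2 : q'⁻¹ * q * zz * (q'⁻¹ * q)⁻¹ = zz := by
    calc q'⁻¹ * q * zz * (q'⁻¹ * q)⁻¹ = q'⁻¹ * (q * zz * q⁻¹) * q' := by group
      _ = q'⁻¹ * (q' * zz * q'⁻¹) * q' := by rw [h1]
      _ = zz := by group
  have h3 : q'⁻¹ * q ∈ J ⊓ Q := H.mem_R_of_trans F B C.z_mem C.z_ne (mul_mem (inv_mem hq') hq) (by
    rw [h2, mul_inv_cancel]; exact one_mem _)
  refine ⟨a, b, fun v => ?_⟩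
  rw [← hact, show q = q' * (q'⁻¹ * q) by group,
    show q' * (q'⁻¹ * q) * emb z zz x y v * (q' * (q'⁻¹ * q))⁻¹ =
      q' * (q'⁻¹ * q * emb z zz x y v * (q'⁻¹ * q)⁻¹) * q'⁻¹ by group,
    H.J_comm _ h3.1 _ (H.emb_J F B C v), mul_inv_cancel_right]

theorem Hyp.outer_acts {e : G} (heJ : e ∈ normalizer (J : Set G)) (hey : Commute e (z * zz)) (he3 : e ^ 3 = 1)
    (he : e ∉ J) : ∃ m, Acts z zz x y e m ∧ m ∈ rot24 ∧ comp m (comp m m) = Model.one ∧ m ≠ Model.one := by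
  obtain ⟨m, hm, -, -⟩ := H.exists_acts F B C heJ
  refine ⟨m, hm, H.stab_cases F B C heJ hey hm, H.acts_unique F B C (hm.mul (hm.mul hm))
    (by rw [← pow_two, ← pow_succ', he3]; exact Acts.one_one z zz x y), fun h => he ?_⟩
  refine H.cent_J F (mem_centralizer_iff.2 fun a ha => ?_)
  obtain ⟨v, rfl⟩ := C.onto a ha
  exact (H.commute_of_acts F B C hm (v := v) (by rw [h, uni_steps.2.2])).eq.symm

/-- An element of order three of `C(y) ∩ N(J)` outside `J` is not conjugate into `Z`. -/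
theorem Hyp.outer_not_Z {e : G} (heJ : e ∈ normalizer (J : Set G)) (hey : Commute e (z * zz))
    (he3 : e ^ 3 = 1) (he : e ∉ J) (g : G) : g * e * g⁻¹ ∉ Z := by
  intro hgZ
  haveI : Fact (Nat.Prime 3) := ⟨Nat.prime_three⟩
  obtain ⟨m, hm, hrot, hm3, hm1⟩ := H.outer_acts F B C heJ hey he3 he
  obtain ⟨c, hc0, hcq, -, hmc⟩ := exists_axis hrot hm3 hm1
  obtain ⟨k, hk, hkc⟩ := H.exists_to_z F B C hc0 hcq
  set e' := k * e * k⁻¹ with he'def
  have he'N : e' ∈ normalizer (J : Set G) := mul_mem (mul_mem hk heJ) (inv_mem hk)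
  have he'J : e' ∉ J := fun h => he ((mem_normalizer_iff.1 hk e).2 h)
  have he'3 : e' ^ 3 = 1 := by rw [he'def, conj_pow, he3, mul_one, mul_inv_cancel]
  have he'z : Commute e' z := by
    rw [← hkc]
    exact (H.commute_of_acts F B C hm hmc).map (MulAut.conj k).toMonoidHom
  have he'C := H.cent_z_eq F B C he'z
  have he'L : e' ∈ L₀ := H.mem_L_of_three (H.cent_le he'C) (k := 1)
    (by rw [pow_one]; exact orderOf_eq_prime he'3 fun h => he'J (h ▸ one_mem J))
  have he'Q := H.L_le_normalizer_Q he'L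
  have hnormS : e' ∈ normalizer ((S : Subgroup G) : Set G) := Subgroup.mem_normalizer_fintype fun s hs => by
    obtain ⟨a, ha, q, hq, rfl⟩ := H.exists_mul F hs
    rw [show e' * (a * q) * e'⁻¹ = e' * a * e'⁻¹ * (e' * q * e'⁻¹) by group]
    exact mul_mem (H.J_le ((mem_normalizer_iff.1 he'N a).1 ha)) (H.Q_le_S ((mem_normalizer_iff.1 he'Q q).1 hq))
  have he'S : e' ∈ (S : Subgroup G) := by
    have hp : IsPGroup 3 ↥(zpowers e') := IsPGroup.of_card (n := 1) (by
      rw [Nat.card_zpowers, pow_one]; exact orderOf_eq_prime he'3 fun h => he'J (h ▸ one_mem J))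
    have := S.3 (S.2.to_sup_of_normal_left' hp (zpowers_le.2 hnormS)) le_sup_left
    exact this ▸ mem_sup_right (mem_zpowers e')
  obtain ⟨a, ha, q, hq, haq⟩ := H.exists_mul F he'S
  obtain ⟨a₁, a₂, hqa⟩ := H.Q_acts F B C hq
  have huni : uni a₁ a₂ ≠ Model.one := fun h => he'J (haq ▸ mul_mem ha (H.cent_J F
    (mem_centralizer_iff.2 fun b hb => by
      obtain ⟨v, rfl⟩ := C.onto b hb
      exact (H.commute_of_acts F B C hqa (v := v) (by rw [h, uni_steps.2.2])).eq.symm)))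
  obtain ⟨v, rfl⟩ := C.onto a ha
  have hsum : v + app (uni a₁ a₂) v + app (uni a₁ a₂) (app (uni a₁ a₂) v) = 0 := by
    refine (H.emb_eq_one F B C).1 ?_
    rw [H.emb_mul F B C, H.emb_mul F B C, ← hqa (app _ v), ← hqa v]
    have hq3 := H.Q_exp q hq
    rw [haq, pow_succ, pow_two] at he'3
    rw [pow_succ, pow_two] at hq3
    calc _ = emb z zz x y v * q * (emb z zz x y v * q) * (emb z zz x y v * q) * (q * q * q)⁻¹ := by group
      _ = 1 := by rw [he'3, hq3]; simp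
  have hv4 := uni_cube huni hsum
  obtain ⟨hz, hz', hx, hy⟩ := H.mems F B C
  have haQ : emb z zz x y v ∈ Q := by
    simp only [emb, hv4, zp_zero, mul_one]
    exact mul_mem (zp_mem (H.Z_le_Q C.z_mem) _) (mul_mem (zp_mem (H.Wj_le F ⟨hx, C.x_t⟩).2 _)
      (zp_mem (H.Wj_le F ⟨hy, C.y_t⟩).2 _))
  have hne : g * e * g⁻¹ ≠ 1 := fun h => he (_root_.conj_eq_one_iff.1 h ▸ one_mem J)
  have e1 : k * g⁻¹ * (g * e * g⁻¹) * (k * g⁻¹)⁻¹ = e' := by rw [he'def]; group
  have := H.weak_closure_Q F B C (g := k * g⁻¹) hgZ hne (by rw [e1, haq]; exact mul_mem haQ hq)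
  exact he'J (H.Z_le_J F (e1 ▸ this))

theorem Hyp.conj_yline {g j : G} (hgy : Commute g (z * zz)) (hj : j ∈ zpowers (z * zz)) :
    g * j * g⁻¹ = j := by
  obtain ⟨i, rfl⟩ := mem_zpowers_iff.1 hj
  rw [(hgy.zpow_right i).eq, mul_inv_cancel_right]

/-- `J` is strongly closed modulo `⟨y⟩` in its normalizer in `C(y)`. -/
theorem Hyp.closed_J {g j : G} (hgy : Commute g (z * zz)) (hj : j ∈ J) (hjy : j ∉ zpowers (z * zz))
    (hgj : g * j * g⁻¹ ∈ normalizer (J : Set G)) : g * j * g⁻¹ ∈ J := by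
  by_contra hout
  set e := g * j * g⁻¹ with hedef
  have he3 : e ^ 3 = 1 := by rw [hedef, conj_pow, H.J_exp j hj, mul_one, mul_inv_cancel]
  have hjcy : Commute j (z * zz) := H.J_comm j hj _ (H.emb_vy_mem F B C)
  have hey : Commute e (z * zz) := (hgy.mul_left hjcy).mul_left hgy.inv_left
  obtain ⟨m, hm, hrot, hm3, hm1⟩ := H.outer_acts F B C hgj hey he3 hout
  obtain ⟨c, hc0, hcq, hcb, hmc⟩ := exists_axis hrot hm3 hm1
  set ec := emb z zz x y c with hecdef
  have hcy : Commute ec (z * zz) := H.J_comm _ (H.emb_J F B C c) _ (H.emb_vy_mem F B C)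
  set b := g⁻¹ * ec * g with hbdef
  have hby : Commute b (z * zz) := (hgy.inv_left.mul_left hcy).mul_left hgy
  have hbj : Commute b j := by
    have h := (H.commute_of_acts F B C hm hmc).symm.map (MulAut.conj g⁻¹).toMonoidHom
    simp only [MulEquiv.coe_toMonoidHom, MulAut.conj_apply, inv_inv] at h
    rwa [show g⁻¹ * e * g = j by rw [hedef]; group] at h
  have hbN := H.line_le' F B C hby hj hjy hbj
  have hb3 : b ^ 3 = 1 := by
    rw [hbdef, show g⁻¹ * ec * g = g⁻¹ * ec * g⁻¹⁻¹ by rw [inv_inv], conj_pow,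
      H.J_exp _ (H.emb_J F B C c), mul_one, mul_inv_cancel]
  by_cases hbJ : b ∈ J
  · have hgb : g * b * g⁻¹ = ec := by rw [hbdef]; group
    refine hout ((mem_normalizer_iff.1 (H.fuse_J F B C hgy hbJ (fun hb => ?_) (by rw [hgb]; exact H.emb_J F B C c)) j).1 hj)
    have h1 := H.conj_yline F B C hgy hb
    rw [hgb] at h1
    obtain ⟨i, hi⟩ := (H.mem_yline F B C).1 (h1.symm ▸ hb)
    have hci : c = sc i vy := C.inj hi
    rw [hci, qf_sc, qf_vy, mul_one, mul_self_eq_zero] at hcq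
    refine hc0 (hci.trans ?_)
    simp [hcq, sc, Prod.ext_iff]
  · obtain ⟨m', hm', hrot', hm'3, hm'1⟩ := H.outer_acts F B C hbN hby hb3 hbJ
    obtain ⟨c', hc'⟩ := exists_axis hrot' hm'3 hm'1
    obtain ⟨vj, hvj⟩ := C.onto j hj
    obtain ⟨i, l, hil⟩ := (axis_facts hrot' hm'3 hm'1 hc').1 vj (C.inj (by
      rw [← hm', hvj, hbj.eq, mul_inv_cancel_right]))
    have hl : l ≠ 0 := fun h => hjy ((H.mem_yline F B C).2 ⟨i, by
      rw [← hvj, hil, h]; congr 1; simp [sc, Prod.ext_iff]⟩)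
    have hne : sc l c' ≠ 0 := fun h => hc'.1 ((show ∀ l : ZMod 3, l ≠ 0 → ∀ v : V, sc l v = 0 → v = 0 by
      decide +kernel) l hl c' h)
    obtain ⟨g', hg'⟩ := (H.sing_iff F B C hne).2 (by rw [qf_sc, hc'.2.1, mul_zero])
    set yi := emb z zz x y (sc i vy) with hyidef
    have hyi : yi ∈ zpowers (z * zz) := (H.mem_yline F B C).2 ⟨i, rfl⟩
    have hjc : yi⁻¹ * j = emb z zz x y (sc l c') := by
      rw [← hvj, hil, H.emb_mul F B C, ← hyidef, inv_mul_cancel_left]
    have hyiJ : yi ∈ J := H.emb_J F B C _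
    have hgy' : Commute g yi := mul_inv_eq_iff_eq_mul.1 (H.conj_yline F B C hgy hyi)
    have he' : g * (yi⁻¹ * j) * g⁻¹ = yi⁻¹ * e := by
      rw [hedef]
      calc g * (yi⁻¹ * j) * g⁻¹ = g * yi⁻¹ * j * g⁻¹ := by group
        _ = yi⁻¹ * g * j * g⁻¹ := by rw [hgy'.inv_right.eq]
        _ = _ := by group
    refine H.outer_not_Z F B C (e := yi⁻¹ * e) (mul_mem (inv_mem (le_normalizer hyiJ)) hgj)
      (Commute.mul_left (H.J_comm _ (inv_mem hyiJ) _ (H.emb_vy_mem F B C)) hey) ?_ (fun h => hout ?_) (g' * g⁻¹) ?_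
    · rw [← he', conj_pow, H.J_exp _ (mul_mem (inv_mem hyiJ) hj), mul_one, mul_inv_cancel]
    · simpa using mul_mem hyiJ h
    · rw [← he', show g' * g⁻¹ * (g * (yi⁻¹ * j) * g⁻¹) * (g' * g⁻¹)⁻¹ = g' * (yi⁻¹ * j) * g'⁻¹ by group, hjc]
      exact hg'

variable {e : G} (heJ : e ∈ normalizer (J : Set G)) (hey : Commute e (z * (w * z * w⁻¹))) (he3 : e ^ 3 = 1) (he : e ∉ J)
include heJ hey he3 he

theorem Hyp.axT_pgroup : IsPGroup 3 ↥(axT J he3) := fun p => ⟨1, Subtype.ext (by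
  obtain ⟨a, ha, hae, i, hp⟩ := p.2
  show (p : G) ^ 3 ^ 1 = 1
  rw [hp, pow_one, mul_zp_cube hae (H.J_exp a ha) he3])⟩

theorem Hyp.axT_le : axT J he3 ≤ centralizer ({z * zz, e} : Set G) := by
  rintro _ ⟨a, ha, hae, i, rfl⟩
  refine mem_centralizer_iff.2 ?_
  rintro b (rfl | rfl)
  · exact ((show Commute a _ from H.J_comm a ha _ (H.emb_vy_mem F B C)).mul_left (hey.pow_left _)).eq.symm
  · exact (hae.mul_left ((Commute.refl _).pow_left _)).eq.symm

theorem Hyp.e_mem_axT : e ∈ axT J he3 := ⟨1, one_mem J, Commute.one_left e, 1, by rw [zp_one, one_mul]⟩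

theorem Hyp.axT_J {v : V} (hv : Commute e (emb z zz x y v)) : emb z zz x y v ∈ axT J he3 :=
  ⟨_, H.emb_J F B C v, hv.symm, 0, by rw [zp_zero, mul_one]⟩

/-- The conjugates of elements of `Z` in the subgroup lie in `J`. -/
theorem Hyp.axT_sing {p g : G} (hp : p ∈ axT J he3) (hg : g * p * g⁻¹ ∈ Z) : p ∈ J := by
  obtain ⟨a, ha, hae, i, rfl⟩ := hp
  by_contra hpJ
  refine H.outer_not_Z F B C (mul_mem (le_normalizer ha) (pow_mem heJ _))
    ((show Commute a _ from H.J_comm a ha _ (H.emb_vy_mem F B C)).mul_left (hey.pow_left _)) ?_ hpJ g hg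
  exact mul_zp_cube hae (H.J_exp a ha) he3 i

/-- It is a maximal 3-subgroup of `C(y) ∩ C(e)`. -/
theorem Hyp.axT_max {P : Subgroup G} (hP : IsPGroup 3 ↥P) (hTP : axT J he3 ≤ P)
    (hPK : P ≤ centralizer ({z * zz, e} : Set G)) : P ≤ axT J he3 := by
  haveI : Fact (Nat.Prime 3) := ⟨Nat.prime_three⟩
  haveI := hP.isNilpotent
  by_contra hnle
  have hlt : (axT J he3).subgroupOf P < ⊤ :=
    lt_top_iff_ne_top.2 fun h => hnle (Subgroup.subgroupOf_eq_top.1 h)
  obtain ⟨q, hqN, hqT⟩ := SetLike.exists_of_lt (normalizerCondition_of_isNilpotent _ hlt)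
  apply hqT
  rw [mem_subgroupOf]
  obtain ⟨m, hm, hrot, hm3, hm1⟩ := H.outer_acts F B C heJ hey he3 he
  obtain ⟨c, hax⟩ := exists_axis hrot hm3 hm1
  obtain ⟨hc0, hcq, hcb, hmc⟩ := hax
  have hqy : Commute (q : G) (z * zz) := (mem_centralizer_iff.1 (hPK q.2) _ (Or.inl rfl)).symm
  have hqe : Commute (q : G) e := (mem_centralizer_iff.1 (hPK q.2) _ (Or.inr rfl)).symm
  set ec := emb z zz x y c with hecdef
  have hecy : ec ∉ zpowers (z * zz) := fun h => by
    obtain ⟨i, hi⟩ := (H.mem_yline F B C).1 h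
    have hci : c = sc i vy := C.inj hi
    rw [hci, qf_sc, qf_vy, mul_one, mul_self_eq_zero] at hcq
    exact hc0 (hci.trans (by simp [hcq, sc, Prod.ext_iff]))
  have hecT : ec ∈ axT J he3 := H.axT_J F B C heJ hey he3 he (H.commute_of_acts F B C hm hmc)
  have hqc : (q : G) * ec * (q : G)⁻¹ ∈ axT J he3 :=
    (mem_normalizer_iff.1 hqN ⟨ec, hTP hecT⟩).1 hecT
  obtain ⟨g', hg'⟩ := (H.sing_iff F B C hc0).2 hcq
  have hqcJ := H.axT_sing F B C heJ hey he3 he hqc (g := g' * (q : G)⁻¹) (by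
    rw [show g' * (q : G)⁻¹ * ((q : G) * ec * (q : G)⁻¹) * (g' * (q : G)⁻¹)⁻¹ = g' * ec * g'⁻¹ by group]
    exact hg')
  have hqJ := H.fuse_J F B C hqy (H.emb_J F B C c) hecy hqcJ
  obtain ⟨n, hn, -, -⟩ := H.exists_acts F B C hqJ
  have hnr := H.stab_cases F B C hqJ hqy hn
  -- the image is the axis or its inverse
  have hcom : app m (app n c) = app n c := by
    have h := H.acts_unique F B C (hm.mul hn) (by rw [← hqe.eq]; exact hn.mul hm)
    rw [← app_comp, h, app_comp, hmc]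
  obtain ⟨i, l, hil⟩ := (axis_facts hrot hm3 hm1 ⟨hc0, hcq, hcb, hmc⟩).1 _ hcom
  obtain ⟨n', hn', -, hsim⟩ := H.exists_acts F B C hqJ
  obtain rfl := H.acts_unique F B C hn' hn
  have hi : i = 0 := by
    have h := hsim c
    rw [hcq, mul_zero, hil, qf_add, qf_sc, qf_sc, hcq, mul_zero, add_zero, qf_vy, mul_one] at h
    have hbil : bil (sc i vy) (sc l c) = i * l * bil c vy := by simp [bil, sc]; ring
    rwa [hbil, hcb, mul_zero, add_zero, mul_self_eq_zero] at h
  have himg : app n' c = sc l c := by rw [hil, hi]; simp [sc, Prod.ext_iff]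
  have hl2 : app (comp n' n') c = sc (l * l) c := by
    rw [app_comp, himg, show app n' (sc l c) = sc l (app n' c) by simp [app, sc, Prod.ext_iff]; ring_nf; simp,
      himg]
    simp [sc, Prod.ext_iff, mul_assoc]
  have hll : l * l = 1 := by
    have h := hsim c
    refine three_sq l fun h0 => ?_
    subst h0
    have h' : emb z zz x y (app n' c) = 1 := by rw [himg, H.emb_pow F B C]; simp
    rw [← hn', _root_.conj_eq_one_iff, H.emb_eq_one F B C] at h'
    exact hc0 h'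
  have hsq : Commute ((q : G) * q) ec := H.commute_of_acts F B C (hn'.mul hn') (by
    rw [hl2, hll]; simp [sc])
  obtain ⟨k, hk⟩ := IsPGroup.iff_orderOf.1 hP q
  have hqec : Commute (q : G) ec := by
    obtain ⟨r, hr⟩ : ∃ r, 2 * r = 3 ^ k + 1 := ⟨(3 ^ k + 1) / 2, Nat.mul_div_cancel' (by
      rw [Nat.dvd_iff_mod_eq_zero, Nat.add_mod, Nat.pow_mod]; norm_num)⟩
    have h : ((q : G) * q) ^ r = q := by
      rw [← pow_two, ← pow_mul, hr, pow_succ, ← hk, ← Subgroup.coe_pow, pow_orderOf_eq_one, OneMemClass.coe_one,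
        one_mul]
    exact h ▸ hsq.pow_left r
  have hnc : app n' c = c := C.inj (by rw [← hn', hqec.eq, mul_inv_cancel_right])
  obtain ⟨d, hd⟩ : ∃ d : ZMod 3, Acts z zz x y (zp e d) n' := by
    rcases (axis_facts hrot hm3 hm1 ⟨hc0, hcq, hcb, hmc⟩).2 _ hnr hnc with h | h | h
    · exact ⟨0, by rw [zp_zero, h]; exact Acts.one_one z zz x y⟩
    · exact ⟨1, by rw [zp_one, h]; exact hm⟩
    · exact ⟨1 + 1, by rw [zp_add he3, zp_one, h]; exact hm.mul hm⟩
  have ha : (q : G) * (zp e d)⁻¹ ∈ J := H.cent_J F (mem_centralizer_iff.2 fun b hb => by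
    obtain ⟨v, rfl⟩ := C.onto b hb
    obtain ⟨v', hv'⟩ := C.onto _ ((mem_normalizer_iff''.1 (zp_mem heJ d) _).1 (H.emb_J F B C v))
    have h1 : zp e d * emb z zz x y v' * (zp e d)⁻¹ = emb z zz x y v := by rw [hv']; group
    rw [hd] at h1
    calc emb z zz x y v * ((q : G) * (zp e d)⁻¹)
        = emb z zz x y (app n' v') * ((q : G) * (zp e d)⁻¹) := by rw [h1]
      _ = (q : G) * emb z zz x y v' * (zp e d)⁻¹ := by rw [← hn']; group
      _ = (q : G) * (zp e d)⁻¹ * emb z zz x y v := by rw [hv']; group)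
  exact ⟨_, ha, hqe.mul_left ((Commute.refl e).pow_left _).inv_left, d, (inv_mul_cancel_right _ _).symm⟩

/-- Fusion in `C(y)` of outer elements of order three is induced by `N(J)`. -/
theorem Hyp.fuse_outer {g : G} (hgy : Commute g (z * zz)) (hge : g * e * g⁻¹ ∈ normalizer (J : Set G))
    (hout : g * e * g⁻¹ ∉ J) : ∃ k ∈ normalizer (J : Set G), Commute k (z * zz) ∧ k * e * k⁻¹ = g * e * g⁻¹ := by
  haveI : Fact (Nat.Prime 3) := ⟨Nat.prime_three⟩
  set e₂ := g * e * g⁻¹ with he2def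
  have he23 : e₂ ^ 3 = 1 := by rw [he2def, conj_pow, he3, mul_one, mul_inv_cancel]
  have he2y : Commute e₂ (z * zz) := (hgy.mul_left hey).mul_left hgy.inv_left
  set K := centralizer ({z * zz, e₂} : Set G) with hK
  set T := axT J he3
  set T₂ := axT J he23
  have hto : ∀ p ∈ centralizer ({z * zz, e} : Set G), g * p * g⁻¹ ∈ K := by
    intro p hp
    refine mem_centralizer_iff.2 ?_
    rintro b (rfl | rfl)
    · exact ((hgy.mul_left (mem_centralizer_iff.1 hp _ (Or.inl rfl)).symm).mul_left hgy.inv_left).eq.symm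
    · have h : Commute p e := (mem_centralizer_iff.1 hp _ (Or.inr rfl)).symm
      exact ((h.map (MulAut.conj g).toMonoidHom)).eq.symm
  have hT₁ : T.map (MulAut.conj g).toMonoidHom ≤ K := by
    rintro _ ⟨p, hp, rfl⟩; exact hto p (H.axT_le F B C heJ hey he3 he hp)
  obtain ⟨h, hhK, hh⟩ := conj_of_max (p := 3) hT₁ (H.axT_le F B C hge he2y he23 hout)
    ((H.axT_pgroup F B C heJ hey he3 he).map _) (H.axT_pgroup F B C hge he2y he23 hout)
    (fun P hP hle hPK => by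
      intro p hp
      have hsub := H.axT_max F B C heJ hey he3 he (P := P.map (MulAut.conj g⁻¹).toMonoidHom) (hP.map _)
        (fun a ha => ⟨g * a * g⁻¹, hle ⟨a, ha, rfl⟩, by simp [mul_assoc]⟩) (by
          rintro _ ⟨b, hb, rfl⟩
          refine mem_centralizer_iff.2 ?_
          have hb' := hPK hb
          have hby : Commute b (z * zz) := (mem_centralizer_iff.1 hb' _ (Or.inl rfl)).symm
          rintro d (rfl | rfl)
          · have h1 : Commute (g⁻¹ * b * g⁻¹⁻¹) (z * zz) := (hgy.inv_left.mul_left hby).mul_left hgy.inv_left.inv_left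
            exact h1.eq.symm
          · have h1 := (show Commute b e₂ from (mem_centralizer_iff.1 hb' _ (Or.inr rfl)).symm).map
              (MulAut.conj g⁻¹).toMonoidHom
            simp only [MulEquiv.coe_toMonoidHom, MulAut.conj_apply, inv_inv] at h1 ⊢
            rw [show g⁻¹ * e₂ * g = d by rw [he2def]; group] at h1
            exact h1.eq.symm)
      refine ⟨g⁻¹ * p * g⁻¹⁻¹, hsub ⟨p, hp, rfl⟩, ?_⟩
      show g * (g⁻¹ * p * g⁻¹⁻¹) * g⁻¹ = p
      group)
    (fun P hP hle hPK => H.axT_max F B C hge he2y he23 hout hP hle hPK)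
  have hhy : Commute h (z * zz) := (mem_centralizer_iff.1 hhK _ (Or.inl rfl)).symm
  have hhe : Commute h e₂ := (mem_centralizer_iff.1 hhK _ (Or.inr rfl)).symm
  refine ⟨h * g, ?_, hhy.mul_left hgy, ?_⟩
  · obtain ⟨m, hm, hrot, hm3, hm1⟩ := H.outer_acts F B C heJ hey he3 he
    obtain ⟨c, hc0, hcq, hcb, hmc⟩ := exists_axis hrot hm3 hm1
    obtain ⟨g', hg'⟩ := (H.sing_iff F B C hc0).2 hcq
    have hcT := H.axT_J F B C heJ hey he3 he (H.commute_of_acts F B C hm hmc)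
    have himg : h * g * emb z zz x y c * (h * g)⁻¹ ∈ T₂ := by
      have h1 := hh _ ⟨_, hcT, rfl⟩
      simp only [MulEquiv.coe_toMonoidHom, MulAut.conj_apply] at h1
      rwa [show h * g * emb z zz x y c * (h * g)⁻¹ = h * (g * emb z zz x y c * g⁻¹) * h⁻¹ by group]
    refine H.fuse_J F B C (hhy.mul_left hgy) (H.emb_J F B C c) (fun hc => ?_)
      (H.axT_sing F B C hge he2y he23 hout himg (g := g' * (h * g)⁻¹) ?_)
    · obtain ⟨i, hi⟩ := (H.mem_yline F B C).1 hc
      have hci : c = sc i vy := C.inj hi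
      rw [hci, qf_sc, qf_vy, mul_one, mul_self_eq_zero] at hcq
      exact hc0 (hci.trans (by simp [hcq, sc, Prod.ext_iff]))
    · rw [show g' * (h * g)⁻¹ * (h * g * emb z zz x y c * (h * g)⁻¹) * (g' * (h * g)⁻¹)⁻¹ =
        g' * emb z zz x y c * g'⁻¹ by group]
      exact hg'
  · rw [show h * g * e * (h * g)⁻¹ = h * e₂ * h⁻¹ by rw [he2def]; group, hhe.eq, mul_inv_cancel_right]

omit heJ hey he3 he in
/-- An element of order three of `C(y) ∩ N(J)` outside `J`. -/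
theorem Hyp.exists_outer_E :
    ∃ e ∈ normalizer (J : Set G), Commute e (z * zz) ∧ e ^ 3 = 1 ∧ e ∉ J := by
  obtain ⟨a₁, a₂, c₁, c₂, hM⟩ := exists_mover
  obtain ⟨q, hq, hqa⟩ := C.trans a₁ a₂
  obtain ⟨l, hl, hla⟩ := H.exists_lo F B C c₁ c₂
  obtain ⟨r, hr, hra⟩ := C.trans 1 (-1)
  have hn : q * l ∈ normalizer (J : Set G) :=
    mul_mem (H.S_le_normalizer_J F (H.Q_le_S hq)) (H.M_le hl)
  have hrN := H.S_le_normalizer_J F (H.Q_le_S hr)
  refine ⟨q * l * r * (q * l)⁻¹, mul_mem (mul_mem hn hrN) (inv_mem hn), ?_,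
    by rw [conj_pow, H.Q_exp r hr, mul_one, mul_inv_cancel], fun h => ?_⟩
  · have h := (H.commute_of_acts F B C hra uni_fixes.2).map (MulAut.conj (q * l)).toMonoidHom
    simp only [MulEquiv.coe_toMonoidHom, MulAut.conj_apply] at h
    rwa [Acts.mul hqa hla, hM, (H.emb_vy F B C).1] at h
  · have hrJ : r ∈ J := (mem_normalizer_iff.1 hn r).2 h
    refine uni_fixes.1 (H.acts_unique F B C hra fun v => ?_)
    rw [uni_steps.2.2, H.J_comm r hrJ _ (H.emb_J F B C v), mul_inv_cancel_right]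

end Cfsg.Agent.McLThree
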