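import Cfsg.Agent.S3701
import Cfsg.Agent.S3702
import Cfsg.Agent.Lib.PLocal.Cores

/-!
# The centralizer of a nonsingular element of `J`, modulo that element

A group `D` centralizing `y ∈ J` normalizes `J` as soon as `N_D(J)/⟨y⟩` is one of the two permutation
groups of degree nine and the elements of `J` outside `⟨y⟩` are fused only inside `N(J)` (and, for the
larger group, `J` is strongly closed in `N_D(J)`).
-/

set_option autoImplicit false
set_option linter.unusedSectionVars false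
set_option linter.style.haveILetI false

namespace Cfsg.Agent.McLThree.CentQuot

open Subgroup

universe u

/-- The group of order 108 on nine points. -/
def smallK : Subgroup (Equiv.Perm (Fin 9)) :=
  Subgroup.closure {Equiv.swap (0 : Fin 9) 1 * Equiv.swap 1 2, Equiv.swap (3 : Fin 9) 4 * Equiv.swap 4 5,
    Equiv.swap (6 : Fin 9) 7 * Equiv.swap 7 8, Equiv.swap (0 : Fin 9) 1 * Equiv.swap 3 4,
    Equiv.swap (0 : Fin 9) 1 * Equiv.swap 6 7}

/-- The group of order 648 on nine points. -/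
def largeK : Subgroup (Equiv.Perm (Fin 9)) :=
  Subgroup.closure {Equiv.swap (0 : Fin 9) 1 * Equiv.swap 1 2,
    Equiv.swap (0 : Fin 9) 3 * Equiv.swap 3 6 * (Equiv.swap (1 : Fin 9) 4 * Equiv.swap 4 7) *
      (Equiv.swap (2 : Fin 9) 5 * Equiv.swap 5 8),
    Equiv.swap (0 : Fin 9) 1 * Equiv.swap 3 4,
    Equiv.swap (0 : Fin 9) 3 * Equiv.swap 1 4 * Equiv.swap 2 5 * Equiv.swap 6 7}

variable {G : Type u} [Group G] [Finite G]

/-- The passage to the quotient by `⟨y⟩`: a recognition theorem there gives `D ≤ N(J)`. -/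
theorem reduce (D J : Subgroup G) (y : G) (hy : y ∈ J) (hy3 : orderOf y = 3) (hJD : J ≤ D)
    (hcent : ∀ d ∈ D, Commute d y) (hJc : ∀ a ∈ J, ∀ b ∈ J, a * b = b * a) (hJ : Nat.card ↥J = 81)
    (Φ : ↥(D ⊓ normalizer (J : Set G) : Subgroup G) →* Equiv.Perm (Fin 9))
    (hker : ∀ n, Φ n = 1 ↔ (n : G) ∈ zpowers y) (K : Subgroup (Equiv.Perm (Fin 9))) (hrange : Φ.range = K)
    (hfuse : ∀ g ∈ D, ∀ j ∈ J, j ∉ zpowers y → g * j * g⁻¹ ∈ J → g ∈ normalizer (J : Set G))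
    (recog : ∀ (U : Type u) [Group U] [Finite U] (H T : Subgroup U), Nonempty (↥H ≃* ↥K) → T ≤ H →
      Nat.card T = 27 → IsPGroup 3 ↥T → normalizer (T : Set U) = H →
      (∀ t ∈ T, t ≠ 1 → centralizer ({t} : Set U) ≤ H) →
      ((∀ g ∈ D, ∀ j ∈ J, j ∉ zpowers y → g * j * g⁻¹ ∈ normalizer (J : Set G) → g * j * g⁻¹ ∈ J) →
        Cfsg.IsStronglyClosed T H) → H = ⊤) :
    D ≤ normalizer (J : Set G) := by
  haveI : Fact (Nat.Prime 3) := ⟨Nat.prime_three⟩
  have hyD : y ∈ D := hJD hy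
  set Y : Subgroup ↥D := (zpowers y).subgroupOf D with hYdef
  haveI hYn : Y.Normal := ⟨fun a ha d => by
    rw [hYdef, mem_subgroupOf] at ha ⊢
    obtain ⟨k, hk⟩ := mem_zpowers_iff.1 ha
    have hc : Commute (d : G) (a : G) := hk ▸ (hcent d d.2).zpow_right k
    rw [coe_mul, coe_mul, coe_inv, hc.eq, mul_inv_cancel_right]
    exact ha⟩
  let q : ↥D →* (↥D ⧸ Y) := QuotientGroup.mk' Y
  have hq : ∀ d : ↥D, q d = 1 ↔ (d : G) ∈ zpowers y := fun d =>
    (QuotientGroup.eq_one_iff d).trans mem_subgroupOf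
  have hYJ : zpowers y ≤ J := zpowers_le.2 hy
  have hJN : J ≤ normalizer (J : Set G) := le_normalizer
  let ι : ↥(D ⊓ normalizer (J : Set G) : Subgroup G) →* (↥D ⧸ Y) :=
    q.comp (Subgroup.inclusion inf_le_left)
  have hι : ι.ker = Φ.ker := by
    ext n
    rw [MonoidHom.mem_ker, MonoidHom.mem_ker, hker]
    exact hq _
  let T : Subgroup (↥D ⧸ Y) := (J.subgroupOf D).map q
  have hTmem : ∀ {x}, x ∈ T → ∃ j : ↥D, (j : G) ∈ J ∧ q j = x := fun hx => by
    obtain ⟨j, hj, rfl⟩ := hx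
    exact ⟨j, hj, rfl⟩
  -- an element of `D` whose image lies in the image of `J`
  have hback : ∀ d : ↥D, q d ∈ T → (d : G) ∈ J := fun d hd => by
    obtain ⟨j, hj, hjd⟩ := hTmem hd
    have h1 : q (j⁻¹ * d) = 1 := by rw [map_mul, map_inv, hjd, inv_mul_cancel]
    have h2 := hYJ ((hq _).1 h1)
    rw [coe_mul, coe_inv] at h2
    have := mul_mem hj h2
    rwa [mul_inv_cancel_left] at this
  have hmemH : ∀ d : ↥D, (d : G) ∈ normalizer (J : Set G) → q d ∈ ι.range := fun d hd =>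
    ⟨⟨(d : G), d.2, hd⟩, rfl⟩
  have hbackH : ∀ d : ↥D, q d ∈ ι.range → (d : G) ∈ normalizer (J : Set G) := fun d hd => by
    obtain ⟨n, hn⟩ := hd
    have h1 : q ((Subgroup.inclusion inf_le_left n)⁻¹ * d) = 1 := by
      rw [map_mul, map_inv]
      show (ι n)⁻¹ * q d = 1
      rw [hn, inv_mul_cancel]
    have h2 := hJN (hYJ ((hq _).1 h1))
    rw [coe_mul, coe_inv, coe_inclusion] at h2
    have := mul_mem n.2.2 h2
    rwa [mul_inv_cancel_left] at this
  have hTH : T ≤ ι.range := fun x hx => by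
    obtain ⟨j, hj, rfl⟩ := hTmem hx
    exact hmemH j (hJN hj)
  have hTcard : Nat.card T = 27 := by
    have h1 := PLocal.Cores.card_eq_card_inf_ker_mul_card_map (J.subgroupOf D) q
    have h2 : J.subgroupOf D ⊓ q.ker = Y := by
      ext d
      rw [mem_inf, MonoidHom.mem_ker, hq, hYdef, mem_subgroupOf, mem_subgroupOf]
      exact ⟨fun h => h.2, fun h => ⟨hYJ h, h⟩⟩
    have h3 : Nat.card ↥(J.subgroupOf D) = 81 :=
      (Nat.card_congr (subgroupOfEquivOfLe hJD).toEquiv).trans hJ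
    have h4 : Nat.card ↥Y = 3 := by
      rw [hYdef, Nat.card_congr (subgroupOfEquivOfLe (zpowers_le.2 hyD)).toEquiv, Nat.card_zpowers, hy3]
    rw [h2, h3, h4] at h1
    change 81 = 3 * Nat.card ↥T at h1
    omega
  have hT3 : IsPGroup 3 ↥T := IsPGroup.of_card (n := 3) (by rw [hTcard]; norm_num)
  -- conjugates
  have hconj : ∀ d j : ↥D, q d * q j * (q d)⁻¹ = q (d * j * d⁻¹) := fun d j => by
    rw [map_mul, map_mul, map_inv]
  have hout : ∀ j : ↥D, q j ≠ 1 → (j : G) ∉ zpowers y := fun j hj h => hj ((hq j).2 h)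
  obtain ⟨j₀, hj₀, hj₀y⟩ : ∃ j ∈ J, j ∉ zpowers y := by
    by_contra hno
    push_neg at hno
    have h1 : Nat.card ↥J ≤ Nat.card ↥(zpowers y) := Nat.le_of_dvd Nat.card_pos (card_dvd_of_le hno)
    rw [hJ, Nat.card_zpowers, hy3] at h1
    omega
  have hnorm : normalizer (T : Set (↥D ⧸ Y)) = ι.range := by
    refine le_antisymm (fun x hx => ?_) (fun x hx => ?_)
    · obtain ⟨d, rfl⟩ := QuotientGroup.mk'_surjective Y x
      refine hmemH d (hfuse d d.2 j₀ hj₀ hj₀y ?_)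
      have h1 : q d * q ⟨j₀, hJD hj₀⟩ * (q d)⁻¹ ∈ T :=
        (mem_normalizer_iff.1 hx _).1 ⟨⟨j₀, hJD hj₀⟩, hj₀, rfl⟩
      rw [hconj] at h1
      exact hback _ h1
    · obtain ⟨n, rfl⟩ := hx
      refine mem_normalizer_fintype fun v hv => ?_
      obtain ⟨j, hj, rfl⟩ := hTmem hv
      show q _ * q j * (q _)⁻¹ ∈ T
      rw [hconj]
      exact ⟨_, by
        show ((n : G) * (j : G) * (n : G)⁻¹) ∈ J
        exact (mem_normalizer_iff.1 n.2.2 _).1 hj, rfl⟩
  have hC : ∀ t ∈ T, t ≠ 1 → centralizer ({t} : Set (↥D ⧸ Y)) ≤ ι.range := by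
    intro t ht ht1 x hx
    obtain ⟨j, hj, rfl⟩ := hTmem ht
    obtain ⟨d, rfl⟩ := QuotientGroup.mk'_surjective Y x
    refine hmemH d (hfuse d d.2 j hj (hout j ht1) ?_)
    have h1 : q d * q j * (q d)⁻¹ ∈ T := by
      rw [mem_centralizer_singleton_iff.1 hx, mul_inv_cancel_right]
      exact ⟨j, hj, rfl⟩
    rw [hconj] at h1
    exact hback _ h1
  have hiso : Nonempty (↥ι.range ≃* ↥K) :=
    ⟨(QuotientGroup.quotientKerEquivRange ι).symm.trans
      ((QuotientGroup.quotientMulEquivOfEq hι).trans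
        ((QuotientGroup.quotientKerEquivRange Φ).trans (MulEquiv.subgroupCongr hrange)))⟩
  have htop : ι.range = ⊤ := recog _ ι.range T hiso hTH hTcard hT3 hnorm hC fun hclosed => by
    refine ⟨hTH, fun x hx g hg => ?_⟩
    obtain ⟨j, hj, rfl⟩ := hTmem hx
    obtain ⟨d, rfl⟩ := QuotientGroup.mk'_surjective Y g
    change q d * q j * (q d)⁻¹ ∈ T
    change q d * q j * (q d)⁻¹ ∈ ι.range at hg
    by_cases hjy : q j = 1
    · rw [hjy, mul_one, mul_inv_cancel]
      exact one_mem T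
    · rw [hconj] at hg ⊢
      exact ⟨_, hclosed d d.2 j hj (hout j hjy) (hbackH _ hg), rfl⟩
  intro d hd
  exact hbackH ⟨d, hd⟩ (htop ▸ mem_top _)

/-- The smaller group. -/
theorem recog_small (D J : Subgroup G) (y : G) (hy : y ∈ J) (hy3 : orderOf y = 3) (hJD : J ≤ D)
    (hcent : ∀ d ∈ D, Commute d y) (hJc : ∀ a ∈ J, ∀ b ∈ J, a * b = b * a) (hJ : Nat.card ↥J = 81)
    (Φ : ↥(D ⊓ normalizer (J : Set G) : Subgroup G) →* Equiv.Perm (Fin 9))
    (hker : ∀ n, Φ n = 1 ↔ (n : G) ∈ zpowers y) (hrange : Φ.range = smallK)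
    (hfuse : ∀ g ∈ D, ∀ j ∈ J, j ∉ zpowers y → g * j * g⁻¹ ∈ J → g ∈ normalizer (J : Set G)) :
    D ≤ normalizer (J : Set G) :=
  reduce D J y hy hy3 hJD hcent hJc hJ Φ hker smallK hrange hfuse
    fun _ _ _ H T hiso hTH hT _ hN hC _ => S3701.result H hiso T hTH hT hN hC

/-- The larger group. -/
theorem recog_large (D J : Subgroup G) (y : G) (hy : y ∈ J) (hy3 : orderOf y = 3) (hJD : J ≤ D)
    (hcent : ∀ d ∈ D, Commute d y) (hJc : ∀ a ∈ J, ∀ b ∈ J, a * b = b * a) (hJ : Nat.card ↥J = 81)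
    (Φ : ↥(D ⊓ normalizer (J : Set G) : Subgroup G) →* Equiv.Perm (Fin 9))
    (hker : ∀ n, Φ n = 1 ↔ (n : G) ∈ zpowers y) (hrange : Φ.range = largeK)
    (hfuse : ∀ g ∈ D, ∀ j ∈ J, j ∉ zpowers y → g * j * g⁻¹ ∈ J → g ∈ normalizer (J : Set G))
    (hclosed : ∀ g ∈ D, ∀ j ∈ J, j ∉ zpowers y → g * j * g⁻¹ ∈ normalizer (J : Set G) → g * j * g⁻¹ ∈ J) :
    D ≤ normalizer (J : Set G) :=
  reduce D J y hy hy3 hJD hcent hJc hJ Φ hker largeK hrange hfuse
    fun U _ _ H T hiso hTH hT hT3 hN hC hsc => by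
      haveI : Fact (Nat.Prime 3) := ⟨Nat.prime_three⟩
      refine S3702.result H hiso T ?_ hC (hsc hclosed)
      obtain ⟨e⟩ := hiso
      let ε : RecogNine.W ≃* ↥H := RecogNine.closureEquiv.trans e.symm
      refine eq_of_le_of_card_ge ?_ (le_of_eq ?_)
      · exact PLocal.Cores.le_map_pCore_of_le_normalizer hT3 hTH (le_of_eq hN.symm)
      · rw [hT, ← Cores.map_pCore_eq ε 3, RecogNine.pCore_W, map_map,
          Nat.card_congr (equivMapOfInjective RecogNine.Jm _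
            (H.subtype_injective.comp ε.injective)).toEquiv.symm, RecogNine.card_Jm]

end Cfsg.Agent.McLThree.CentQuot
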