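import Cfsg.Agent.Lib.McLThree.CentFin
import Cfsg.Agent.Lib.McLThree.CentQuot
import Cfsg.Agent.Lib.McLThree.Stab

/-!
# `N(J) ∩ C(y)` modulo `⟨y⟩` as affine permutations of nine points

The normalizer of a Sylow 2-subgroup of the preimage of the four group meets `J` in `⟨y⟩`; with respect to
it every element of `N(J) ∩ C(y)` is an affine map of the three coordinate blocks.
-/

set_option autoImplicit false
set_option linter.unusedSectionVars false
set_option linter.style.haveILetI false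
set_option synthInstance.maxSize 2000
set_option synthInstance.maxHeartbeats 200000

namespace Cfsg.Agent.McLThree

open Subgroup
open Model

universe u

theorem comp_assoc' (a b c : Mat) : comp (comp a b) c = comp a (comp b c) :=
  Prod.ext (app_comp a b c.1) (Prod.ext (app_comp a b c.2.1)
    (Prod.ext (app_comp a b c.2.2.1) (app_comp a b c.2.2.2)))

theorem rot_vy_chk : (rot24.all fun m => veq (app m vy) vy) = true := by decide +kernel

theorem rot_vy {m : Mat} (h : m ∈ rot24) : app m vy = vy :=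
  of_decide_eq_true (List.all_eq_true.1 rot_vy_chk m h)

variable {G : Type u} [Group G] [Finite G] {S : Sylow 3 G} {Z J M₀ L₀ Q : Subgroup G}
  (H : Hyp S Z J M₀ L₀ Q) {π : ↥L₀ →* SL5} {t f : G} (F : Frame Q L₀ π t f)
  {ρ : ↥M₀ →* Six.A6} {u w : G} (B : Base S J M₀ t ρ u w)
  {z x y : G} (C : Coord Z J Q t w z x y)

/-- `C(y) ∩ N(J)` for `y = z z'`. -/
abbrev NY (J : Subgroup G) (z w : G) : Subgroup G :=
  centralizer ({z * (w * z * w⁻¹)} : Set G) ⊓ normalizer (J : Set G)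

include H F B C

local notation "zz" => w * z * w⁻¹

theorem Hyp.ny_commute {n : G} (hn : n ∈ NY J z w) : Commute n (z * zz) := mem_centralizer_singleton_iff.1 hn.1

theorem Hyp.ny_rot {n : G} (hn : n ∈ NY J z w) {m : Mat} (hm : Acts z zz x y n m) : m ∈ rot24 :=
  H.stab_cases F B C hn.2 (H.ny_commute F B C hn) hm

theorem Hyp.acts_inv {n : G} {m m' : Mat} (hn : Acts z zz x y n m) (h : comp m m' = Model.one) :
    Acts z zz x y n⁻¹ m' := fun v => by
  have h1 := hn (app m' v)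
  rw [← app_comp, h, uni_steps.2.2] at h1
  rw [← h1]; group

theorem Hyp.one_mem_J {n : G} (hn : Acts z zz x y n Model.one) : n ∈ J :=
  H.cent_J F (mem_centralizer_iff.2 fun a ha => by
    obtain ⟨v, rfl⟩ := C.onto a ha
    exact (H.commute_of_acts F B C hn (v := v) (uni_steps.2.2 v)).eq.symm)

theorem Hyp.J_acts {j : G} (hj : j ∈ J) : Acts z zz x y j Model.one := fun v => by
  rw [uni_steps.2.2, H.J_comm j hj _ (H.emb_J F B C v), mul_inv_cancel_right]

/-- The preimage of the four group. -/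
def Hyp.fourPre : Subgroup G where
  carrier := {n | n ∈ NY J z w ∧ ∃ m ∈ four, Acts z zz x y n m}
  one_mem' := ⟨one_mem _, _, one_mem_four, Acts.one_one z zz x y⟩
  mul_mem' := by
    rintro a b ⟨ha, m, hm, ham⟩ ⟨hb, n, hn, hbn⟩
    exact ⟨mul_mem ha hb, _, (four_mul hm hn).1, ham.mul hbn⟩
  inv_mem' := by
    rintro a ⟨ha, m, hm, ham⟩
    exact ⟨inv_mem ha, m, hm, H.acts_inv F B C ham (four_sq hm)⟩

theorem Hyp.J_le_fourPre : J ≤ H.fourPre F B C := fun j hj =>
  ⟨⟨mem_centralizer_singleton_iff.2 (H.J_comm j hj _ (by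
      rw [← (H.emb_vy F B C).1]; exact H.emb_J F B C _)), le_normalizer hj⟩,
    _, one_mem_four, H.J_acts F B C hj⟩

/-- A complement of `J` modulo `⟨y⟩` in `N(J) ∩ C(y)`. -/
theorem Hyp.exists_compl : ∃ K : Subgroup G, K ≤ NY J z w ∧ (∀ k ∈ K, k ∈ J → k ∈ zpowers (z * zz)) ∧
    z * zz ∈ K ∧ ∀ n ∈ NY J z w, ∃ v, ∃ k ∈ K, n = emb z zz x y v * k := by
  haveI : Fact (Nat.Prime 2) := ⟨Nat.prime_two⟩
  set N₁ := H.fourPre F B C with hN₁
  obtain ⟨P⟩ := (inferInstance : Nonempty (Sylow 2 ↥N₁))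
  set K₄ := (P : Subgroup ↥N₁).map N₁.subtype with hK₄
  have hK₄le : K₄ ≤ N₁ := map_subtype_le _
  have hK₄p : IsPGroup 2 ↥K₄ := P.2.map _
  have hK₄J : ∀ k ∈ K₄, k ∈ J → k = 1 := fun k hk hkJ => by
    obtain ⟨i, hi⟩ := IsPGroup.iff_orderOf.1 hK₄p ⟨k, hk⟩
    rw [orderOf_mk] at hi
    refine orderOf_eq_one_iff.1 (Nat.eq_one_of_dvd_coprimes
      ((by norm_num : Nat.Coprime 2 3).pow_left i) (hi ▸ dvd_rfl) ?_)
    exact orderOf_dvd_of_pow_eq_one (H.J_exp k hkJ)
  -- every element of the four group is induced from `K₄`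
  have hlift : ∀ m ∈ four, ∃ k ∈ K₄, Acts z zz x y k m := by
    intro m hm
    obtain ⟨n, hn, hnm⟩ := H.image_twelve F B C (four_sub hm)
    have hn1 : n ∈ N₁ := ⟨⟨mem_centralizer_singleton_iff.2 (by
      rw [← (H.emb_vy F B C).1]
      exact (H.commute_of_acts F B C hnm (rot_vy (twelve_sub (four_sub hm)))).eq), hn⟩, m, hm, hnm⟩
    have h2J : n * n ∈ J := H.one_mem_J F B C (four_sq hm ▸ hnm.mul hnm)
    set i := n * n * n with hidef
    have hi2 : i * i = 1 := by
      rw [hidef, show n * n * n * (n * n * n) = n * n * (n * n) * (n * n) by group, ← pow_two, ← pow_succ]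
      exact H.J_exp _ h2J
    have him : Acts z zz x y i m := by
      have h := (H.J_acts F B C h2J).mul hnm
      have e : comp Model.one m = m := by simp [comp, uni_steps.2.2]
      rwa [e] at h
    have hiN : i ∈ N₁ := mul_mem (mul_mem hn1 hn1) hn1
    have hp : IsPGroup 2 ↥(zpowers (⟨i, hiN⟩ : ↥N₁)) := fun a => ⟨1, by
      obtain ⟨j, hj⟩ := mem_zpowers_iff.1 a.2
      refine Subtype.ext (Subtype.ext ?_)
      show ((a : ↥N₁) : G) ^ 2 ^ 1 = 1
      rw [← hj, pow_one]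
      show (i ^ j) ^ 2 = 1
      rw [← zpow_natCast, ← zpow_mul, mul_comm, zpow_mul, zpow_natCast, pow_two, hi2, one_zpow]⟩
    obtain ⟨T, hT⟩ := hp.exists_le_sylow
    obtain ⟨g, hg⟩ := MulAction.exists_smul_eq ↥N₁ P T
    obtain ⟨k, hk, hki⟩ : (⟨i, hiN⟩ : ↥N₁) ∈ (P : Subgroup ↥N₁).map (MulAut.conj g).toMonoidHom := by
      have h := hT (mem_zpowers _)
      rw [← hg] at h
      exact h
    have hki' : (g : G) * (k : G) * (g : G)⁻¹ = i := congrArg Subtype.val hki
    obtain ⟨-, mg, hmg, hga⟩ := g.2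
    obtain ⟨-, mk, hmk, hka⟩ := k.2
    refine ⟨k, ⟨k, hk, rfl⟩, ?_⟩
    have h := (hga.mul hka).mul (H.acts_inv F B C hga (four_sq hmg))
    rw [hki', (four_mul hmg hmk).2] at h
    have e : comp (comp mk mg) mg = mk := by
      have h1 := comp_assoc' mk mg mg
      rw [h1, four_sq hmg]
      exact H.acts_unique F B C (by simpa using hka.mul (Acts.one_one z zz x y)) hka
    rw [e] at h
    rwa [H.acts_unique F B C him h]
  have hdec₁ : ∀ h ∈ N₁, ∃ a ∈ J, ∃ k ∈ K₄, h = a * k := by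
    rintro h ⟨hh, m, hm, hhm⟩
    obtain ⟨k, hk, hkm⟩ := hlift m hm
    refine ⟨h * k⁻¹, H.one_mem_J F B C ?_, k, hk, (inv_mul_cancel_right h k).symm⟩
    have h' := hhm.mul (H.acts_inv F B C hkm (four_sq hm))
    rwa [four_sq hm] at h'
  refine ⟨NY J z w ⊓ normalizer (K₄ : Set G), inf_le_left, fun k hk hkJ => ?_, ?_, fun n hn => ?_⟩
  · obtain ⟨v, rfl⟩ := C.onto k hkJ
    have hfix : ∀ m ∈ four, app m v = v := by
      intro m hm
      obtain ⟨i, hi, him⟩ := hlift m hm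
      set j := emb z zz x y v
      have hc1 : j * i * j⁻¹ * i⁻¹ ∈ K₄ := mul_mem ((mem_normalizer_iff.1 hk.2 i).1 hi) (inv_mem hi)
      have hc2 : j * i * j⁻¹ * i⁻¹ ∈ J := by
        rw [show j * i * j⁻¹ * i⁻¹ = j * (i * j⁻¹ * i⁻¹) by group]
        exact mul_mem hkJ ((mem_normalizer_iff.1 (hK₄le hi).1.2 _).1 (inv_mem hkJ))
      have hcomm : Commute j i := mul_inv_eq_iff_eq_mul.1 (mul_inv_eq_one.1 (hK₄J _ hc1 hc2))
      exact C.inj (by rw [← him, ← hcomm.eq, mul_inv_cancel_right])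
    rw [four_fix hfix, H.emb_pow F B C, (H.emb_vy F B C).1]
    exact pow_mem (mem_zpowers _) _
  · have hyJ : z * zz ∈ J := by rw [← (H.emb_vy F B C).1]; exact H.emb_J F B C _
    refine ⟨(H.J_le_fourPre F B C hyJ).1, Subgroup.mem_normalizer_fintype fun k hk => ?_⟩
    rw [SetLike.mem_coe, (H.ny_commute F B C (hK₄le hk).1).symm.eq, mul_inv_cancel_right]
    exact hk
  · have hconj : ∀ b ∈ K₄, n * b * n⁻¹ ∈ N₁ := by
      intro b hb
      obtain ⟨hbN, m, hm, hbm⟩ := hK₄le hb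
      obtain ⟨mn, hmn, -, -⟩ := H.exists_acts F B C hn.2
      obtain ⟨mi, hmi, -, -⟩ := H.exists_acts F B C (inv_mem hn.2)
      refine ⟨mul_mem (mul_mem hn hbN) (inv_mem hn), _, ?_, (hmn.mul hbm).mul hmi⟩
      exact four_norm (H.ny_rot F B C hn hmn) (H.ny_rot F B C (inv_mem hn) hmi)
        (H.acts_unique F B C (hmn.mul hmi) (by rw [mul_inv_cancel]; exact Acts.one_one z zz x y)) hm
    set K₄' := (K₄.map (MulAut.conj n).toMonoidHom).subgroupOf N₁
    have hp : IsPGroup 2 ↥K₄' := (hK₄p.map _).comap_of_injective _ N₁.subtype_injective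
    obtain ⟨T, hT⟩ := hp.exists_le_sylow
    obtain ⟨g, hg⟩ := MulAction.exists_smul_eq ↥N₁ P T
    have hmove : ∀ b ∈ K₄, (g : G)⁻¹ * n * b * ((g : G)⁻¹ * n)⁻¹ ∈ K₄ := by
      intro b hb
      have h := hT (show (⟨n * b * n⁻¹, hconj b hb⟩ : ↥N₁) ∈ K₄' from ⟨b, hb, rfl⟩)
      rw [← hg] at h
      obtain ⟨k, hk, hkb⟩ := h
      refine ⟨k, hk, ?_⟩
      have hkb' : (g : G) * (k : G) * (g : G)⁻¹ = n * b * n⁻¹ := congrArg Subtype.val hkb
      show (k : G) = _
      calc (k : G) = (g : G)⁻¹ * ((g : G) * (k : G) * (g : G)⁻¹) * g := by group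
        _ = _ := by rw [hkb']; group
    obtain ⟨a, ha, k, hk, hgak⟩ := hdec₁ g g.2
    obtain ⟨v, rfl⟩ := C.onto a ha
    refine ⟨v, (emb z zz x y v)⁻¹ * n, ⟨(NY J z w).mul_mem ((NY J z w).inv_mem (H.J_le_fourPre F B C ha).1) hn, ?_⟩, by group⟩
    have e : (emb z zz x y v)⁻¹ * n = k * ((g : G)⁻¹ * n) := by rw [hgak]; group
    rw [e]
    exact mul_mem (le_normalizer hk) (Subgroup.mem_normalizer_fintype hmove)

/-- The affine permutation of an element of `N(J) ∩ C(y)`. -/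
theorem Hyp.exists_hom : ∃ Φ : ↥(NY J z w) →* Equiv.Perm (Fin 9),
    (∀ n, Φ n = 1 ↔ (n : G) ∈ zpowers (z * zz)) ∧
    (∀ n : ↥(NY J z w), ∃ v m, Acts z zz x y n m ∧ ∀ p, Φ n (num p) = num (aff v m p)) ∧
    ∀ (n₀ : ↥(NY J z w)) (m : Mat) (v : V), Acts z zz x y n₀ m →
      ∃ n : ↥(NY J z w), Acts z zz x y n m ∧ ∀ p, Φ n (num p) = num (aff v m p) := by
  obtain ⟨K, hKN, hKJ, hyK, hdec⟩ := H.exists_compl F B C
  have hexists : ∀ n : ↥(NY J z w), ∃ d : V × Mat, Acts z zz x y n d.2 ∧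
      (emb z zz x y d.1)⁻¹ * n ∈ K := fun n => by
    obtain ⟨v, k, hk, e⟩ := hdec n n.2
    obtain ⟨m, hm, -, -⟩ := H.exists_acts F B C n.2.2
    exact ⟨(v, m), hm, by rw [e, inv_mul_cancel_left]; exact hk⟩
  choose d hd using hexists
  -- any other description gives the same map
  have huniq : ∀ (n : ↥(NY J z w)) (v : V) (m : Mat), Acts z zz x y n m → (emb z zz x y v)⁻¹ * n ∈ K →
      ∀ p, aff (d n).1 (d n).2 p = aff v m p := by
    intro n v m hm hk p
    rw [H.acts_unique F B C (hd n).1 hm]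
    set v₀ := (d n).1
    have h1 : (emb z zz x y v)⁻¹ * emb z zz x y v₀ ∈ K := by
      have := mul_mem hk (inv_mem (hd n).2)
      rwa [show (emb z zz x y v)⁻¹ * n * ((emb z zz x y v₀)⁻¹ * n)⁻¹ = (emb z zz x y v)⁻¹ * emb z zz x y v₀ by
        group] at this
    obtain ⟨c, hc⟩ : ∃ c, v₀ = v + sc c vy := by
      have h2 := hKJ _ h1 (mul_mem (inv_mem (H.emb_J F B C v)) (H.emb_J F B C v₀))
      obtain ⟨i, hi⟩ := (mem_powers_iff_mem_zpowers.2 h2 : _ ∈ Submonoid.powers (z * zz))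
      refine ⟨(i : ZMod 3), C.inj ?_⟩
      rw [H.emb_mul F B C, H.emb_pow F B C, (H.emb_vy F B C).1, ZMod.val_natCast]
      have hyJ : z * zz ∈ J := by rw [← (H.emb_vy F B C).1]; exact H.emb_J F B C _
      rw [show (z * zz) ^ (i % 3) = (z * zz) ^ i by
        conv_rhs => rw [← Nat.div_add_mod i 3, pow_add, pow_mul, H.J_exp _ hyJ, one_pow, one_mul],
        show (z * zz) ^ i = (emb z zz x y v)⁻¹ * emb z zz x y v₀ from hi, mul_inv_cancel_left]
    rw [hc, aff_shift]
  let Fn : ↥(NY J z w) →* Function.End (Fin 9) :=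
    { toFun := fun n i => num (aff (d n).1 (d n).2 (num.symm i))
      map_one' := funext fun i => by
        show num (aff (d 1).1 (d 1).2 (num.symm i)) = i
        rw [huniq 1 0 Model.one (by simpa using Acts.one_one z zz x y)
          (by rw [(emb_basis z zz x y).1, inv_one, one_mul]; exact one_mem K), aff_one, Equiv.apply_symm_apply]
      map_mul' := fun n n' => funext fun i => by
        show num (aff (d (n * n')).1 (d (n * n')).2 (num.symm i)) =
          num (aff (d n).1 (d n).2 (num.symm (num (aff (d n').1 (d n').2 (num.symm i)))))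
        rw [Equiv.symm_apply_apply, aff_mul (H.ny_rot F B C n.2 (hd n).1) (H.ny_rot F B C n'.2 (hd n').1)]
        refine congrArg num (huniq _ _ _ ((hd n).1.mul (hd n').1) ?_ _)
        set a := emb z zz x y (d n).1 with hadef
        set b := emb z zz x y (d n').1 with hbdef
        have hb' : (n : G) * b * (n : G)⁻¹ = emb z zz x y (app (d n).2 (d n').1) := (hd n).1 _
        have h : (emb z zz x y ((d n).1 + app (d n).2 (d n').1))⁻¹ * ((n * n' : ↥(NY J z w)) : G) =
            a⁻¹ * n * (b⁻¹ * n') := by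
          rw [H.emb_mul F B C, ← hb', Subgroup.coe_mul, ← hadef]
          have hcm : Commute a ((n : G) * b * (n : G)⁻¹) := H.J_comm _ (H.emb_J F B C _) _ (by
            rw [hb']; exact H.emb_J F B C _)
          rw [mul_inv_rev]
          calc ((n : G) * b * (n : G)⁻¹)⁻¹ * a⁻¹ * ((n : G) * n')
              = (a * ((n : G) * b * (n : G)⁻¹))⁻¹ * ((n : G) * n') := by group
            _ = ((n : G) * b * (n : G)⁻¹ * a)⁻¹ * ((n : G) * n') := by rw [hcm.eq]
            _ = _ := by group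
        rw [h]
        exact mul_mem (hd n).2 (hd n').2 }
  let Φ : ↥(NY J z w) →* Equiv.Perm (Fin 9) :=
    Equiv.Perm.equivUnitsEnd.symm.toMonoidHom.comp Fn.toHomUnits
  have hΦ : ∀ n p, Φ n (num p) = num (aff (d n).1 (d n).2 p) := fun n p => by
    show num (aff (d n).1 (d n).2 (num.symm (num p))) = _
    rw [Equiv.symm_apply_apply]
  refine ⟨Φ, fun n => ⟨fun h => ?_, fun h => ?_⟩, fun n => ⟨_, _, (hd n).1, hΦ n⟩, fun n₀ m v hm => ?_⟩
  · obtain ⟨hm1, hv1⟩ := aff_inj (H.ny_rot F B C n.2 (hd n).1) (v := (d n).1) fun p => num.injective (by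
      rw [← hΦ, h]; rfl)
    have hnJ : (n : G) ∈ J := H.one_mem_J F B C (hm1 ▸ (hd n).1)
    have hy' : emb z zz x y (d n).1 ∈ zpowers (z * zz) := by
      rw [hv1, H.emb_pow F B C, (H.emb_vy F B C).1]; exact pow_mem (mem_zpowers _) _
    have := mul_mem hy' (hKJ _ (hd n).2 (mul_mem (inv_mem (H.emb_J F B C _)) hnJ))
    rwa [mul_inv_cancel_left] at this
  · refine Equiv.ext fun i => ?_
    obtain ⟨p, rfl⟩ := num.surjective i
    have hyJ : z * zz ∈ J := by rw [← (H.emb_vy F B C).1]; exact H.emb_J F B C _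
    rw [hΦ, Equiv.Perm.one_apply, huniq n 0 Model.one (H.J_acts F B C (zpowers_le.2 hyJ h))
      (by rw [(emb_basis z zz x y).1, inv_one, one_mul]; exact zpowers_le.2 hyK h), aff_one]
  · obtain ⟨v₀, k, hk, e⟩ := hdec n₀ n₀.2
    have hn : emb z zz x y v * k ∈ NY J z w :=
      mul_mem (H.J_le_fourPre F B C (H.emb_J F B C v)).1 (hKN hk)
    have hact : Acts z zz x y (emb z zz x y v * k) m := by
      have h := (H.J_acts F B C (mul_mem (H.emb_J F B C v) (inv_mem (H.emb_J F B C v₀)))).mul hm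
      rw [show comp Model.one m = m by simp [comp, uni_steps.2.2], e,
        show emb z zz x y v * (emb z zz x y v₀)⁻¹ * (emb z zz x y v₀ * k) = emb z zz x y v * k by group] at h
      exact h
    refine ⟨⟨_, hn⟩, hact, fun p => ?_⟩
    rw [hΦ, huniq ⟨_, hn⟩ v m hact (by rw [inv_mul_cancel_left]; exact hk)]

omit H F B C in
theorem card_small : 108 ≤ Nat.card ↥CentQuot.smallK := by
  open Recognition.ThreeCubeFour in
  let f : A × Fin 4 → ↥(Subgroup.closure gens) :=
    fun p => ⟨pj p.1 * pn p.2, mul_mem (pj_mem _) (pn_mem _)⟩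
  have hf : Function.Injective f := fun p q h => by
    obtain ⟨h1, h2⟩ := Recognition.ThreeCubeFour.pair_inj (congrArg Subtype.val h)
    exact Prod.ext h1 h2
  have h := Nat.card_le_card_of_injective f hf
  rw [Nat.card_eq_fintype_card (α := Recognition.ThreeCubeFour.A × Fin 4)] at h
  exact h

omit H F B C in
theorem card_large : 648 ≤ Nat.card ↥CentQuot.largeK := by
  rw [← RecogNine.card_W]
  exact le_of_eq (Nat.card_congr RecogNine.closureEquiv.toEquiv)

/-- The image of a subgroup described by its linear parts. -/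
theorem Hyp.range_eq {Φ : ↥(NY J z w) →* Equiv.Perm (Fin 9)}
    (h1 : ∀ n : ↥(NY J z w), ∃ v m, Acts z zz x y n m ∧ ∀ p, Φ n (num p) = num (aff v m p))
    (h2 : ∀ (n₀ : ↥(NY J z w)) (m : Mat) (v : V), Acts z zz x y n₀ m →
      ∃ n : ↥(NY J z w), Acts z zz x y n m ∧ ∀ p, Φ n (num p) = num (aff v m p))
    {l : List Mat} (R : Subgroup G) (hR : R ≤ NY J z w)
    (hin : ∀ n ∈ R, ∀ m, Acts z zz x y n m → m ∈ l)
    (hall : ∀ m ∈ l, ∃ n : ↥(NY J z w), Acts z zz x y n m)
    (hback : ∀ n : ↥(NY J z w), ∀ m ∈ l, Acts z zz x y n m → (n : G) ∈ R)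
    {gs : List (Equiv.Perm (Fin 9))} (hgs : gs.all (isAff l) = true) {K : Subgroup (Equiv.Perm (Fin 9))}
    (hK : K = Subgroup.closure {g | g ∈ gs}) (hcard : 27 * l.length ≤ Nat.card ↥K) :
    (Φ.comp (Subgroup.inclusion hR)).range = K := by
  set Ψ := Φ.comp (Subgroup.inclusion hR)
  have hle : K ≤ Ψ.range := by
    rw [hK, Subgroup.closure_le]
    intro g hg
    obtain ⟨v, m, hm, hp⟩ := isAff_spec (List.all_eq_true.1 hgs g hg)
    obtain ⟨n₀, hn₀⟩ := hall m hm
    obtain ⟨n, hn, hnp⟩ := h2 n₀ m v hn₀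
    refine ⟨⟨n, hback n m hm hn⟩, Equiv.ext fun i => ?_⟩
    obtain ⟨p, rfl⟩ := num.surjective i
    show Φ n (num p) = g (num p)
    rw [hnp, hp]
  refine (eq_of_le_of_card_ge hle (le_trans ?_ hcard)).symm
  -- at most `27 * |l|` affine maps
  have hrep : ∀ g : ↥Ψ.range, ∃ d : (ZMod 3 × ZMod 3 × ZMod 3) × Fin l.length,
      ∀ p, (g : Equiv.Perm (Fin 9)) (num p) = num (aff (0, d.1) (l.get d.2) p) := by
    rintro ⟨_, n, rfl⟩
    obtain ⟨v, m, hm, hp⟩ := h1 (Subgroup.inclusion hR n)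
    obtain ⟨i, hi⟩ := List.get_of_mem (hin n n.2 m hm)
    refine ⟨((v + sc (-v.1) vy).2, i), fun p => ?_⟩
    have e : ((0, (v + sc (-v.1) vy).2) : V) = v + sc (-v.1) vy := by simp [Prod.ext_iff, sc, vy]
    show Φ (Subgroup.inclusion hR n) (num p) = _
    rw [hp, e, hi, aff_shift]
  choose r hr using hrep
  have h := Nat.card_le_card_of_injective r fun g g' e => Subtype.ext (Equiv.ext fun i => by
    obtain ⟨p, rfl⟩ := num.surjective i
    rw [hr, hr, e])
  simpa [Nat.card_eq_fintype_card] using h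

end Cfsg.Agent.McLThree
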