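import Cfsg.Agent.Lib.PLocal.Cores
import Mathlib.GroupTheory.Transfer

/-!
# Transfer of a character of order three

If a subgroup contains a Sylow 3-subgroup and a character of order three on it takes equal values on
fused elements of order three, it is the restriction of the kernel map of the transfer, so its kernel
is the trace of a normal subgroup.
-/

set_option autoImplicit false
set_option linter.unusedSectionVars false
set_option linter.style.haveILetI false

namespace Cfsg.Agent.McLThree.CentTransfer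

open Subgroup

universe u

/-- Transfer at an element of order three with no bad fusion. -/
theorem transfer_eq_pow_index {Γ : Type u} [Group Γ] [Finite Γ] {A : Type} [CommGroup A] (N : Subgroup Γ)
    (χ : ↥N →* A) {x : Γ} (hx : x ∈ N) (hx3 : x ^ 3 = 1)
    (hfus : ∀ g : Γ, ∀ h : g⁻¹ * x * g ∈ N, χ ⟨g⁻¹ * x * g, h⟩ = χ ⟨x, hx⟩) :
    MonoidHom.transfer χ x = χ ⟨x, hx⟩ ^ N.index := by
  classical
  let := N.fintypeQuotientOfFiniteIndex
  let : Fintype (Quotient (MulAction.orbitRel (zpowers x) (Γ ⧸ N))) := Fintype.ofFinite _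
  rw [MonoidHom.transfer_eq_prod_quotient_orbitRel_zpowers_quot, index_eq_sum_minimalPeriod N x,
    ← Finset.prod_pow_eq_pow_sum]
  refine Finset.prod_congr rfl fun q _ => ?_
  have key : ∀ (k : ℕ) (hm : q.out.out⁻¹ * x ^ k * q.out.out ∈ N), k = 1 ∨ k = 3 →
      χ ⟨q.out.out⁻¹ * x ^ k * q.out.out, hm⟩ = χ ⟨x, hx⟩ ^ k := by
    intro k hm hk
    rcases hk with rfl | rfl
    · simp only [pow_one] at hm ⊢
      exact hfus _ hm
    · have h1 : (⟨q.out.out⁻¹ * x ^ 3 * q.out.out, hm⟩ : ↥N) = 1 :=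
        Subtype.ext (show q.out.out⁻¹ * x ^ 3 * q.out.out = 1 by rw [hx3, mul_one, inv_mul_cancel])
      rw [h1, map_one, ← map_pow, show (⟨x, hx⟩ : ↥N) ^ 3 = 1 from Subtype.ext hx3, map_one]
  refine key _ _ ((Nat.dvd_prime Nat.prime_three).1 (Function.IsPeriodicPt.minimalPeriod_dvd ?_))
  show (fun c : Γ ⧸ N => x • c)^[3] q.out = q.out
  rw [smul_iterate]
  show x ^ 3 • q.out = q.out
  rw [hx3, one_smul]

theorem mult_three : ∀ a : Multiplicative (ZMod 3), a ^ 3 = 1 := by decide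

variable {G : Type u} [Group G] [Finite G]

/-- The kernel of the character is the trace of a normal subgroup. -/
theorem exists_kernel (C N J : Subgroup G) (hNC : N ≤ C) (hJN : J ≤ N) (hJp : IsPGroup 3 ↥J)
    (hsyl : ∀ P : Subgroup G, IsPGroup 3 ↥P → J ≤ P → P ≤ C → P ≤ N)
    (χ : ↥N →* Multiplicative (ZMod 3))
    (hgen : Subgroup.closure {n : ↥N | n ^ 3 = 1 ∨ ¬ 3 ∣ orderOf n} = ⊤)
    (hfuse : ∀ g ∈ C, ∀ a b : ↥N, a ^ 3 = 1 → g * (a : G) * g⁻¹ = b → χ b = χ a) :
    ∃ D : Subgroup G, D ≤ C ∧ (∀ c ∈ C, ∀ d ∈ D, c * d * c⁻¹ ∈ D) ∧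
      ∀ n : ↥N, (n : G) ∈ D ↔ χ n = 1 := by
  haveI : Fact (Nat.Prime 3) := ⟨Nat.prime_three⟩
  -- `N` contains a Sylow 3-subgroup of `C`
  have hdvd : ¬ 3 ∣ N.relIndex C := by
    have hJC : J ≤ C := hJN.trans hNC
    obtain ⟨P, hP⟩ := (hJp.of_equiv (subgroupOfEquivOfLe hJC).symm).exists_le_sylow
    have h1 : (P : Subgroup ↥C) ≤ N.subgroupOf C := by
      intro p hp
      refine mem_subgroupOf.2 (hsyl ((P : Subgroup ↥C).map C.subtype) (P.2.map _) ?_ (map_subtype_le _)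
        ⟨p, hp, rfl⟩)
      intro j hj
      exact ⟨⟨j, hJC hj⟩, hP (mem_subgroupOf.2 hj), rfl⟩
    exact fun h => P.not_dvd_index (h.trans (index_dvd_of_le h1))
  let ψ : ↥(N.subgroupOf C) →* Multiplicative (ZMod 3) := χ.comp (subgroupOfEquivOfLe hNC).toMonoidHom
  set V : ↥C →* Multiplicative (ZMod 3) := MonoidHom.transfer ψ with hV
  have hA3 := mult_three
  let P₁ : ↥N →* Multiplicative (ZMod 3) := V.comp (Subgroup.inclusion hNC)
  have hres : P₁ = (powMonoidHom (N.relIndex C)).comp χ := by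
    refine MonoidHom.eq_of_eqOn_dense hgen fun n hn => ?_
    show V (Subgroup.inclusion hNC n) = χ n ^ N.relIndex C
    rcases hn with hn | hn
    · rw [hV]
      refine (transfer_eq_pow_index _ ψ (x := Subgroup.inclusion hNC n) (mem_subgroupOf.2 n.2)
        (Subtype.ext (congrArg Subtype.val hn : ((n : G)) ^ 3 = 1)) fun g h => ?_).trans rfl
      refine hfuse (g : G)⁻¹ (inv_mem g.2) n ⟨(g : G)⁻¹ * (n : G) * (g : G), mem_subgroupOf.1 h⟩ hn ?_
      rw [inv_inv]
    · have key : ∀ f : ↥N →* Multiplicative (ZMod 3), f n = 1 := fun f =>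
        orderOf_eq_one_iff.1 (Nat.eq_one_of_dvd_coprimes ((Nat.prime_three.coprime_iff_not_dvd).2 hn)
          (orderOf_dvd_of_pow_eq_one (hA3 _)) (orderOf_map_dvd f n))
      exact (key P₁).trans (by rw [key χ, one_pow])
  clear_value V
  refine ⟨V.ker.map C.subtype, map_subtype_le _, fun c hc d hd => ?_, fun n => ?_⟩
  · obtain ⟨d, hd', rfl⟩ := hd
    refine ⟨⟨c, hc⟩ * d * ⟨c, hc⟩⁻¹, ?_, rfl⟩
    exact (MonoidHom.normal_ker V).conj_mem d hd' _
  · rw [show (n : G) = C.subtype (Subgroup.inclusion hNC n) from rfl,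
      mem_map_iff_mem C.subtype_injective, MonoidHom.mem_ker]
    have h := DFunLike.congr_fun hres n
    change V (Subgroup.inclusion hNC n) = χ n ^ N.relIndex C at h
    rw [h]
    refine ⟨fun h1 => orderOf_eq_one_iff.1 (Nat.eq_one_of_dvd_coprimes
      ((Nat.prime_three.coprime_iff_not_dvd).2 hdvd) (orderOf_dvd_of_pow_eq_one (hA3 _))
      (orderOf_dvd_of_pow_eq_one h1)), fun h1 => by rw [h1, one_pow]⟩

/-- A group normalizes `J` when a normal subgroup containing `J` does and `J` is closed. -/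
theorem le_normalizer_of_normal (C D J : Subgroup G) (y : G) (hJD : J ≤ D)
    (hnorm : ∀ c ∈ C, ∀ d ∈ D, c * d * c⁻¹ ∈ D) (hD : D ≤ normalizer (J : Set G))
    (hJy : ∃ j ∈ J, j ∉ zpowers y)
    (hfuse : ∀ g ∈ C, ∀ j ∈ J, j ∉ zpowers y → g * j * g⁻¹ ∈ J → g ∈ normalizer (J : Set G))
    (hclosed : ∀ g ∈ C, ∀ j ∈ J, j ∉ zpowers y → g * j * g⁻¹ ∈ normalizer (J : Set G) → g * j * g⁻¹ ∈ J) :
    C ≤ normalizer (J : Set G) := by
  obtain ⟨j, hj, hjy⟩ := hJy
  intro g hg
  exact hfuse g hg j hj hjy (hclosed g hg j hj hjy (hD (hnorm g hg j (hJD hj))))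

end Cfsg.Agent.McLThree.CentTransfer
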