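import Cfsg.Agent.Lib.McLThree.CentFuse
import Cfsg.Agent.Lib.McLThree.CentHom
import Cfsg.Agent.Lib.McLThree.CentTransfer

/-!
# The centralizer of `z z'` normalizes `J`
-/

set_option autoImplicit false
set_option linter.unusedSectionVars false
set_option linter.style.haveILetI false
set_option synthInstance.maxSize 2000
set_option synthInstance.maxHeartbeats 200000

namespace Cfsg.Agent.McLThree

open Subgroup
open Model

universe u

theorem mult_facts : (∀ a : ZMod 3, a ≠ 0 → ∀ b : ZMod 3, b = 0 ∨ b + a = 0 ∨ b + (a + a) = 0) ∧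
    (∀ a : Multiplicative (ZMod 3), a = 1 ↔ Multiplicative.toAdd a = 0) := by decide

variable {G : Type u} [Group G] [Finite G] {S : Sylow 3 G} {Z J M₀ L₀ Q : Subgroup G}
  (H : Hyp S Z J M₀ L₀ Q) {π : ↥L₀ →* SL5} {t f : G} (F : Frame Q L₀ π t f)
  {ρ : ↥M₀ →* Six.A6} {u w : G} (B : Base S J M₀ t ρ u w)
  {z x y : G} (C : Coord Z J Q t w z x y)
include H F B C

local notation "zz" => w * z * w⁻¹

theorem Hyp.exists_lift {m : Mat} (hm : m ∈ twelve) : ∃ n : ↥(NY J z w), Acts z zz x y n m := by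
  obtain ⟨n, hn, hnm⟩ := H.image_twelve F B C hm
  refine ⟨⟨n, mem_centralizer_singleton_iff.2 ?_, hn⟩, hnm⟩
  have h := (H.commute_of_acts F B C hnm (rot_vy (twelve_sub hm))).eq
  rwa [(H.emb_vy F B C).1] at h

theorem Hyp.y_order : orderOf (z * zz) = 3 := by
  haveI : Fact (Nat.Prime 3) := ⟨Nat.prime_three⟩
  refine orderOf_eq_prime (H.J_exp _ (H.emb_vy_mem F B C)) fun h => ?_
  rw [← (H.emb_vy F B C).1, H.emb_eq_one F B C] at h
  exact absurd h (by decide +kernel)

theorem Hyp.exists_notin_y : ∃ j ∈ J, j ∉ zpowers (z * zz) :=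
  ⟨emb z zz x y vw1, H.emb_J F B C _, fun h => by
    obtain ⟨i, hi⟩ := (H.mem_yline F B C).1 h
    exact (show ∀ i : ZMod 3, vw1 ≠ sc i vy by decide +kernel) i (C.inj hi)⟩

/-- If only the twelve rotations occur, `C(y)` has a subgroup of index three meeting `N(J)` in the preimage of
the four group. -/
theorem Hyp.cent_y_small
    (hsmall : ∀ n ∈ NY J z w, ∀ m, Acts z zz x y n m → m ∈ twelve) :
    centralizer ({z * zz} : Set G) ≤ normalizer (J : Set G) := by
  obtain ⟨Φ, hker, h1, h2⟩ := H.exists_hom F B C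
  have hact : ∀ n : ↥(NY J z w), ∃ m, Acts z zz x y n m := fun n => by
    obtain ⟨m, hm, -⟩ := H.exists_acts F B C n.2.2
    exact ⟨m, hm⟩
  choose im him using hact
  have him12 : ∀ n, im n ∈ twelve := fun n => hsmall n n.2 _ (him n)
  let χ : ↥(NY J z w) →* Multiplicative (ZMod 3) :=
    MonoidHom.mk' (fun n => Multiplicative.ofAdd (chi (im n))) fun a b => by
      rw [← ofAdd_add, ← (chi_mul (him12 a) (him12 b)).2,
        H.acts_unique F B C (him (a * b)) ((him a).mul (him b))]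
  have hχ : ∀ n m, Acts z zz x y ((n : ↥(NY J z w)) : G) m → (χ n = 1 ↔ chi m = 0) := fun n m hm => by
    rw [mult_facts.2, H.acts_unique F B C hm (him n)]; rfl
  have hχJ : ∀ n : ↥(NY J z w), (n : G) ∈ J → χ n = 1 := fun n hn =>
    (hχ n _ (H.J_acts F B C hn)).2 ((chi_zero (four_sub one_mem_four)).2 one_mem_four)
  obtain ⟨e, heJ, hey, he3, he⟩ := H.exists_outer_E F B C
  let e' : ↥(NY J z w) := ⟨e, mem_centralizer_singleton_iff.2 hey.eq, heJ⟩
  have he'3 : e' ^ 3 = 1 := Subtype.ext he3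
  have hχe : Multiplicative.toAdd (χ e') ≠ 0 := by
    obtain ⟨m, hm, -, hm3, hm1⟩ := H.outer_acts F B C heJ hey he3 he
    intro h
    exact chi_three (hsmall e e'.2 m hm) hm3 hm1 ((hχ e' m hm).1 ((mult_facts.2 _).2 h))
  have hgen : Subgroup.closure {n : ↥(NY J z w) | n ^ 3 = 1 ∨ ¬ 3 ∣ orderOf n} = ⊤ := by
    refine eq_top_iff.2 fun n _ => ?_
    set W := Subgroup.closure {n : ↥(NY J z w) | n ^ 3 = 1 ∨ ¬ 3 ∣ orderOf n}
    have hker : ∀ a : ↥(NY J z w), χ a = 1 → a ∈ W := by
      intro a ha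
      have h4 : im a ∈ four := (chi_zero (him12 a)).1 ((hχ a _ (him a)).1 ha)
      have h2J : (a : G) * a ∈ J := H.one_mem_J F B C (four_sq h4 ▸ (him a).mul (him a))
      have h6 : (a * a) ^ 3 = 1 := Subtype.ext (H.J_exp _ h2J)
      have hdiv : orderOf (a ^ 3) ∣ 2 := orderOf_dvd_of_pow_eq_one (by rw [← pow_mul, mul_comm, pow_mul, pow_two, h6])
      have e : a = a ^ 3 * ((a * a) * (a * a)) := by
        calc a = a * (a * a) ^ 3 := by rw [h6, mul_one]
          _ = _ := by simp only [pow_succ, pow_zero, one_mul, mul_assoc]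
      rw [e]
      refine mul_mem (Subgroup.subset_closure (Or.inr fun h => ?_)) ?_
      · exact absurd (h.trans hdiv) (by norm_num)
      · exact mul_mem (Subgroup.subset_closure (Or.inl h6)) (Subgroup.subset_closure (Or.inl h6))
    have heW : e' ∈ W := Subgroup.subset_closure (Or.inl he'3)
    rcases mult_facts.1 _ hχe (Multiplicative.toAdd (χ n)) with h | h | h
    · exact hker n ((mult_facts.2 _).2 h)
    · have := hker (n * e') ((mult_facts.2 _).2 (by rw [map_mul, toAdd_mul, h]))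
      have := mul_mem this (inv_mem heW)
      rwa [mul_inv_cancel_right] at this
    · have := hker (n * (e' * e')) ((mult_facts.2 _).2 (by rw [map_mul, toAdd_mul, map_mul, toAdd_mul, h]))
      have := mul_mem this (inv_mem (mul_mem heW heW))
      rwa [mul_inv_cancel_right] at this
  have hfuse : ∀ g ∈ centralizer ({z * zz} : Set G), ∀ a b : ↥(NY J z w), a ^ 3 = 1 →
      g * (a : G) * g⁻¹ = b → χ b = χ a := by
    intro g hg a b ha hab
    have hgy : Commute g (z * zz) := mem_centralizer_singleton_iff.1 hg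
    by_cases hay : (a : G) ∈ zpowers (z * zz)
    · rw [show b = a from Subtype.ext (hab.symm.trans (H.conj_yline F B C hgy hay))]
    have hgb : g⁻¹ * (b : G) * g⁻¹⁻¹ = a := by rw [← hab]; group
    by_cases haJ : (a : G) ∈ J
    · rw [hχJ a haJ, hχJ b (hab ▸ H.closed_J F B C hgy haJ hay (hab.symm ▸ b.2.2))]
    · have ha3 : (a : G) ^ 3 = 1 := congrArg Subtype.val ha
      have hbJ : (b : G) ∉ J := fun h => haJ (hgb ▸ H.closed_J F B C hgy.inv_left h
        (fun h' => hay (by
          have h'' := H.conj_yline F B C hgy.inv_left h'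
          rw [hgb] at h''
          rw [h'']; exact h'))
        (hgb.symm ▸ a.2.2))
      obtain ⟨k, hkJ, hky, hk⟩ := H.fuse_outer F B C a.2.2 (H.ny_commute F B C a.2) ha3 haJ hgy
        (hab.symm ▸ b.2.2) (hab.symm ▸ hbJ)
      let k' : ↥(NY J z w) := ⟨k, mem_centralizer_singleton_iff.2 hky.eq, hkJ⟩
      rw [show b = k' * a * k'⁻¹ from Subtype.ext (hab.symm.trans hk.symm), map_mul, map_mul, map_inv,
        mul_comm (χ k'), mul_inv_cancel_right]
  have hJN : J ≤ NY J z w := fun j hj =>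
    ⟨mem_centralizer_singleton_iff.2 (H.J_comm j hj _ (H.emb_vy_mem F B C)), le_normalizer hj⟩
  obtain ⟨D, hDC, hnorm, hD⟩ := CentTransfer.exists_kernel (centralizer ({z * zz} : Set G)) (NY J z w) J
    inf_le_left hJN (S.2.to_le H.J_le)
    (fun P hP hJP hPC => le_inf hPC (H.le_normalizer_J F hP hJP)) χ hgen hfuse
  have hJD : J ≤ D := fun j hj => (hD ⟨j, hJN hj⟩).2 (hχJ _ hj)
  have hle : D ⊓ normalizer (J : Set G) ≤ NY J z w := inf_le_inf_right _ hDC
  have hrange : (Φ.comp (Subgroup.inclusion hle)).range = CentQuot.smallK :=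
    H.range_eq F B C h1 h2 (l := four) _ hle
      (fun n hn m hm => by
        rw [← chi_zero (hsmall n (hle hn) m hm), ← hχ ⟨n, hle hn⟩ m hm, ← hD]
        exact hn.1)
      (fun m hm => H.exists_lift F B C (four_sub hm))
      (fun n m hm hnm => ⟨(hD n).2 ((hχ n m hnm).2 ((chi_zero (four_sub hm)).2 hm)), n.2.2⟩)
      (gs := [Equiv.swap (0 : Fin 9) 1 * Equiv.swap 1 2, Equiv.swap (3 : Fin 9) 4 * Equiv.swap 4 5,
        Equiv.swap (6 : Fin 9) 7 * Equiv.swap 7 8, Equiv.swap (0 : Fin 9) 1 * Equiv.swap 3 4,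
        Equiv.swap (0 : Fin 9) 1 * Equiv.swap 6 7]) small_gens
      (by rw [CentQuot.smallK]; congr 1; ext g; simp)
      (by rw [counts.1]; exact card_small)
  have hDN : D ≤ normalizer (J : Set G) := CentQuot.recog_small D J (z * zz) (H.emb_vy_mem F B C)
    (H.y_order F B C) hJD (fun d hd => mem_centralizer_singleton_iff.1 (hDC hd)) H.J_comm H.J_card
    (Φ.comp (Subgroup.inclusion hle)) (fun n => hker _) hrange
    fun g hg j hj hjy h => H.fuse_J F B C (mem_centralizer_singleton_iff.1 (hDC hg)) hj hjy h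
  exact CentTransfer.le_normalizer_of_normal _ D J (z * zz) hJD hnorm hDN (H.exists_notin_y F B C)
    (fun g hg j hj hjy h => H.fuse_J F B C (mem_centralizer_singleton_iff.1 hg) hj hjy h)
    fun g hg j hj hjy h => H.closed_J F B C (mem_centralizer_singleton_iff.1 hg) hj hjy h

/-- If all rotations occur, `C(y)/⟨y⟩` is recognized directly. -/
theorem Hyp.cent_y_large {a : G} {ma : Mat} (ha : a ∈ NY J z w) (haa : Acts z zz x y a ma)
    (hma : ma ∉ twelve) : centralizer ({z * zz} : Set G) ≤ normalizer (J : Set G) := by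
  obtain ⟨Φ, hker, h1, h2⟩ := H.exists_hom F B C
  have hall : ∀ m ∈ rot24, ∃ n : ↥(NY J z w), Acts z zz x y n m := by
    intro m hm
    by_cases h12 : m ∈ twelve
    · exact H.exists_lift F B C h12
    · obtain ⟨n, hn, rfl⟩ := odd_cover (H.ny_rot F B C ha haa) hma hm h12
      obtain ⟨k, hk⟩ := H.exists_lift F B C hn
      exact ⟨⟨a, ha⟩ * k, haa.mul hk⟩
  have hrange : (Φ.comp (Subgroup.inclusion (le_refl (NY J z w)))).range = CentQuot.largeK :=
    H.range_eq F B C h1 h2 (l := rot24) _ le_rfl (fun n hn m hm => H.ny_rot F B C hn hm) hall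
      (fun n _ _ _ => n.2)
      (gs := [Equiv.swap (0 : Fin 9) 1 * Equiv.swap 1 2,
        Equiv.swap (0 : Fin 9) 3 * Equiv.swap 3 6 * (Equiv.swap (1 : Fin 9) 4 * Equiv.swap 4 7) *
          (Equiv.swap (2 : Fin 9) 5 * Equiv.swap 5 8),
        Equiv.swap (0 : Fin 9) 1 * Equiv.swap 3 4,
        Equiv.swap (0 : Fin 9) 3 * Equiv.swap 1 4 * Equiv.swap 2 5 * Equiv.swap 6 7]) large_gens
      (by rw [CentQuot.largeK]; congr 1; ext g; simp)
      (by rw [counts.2]; exact card_large)
  exact CentQuot.recog_large _ J (z * zz) (H.emb_vy_mem F B C) (H.y_order F B C)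
    (fun j hj => mem_centralizer_singleton_iff.2 (H.J_comm j hj _ (H.emb_vy_mem F B C)))
    (fun d hd => mem_centralizer_singleton_iff.1 hd) H.J_comm H.J_card
    (Φ.comp (Subgroup.inclusion (le_refl (NY J z w)))) (fun n => hker _) hrange
    (fun g hg j hj hjy h => H.fuse_J F B C (mem_centralizer_singleton_iff.1 hg) hj hjy h)
    fun g hg j hj hjy h => H.closed_J F B C (mem_centralizer_singleton_iff.1 hg) hj hjy h

/-- `C(z z')` normalizes `J`. -/
theorem Hyp.cent_y : centralizer ({z * zz} : Set G) ≤ normalizer (J : Set G) := by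
  by_cases h : ∀ n ∈ NY J z w, ∀ m, Acts z zz x y n m → m ∈ twelve
  · exact H.cent_y_small F B C h
  · push Not at h
    obtain ⟨a, ha, m, hm, hm12⟩ := h
    exact H.cent_y_large F B C ha hm hm12

end Cfsg.Agent.McLThree
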