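import Mathlib

/-!
# The orthogonal space of minus type of dimension four over the field with three elements

Coordinates `(x₀, a, b, x₁)` with the form `x₀ x₁ - a² - b²`.  Only the facts used for the 3-local
recognition of McL are proved: hyperplanes contain singular vectors, maps preserving singular
vectors are similitudes, and the isometries fixing the vector `(1, 0, 0, 1)` are monomial.
-/

set_option autoImplicit false
set_option synthInstance.maxSize 2000
set_option synthInstance.maxHeartbeats 200000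
set_option maxHeartbeats 1000000

namespace Cfsg.Agent.McLThree.Model

/-- The space. -/
abbrev V : Type := ZMod 3 × ZMod 3 × ZMod 3 × ZMod 3

/-- The quadratic form. -/
def qf (v : V) : ZMod 3 := v.1 * v.2.2.2 - v.2.1 * v.2.1 - v.2.2.1 * v.2.2.1

/-- Its bilinear form. -/
def bil (v w : V) : ZMod 3 :=
  v.1 * w.2.2.2 + w.1 * v.2.2.2 - 2 * (v.2.1 * w.2.1) - 2 * (v.2.2.1 * w.2.2.1)

def vz : V := (1, 0, 0, 0)
def vw1 : V := (0, 1, 0, 0)
def vw2 : V := (0, 0, 1, 0)
def vz' : V := (0, 0, 0, 1)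
/-- A vector of norm one in the hyperbolic plane. -/
def vy : V := (1, 0, 0, 1)
/-- A vector of norm minus one in the hyperbolic plane. -/
def vys : V := (1, 0, 0, -1)

/-- Multiplication by a scalar. -/
def sc (c : ZMod 3) (v : V) : V := (c * v.1, c * v.2.1, c * v.2.2.1, c * v.2.2.2)

/-- The images of the four basis vectors. -/
abbrev Mat : Type := V × V × V × V

/-- The linear map of a matrix. -/
def app (m : Mat) (v : V) : V :=
  sc v.1 m.1 + sc v.2.1 m.2.1 + sc v.2.2.1 m.2.2.1 + sc v.2.2.2 m.2.2.2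

/-- Composition. -/
def comp (m n : Mat) : Mat := (app m n.1, app m n.2.1, app m n.2.2.1, app m n.2.2.2)

/-- The identity. -/
def one : Mat := (vz, vw1, vw2, vz')

/-- The matrix of an additive map. -/
def matOf (f : V →+ V) : Mat := (f vz, f vw1, f vw2, f vz')

theorem map_sc (f : V →+ V) (c : ZMod 3) (v : V) : f (sc c v) = sc c (f v) := by
  have h : ∀ (d : ZMod 3) (u : V), sc d u = d.val • u := by decide +kernel
  rw [h, h, map_nsmul]

theorem eq_app (f : V →+ V) (v : V) : f v = app (matOf f) v := by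
  have hv : v = sc v.1 vz + sc v.2.1 vw1 + sc v.2.2.1 vw2 + sc v.2.2.2 vz' := by
    simp [sc, vz, vw1, vw2, vz', Prod.ext_iff]
  conv_lhs => rw [hv]
  simp only [map_add, map_sc, app, matOf]

theorem eq_of_matOf {f g : V →+ V} (h : matOf f = matOf g) : f = g :=
  AddMonoidHom.ext fun v => by rw [eq_app f, eq_app g, h]

theorem matOf_comp (f g : V →+ V) : matOf (f.comp g) = comp (matOf f) (matOf g) := by
  simp only [matOf, comp, AddMonoidHom.comp_apply, Prod.mk.injEq]
  exact ⟨eq_app f _, eq_app f _, eq_app f _, eq_app f _⟩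

theorem qf_add (v w : V) : qf (v + w) = qf v + qf w + bil v w := by
  simp only [qf, bil, Prod.fst_add, Prod.snd_add]; ring

theorem qf_sc (c : ZMod 3) (v : V) : qf (sc c v) = c * c * qf v := by
  simp only [qf, sc]; ring

theorem qf_app (m : Mat) (v : V) : qf (app m v) =
    v.1 * v.1 * qf m.1 + v.2.1 * v.2.1 * qf m.2.1 + v.2.2.1 * v.2.2.1 * qf m.2.2.1 +
      v.2.2.2 * v.2.2.2 * qf m.2.2.2 + v.1 * v.2.1 * bil m.1 m.2.1 + v.1 * v.2.2.1 * bil m.1 m.2.2.1 +
      v.1 * v.2.2.2 * bil m.1 m.2.2.2 + v.2.1 * v.2.2.1 * bil m.2.1 m.2.2.1 +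
      v.2.1 * v.2.2.2 * bil m.2.1 m.2.2.2 + v.2.2.1 * v.2.2.2 * bil m.2.2.1 m.2.2.2 := by
  simp only [qf, bil, app, sc, Prod.fst_add, Prod.snd_add]; ring

/-- A quadratic polynomial without pure terms in the singular basis vectors, vanishing on the
singular vectors, is a multiple of the form. -/
theorem coeff_eq : ∀ a b k c d e f g : ZMod 3,
    (∀ p ∈ ([(1, 1, 0, 1), (1, -1, 0, 1), (1, 0, 1, 1), (1, 0, -1, 1), (-1, 1, 1, 1), (-1, 1, -1, 1),
        (-1, -1, 1, 1), (-1, -1, -1, 1)] : List V),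
      p.2.1 * p.2.1 * a + p.2.2.1 * p.2.2.1 * b + p.1 * p.2.2.2 * k + p.2.1 * p.2.2.1 * c +
        p.1 * p.2.1 * d + p.1 * p.2.2.1 * e + p.2.1 * p.2.2.2 * f + p.2.2.1 * p.2.2.2 * g = 0) →
    a = -k ∧ b = -k ∧ c = 0 ∧ d = 0 ∧ e = 0 ∧ f = 0 ∧ g = 0 := by
  decide +kernel

theorem points_singular : ∀ p ∈ ([(1, 1, 0, 1), (1, -1, 0, 1), (1, 0, 1, 1), (1, 0, -1, 1),
    (-1, 1, 1, 1), (-1, 1, -1, 1), (-1, -1, 1, 1), (-1, -1, -1, 1)] : List V), qf p = 0 := by
  decide +kernel

/-- A map preserving singular vectors multiplies the form by a constant. -/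
theorem similitude {m : Mat} (h : ∀ v : V, qf v = 0 → qf (app m v) = 0) :
    ∀ v : V, qf (app m v) = bil m.1 m.2.2.2 * qf v := by
  have hz : qf m.1 = 0 := by
    have := h vz (by decide)
    rw [qf_app] at this
    simpa [vz] using this
  have hz' : qf m.2.2.2 = 0 := by
    have := h vz' (by decide)
    rw [qf_app] at this
    simpa [vz'] using this
  have hp : ∀ p ∈ ([(1, 1, 0, 1), (1, -1, 0, 1), (1, 0, 1, 1), (1, 0, -1, 1), (-1, 1, 1, 1),
      (-1, 1, -1, 1), (-1, -1, 1, 1), (-1, -1, -1, 1)] : List V),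
      p.2.1 * p.2.1 * qf m.2.1 + p.2.2.1 * p.2.2.1 * qf m.2.2.1 + p.1 * p.2.2.2 * bil m.1 m.2.2.2 +
        p.2.1 * p.2.2.1 * bil m.2.1 m.2.2.1 + p.1 * p.2.1 * bil m.1 m.2.1 +
        p.1 * p.2.2.1 * bil m.1 m.2.2.1 + p.2.1 * p.2.2.2 * bil m.2.1 m.2.2.2 +
        p.2.2.1 * p.2.2.2 * bil m.2.2.1 m.2.2.2 = 0 := fun p hp => by
    have := h p (points_singular p hp)
    rw [qf_app, hz, hz'] at this
    linear_combination this
  obtain ⟨ha, hb, hc, hd, he, hf, hg⟩ := coeff_eq _ _ _ _ _ _ _ _ hp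
  intro v
  rw [qf_app, hz, hz', ha, hb, hc, hd, he, hf, hg, qf]
  ring

/-- Every hyperplane contains a singular vector. -/
theorem hyperplane : ∀ c : V, ∃ v : V, v ≠ 0 ∧ qf v = 0 ∧
    c.1 * v.1 + c.2.1 * v.2.1 + c.2.2.1 * v.2.2.1 + c.2.2.2 * v.2.2.2 = 0 := by
  decide +kernel

/-- The unipotent map fixing the singular vector, of parameter `(a, b)`. -/
def uni (a b : ZMod 3) : Mat :=
  (vz, (-(-2 * a), 1, 0, 0), (-(-2 * b), 0, 1, 0), (a * a + b * b, a, b, 1))

theorem uni_facts : (∀ a b : ZMod 3, ∀ v, qf (app (uni a b) v) = qf v) ∧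
    (∀ v : V, qf v = 0 → v ≠ 0 → (∀ c, v ≠ sc c vz) → ∃ a b c, app (uni a b) (sc c vz') = v) := by
  decide +kernel

/-- The six vectors of norm minus one among the orthogonal complement of `vy`. -/
def six : List V := [vys, -vys, vw1, -vw1, vw2, -vw2]

theorem mem_six : ∀ v : V, qf v = -1 → bil v vy = 0 → v ∈ six := by decide +kernel

/-- The map fixing `vy` with given images of `vys`, `vw1`, `vw2`. -/
def mono (a b c : V) : Mat := (-(vy + a), b, c, -(vy - a))

theorem eq_mono (f : V →+ V) (h : f vy = vy) : matOf f = mono (f vys) (f vw1) (f vw2) := by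
  have h1 : vz = -(vy + vys) := by decide
  have h2 : vz' = -(vy - vys) := by decide
  have e1 : f vz = -(vy + f vys) := by rw [h1, map_neg, map_add, h]
  have e2 : f vz' = -(vy - f vys) := by rw [h2, map_neg, map_sub, h]
  simp [matOf, mono, e1, e2]

/-- The involution inverting `vw1` and `vw2`. -/
def tM : Mat := mono vys (-vw1) (-vw2)
/-- The element of order three. -/
def cycM : Mat := mono vw1 vw2 vys
/-- The rotation of order four. -/
def rotM : Mat := mono vys vw2 (-vw1)
/-- A reflection in a basis vector. -/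
def refM : Mat := mono vys (-vw1) vw2
/-- A reflection in a diagonal vector. -/
def diaM : Mat := mono vys vw2 vw1

/-- The alternating group fixing `vy`. -/
def four : List Mat :=
  [one, tM, mono (-vys) vw1 (-vw2), mono (-vys) (-vw1) vw2]

/-- The twelve elements. -/
def twelve : List Mat := four ++ four.map (comp cycM) ++ four.map (comp (comp cycM cycM))

theorem twelve_facts : tM ∈ twelve ∧ cycM ∈ twelve ∧
    comp (comp cycM tM) (comp cycM cycM) = mono (-vys) vw1 (-vw2) ∧
    comp (comp (comp cycM cycM) tM) cycM = mono (-vys) (-vw1) vw2 := by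
  decide +kernel

/-- Every isometry fixing `vy` is one of twelve, or becomes one of three special maps. -/
theorem frames_cosets : ∀ a ∈ six, ∀ b ∈ six, ∀ c ∈ six, bil a b = 0 → bil a c = 0 → bil b c = 0 →
    mono a b c ∈ twelve ∨ ∃ n ∈ twelve,
      comp (mono a b c) n = refM ∨ comp (mono a b c) n = diaM ∨ comp (mono a b c) n = rotM := by
  decide +kernel

/-- With the rotation added, only the reflections remain outside. -/
theorem frames_rot : ∀ a ∈ six, ∀ b ∈ six, ∀ c ∈ six, bil a b = 0 → bil a c = 0 → bil b c = 0 →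
    mono a b c ∈ twelve ∨ mono a b c ∈ twelve.map (comp rotM) ∨
      ∃ n ∈ twelve ++ twelve.map (comp rotM), comp (mono a b c) n = refM := by
  decide +kernel

end Cfsg.Agent.McLThree.Model
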