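import Cfsg.Agent.Lib.McLThree.Split
import Cfsg.Agent.Lib.McLThree.Model

/-!
# Coordinates on `J`

`J` is the space of the model, the conjugates of `Z` are its singular points, and `Q` induces the
unipotent maps fixing the first basis vector.
-/

set_option autoImplicit false
set_option linter.unusedSectionVars false
set_option linter.style.haveILetI false
set_option synthInstance.maxSize 2000
set_option synthInstance.maxHeartbeats 200000

namespace Cfsg.Agent.McLThree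

open Subgroup
open Model

universe u

section Power

variable {G : Type u} [Group G]

/-- A power with exponent modulo three. -/
def zp (x : G) (c : ZMod 3) : G := x ^ c.val

theorem zp_zero (x : G) : zp x 0 = 1 := by simp [zp]

theorem zp_one (x : G) : zp x 1 = x := by simp [zp, ZMod.val_one]

theorem zp_add {x : G} (h : x ^ 3 = 1) (a b : ZMod 3) : zp x (a + b) = zp x a * zp x b := by
  rw [zp, zp, zp, ← pow_add, ZMod.val_add, ← pow_mod_orderOf x (a.val + b.val),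
    ← pow_mod_orderOf x ((a.val + b.val) % 3), Nat.mod_mod_of_dvd _ (orderOf_dvd_of_pow_eq_one h)]

theorem zp_neg {x : G} (h : x ^ 3 = 1) (a : ZMod 3) : zp x (-a) = (zp x a)⁻¹ :=
  eq_inv_of_mul_eq_one_left (by rw [← zp_add h, neg_add_cancel, zp_zero])

theorem zp_inj {x : G} (h : x ^ 3 = 1) (h1 : x ≠ 1) {a b : ZMod 3} (e : zp x a = zp x b) : a = b := by
  haveI : Fact (Nat.Prime 3) := ⟨Nat.prime_three⟩
  have ho : orderOf x = 3 := orderOf_eq_prime h h1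
  exact ZMod.val_injective 3 (pow_injOn_Iio_orderOf (x := x) (by rw [Set.mem_Iio, ho]; exact ZMod.val_lt a)
    (by rw [Set.mem_Iio, ho]; exact ZMod.val_lt b) e)

theorem conj_zp (g x : G) (c : ZMod 3) : g * zp x c * g⁻¹ = zp (g * x * g⁻¹) c := by simp [zp, conj_pow]

theorem zp_mem {K : Subgroup G} {x : G} (h : x ∈ K) (c : ZMod 3) : zp x c ∈ K := pow_mem h _

end Power

/-- The element with given coordinates. -/
def emb {G : Type u} [Group G] (z z' x y : G) (v : V) : G :=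
  zp z v.1 * (zp x v.2.1 * (zp y v.2.2.1 * zp z' v.2.2.2))

theorem app_comp (m n : Mat) (v : V) : app (comp m n) v = app m (app n v) := by
  simp only [app, comp, sc, Prod.ext_iff, Prod.fst_add, Prod.snd_add]
  refine ⟨?_, ?_, ?_, ?_⟩ <;> ring

theorem uni_steps : (∀ a b : ZMod 3, comp (uni 1 0) (uni a b) = uni (1 + a) b ∧
    comp (uni 0 1) (uni a b) = uni a (1 + b)) ∧ uni 0 0 = one ∧ (∀ v : V, app one v = v) := by
  decide +kernel

theorem three_cases : ∀ a b d : ZMod 3, a ≠ 0 → b ≠ 0 → a + b + d ≠ 0 → a + b + -d ≠ 0 →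
    (a = 1 ∧ b = 1 ∧ a + b + d = 2) ∨ (a = 2 ∧ b = 2 ∧ a + b + d = 1 ∧ a + b + -d = 1) ∨
    (a = 1 ∧ a + b + d = 1 ∧ a + b + -d = 2) ∨ (a = 1 ∧ a + b + -d = 1 ∧ a + b + d = 2) ∨
    (b = 1 ∧ a + b + d = 1 ∧ a + b + -d = 2) ∨ (b = 1 ∧ a + b + -d = 1 ∧ a + b + d = 2) := by decide

theorem three_facts : (∀ d : ZMod 3, (2 : ZMod 3) = 1 + 1 + d → d = 0) ∧
    (∀ d : ZMod 3, (1 : ZMod 3) = 1 + 1 + d → d = 2) ∧ (∀ d : ZMod 3, d ≠ 0 → d = 1 ∨ d = 2) ∧
    (2 : ZMod 3) + 2 = 1 ∧ (1 : ZMod 3) ≠ 2 ∧ (0 : ZMod 3) ≠ 2 := by decide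

theorem uni_basis : (uni 1 0).2.1 = sc 2 vz + vw1 ∧ (uni 1 0).2.2.1 = vw2 ∧
    (uni 1 0).2.2.2 = vz + (vw1 + vz') ∧ (uni 0 1).2.1 = vw1 ∧ (uni 0 1).2.2.1 = sc 2 vz + vw2 ∧
    (uni 0 1).2.2.2 = vz + (vw2 + vz') := by decide +kernel

variable {G : Type u} [Group G] [Finite G] {S : Sylow 3 G} {Z J M₀ L₀ Q : Subgroup G}
  (H : Hyp S Z J M₀ L₀ Q) {π : ↥L₀ →* SL5} {t f : G} (F : Frame Q L₀ π t f)
  {ρ : ↥M₀ →* Six.A6} {u w : G} (B : Base S J M₀ t ρ u w)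

/-- Coordinates: `z` generates `Z` and `x`, `y` are orthonormal in `[J, t]`. -/
structure Coord (Z J Q : Subgroup G) (t w z x y : G) : Prop where
  z_mem : z ∈ Z
  z_ne : z ≠ 1
  x_mem : x ∈ J
  x_t : t * x * t⁻¹ = x⁻¹
  y_mem : y ∈ J
  y_t : t * y * t⁻¹ = y⁻¹
  inj : Function.Injective (emb z (w * z * w⁻¹) x y)
  onto : ∀ a ∈ J, ∃ v, emb z (w * z * w⁻¹) x y v = a
  trans : ∀ a b : ZMod 3, ∃ q ∈ Q, ∀ v : V,
    q * emb z (w * z * w⁻¹) x y v * q⁻¹ = emb z (w * z * w⁻¹) x y (app (uni a b) v)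

include H

theorem Hyp.emb_mem {z z' x y : G} (hz : z ∈ J) (hz' : z' ∈ J) (hx : x ∈ J) (hy : y ∈ J) (v : V) :
    emb z z' x y v ∈ J :=
  mul_mem (zp_mem hz _) (mul_mem (zp_mem hx _) (mul_mem (zp_mem hy _) (zp_mem hz' _)))

theorem Hyp.emb_add {z z' x y : G} (hz : z ∈ J) (hz' : z' ∈ J) (hx : x ∈ J) (hy : y ∈ J) (v v' : V) :
    emb z z' x y (v + v') = emb z z' x y v * emb z z' x y v' := by
  have e : ∀ a ∈ J, ∀ b ∈ J, ∀ c ∈ J, ∀ d ∈ J, a * b * (c * d) = a * c * (b * d) := fun a _ b hb c hc d _ => by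
    calc a * b * (c * d) = a * (b * c) * d := by group
      _ = a * (c * b) * d := by rw [H.J_comm b hb c hc]
      _ = _ := by group
  simp only [emb, Prod.fst_add, Prod.snd_add]
  rw [zp_add (H.J_exp z hz), zp_add (H.J_exp x hx), zp_add (H.J_exp y hy), zp_add (H.J_exp z' hz'),
    e (zp y _) (zp_mem hy _) (zp y _) (zp_mem hy _) (zp z' _) (zp_mem hz' _) (zp z' _) (zp_mem hz' _),
    e (zp x _) (zp_mem hx _) (zp x _) (zp_mem hx _) (zp y _ * zp z' _)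
      (mul_mem (zp_mem hy _) (zp_mem hz' _)) (zp y _ * zp z' _) (mul_mem (zp_mem hy _) (zp_mem hz' _)),
    e (zp z _) (zp_mem hz _) (zp z _) (zp_mem hz _) _
      (mul_mem (zp_mem hx _) (mul_mem (zp_mem hy _) (zp_mem hz' _))) _
      (mul_mem (zp_mem hx _) (mul_mem (zp_mem hy _) (zp_mem hz' _)))]

omit H in
theorem emb_basis (z z' x y : G) : emb z z' x y 0 = 1 ∧ emb z z' x y vz = z ∧ emb z z' x y vw1 = x ∧
    emb z z' x y vw2 = y ∧ emb z z' x y vz' = z' := by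
  simp [emb, vz, vw1, vw2, vz', zp_zero, zp_one]

theorem Hyp.emb_sc {z z' x y : G} (hz : z ∈ J) (hz' : z' ∈ J) (hx : x ∈ J) (hy : y ∈ J) (c : ZMod 3)
    (v : V) : emb z z' x y (sc c v) = emb z z' x y v ^ c.val := by
  have h : sc c v = c.val • v := (show ∀ (d : ZMod 3) (u : V), sc d u = d.val • u by decide +kernel) c v
  rw [h]
  induction c.val with
  | zero => rw [zero_nsmul, pow_zero]; exact (emb_basis z z' x y).1
  | succ n ih => rw [succ_nsmul, H.emb_add hz hz' hx hy, ih, pow_succ]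

theorem Hyp.zp_Z {z : G} (hz : z ∈ Z) (hz1 : z ≠ 1) {a : G} (ha : a ∈ Z) : ∃ c, zp z c = a := by
  haveI : Fact (Nat.Prime 3) := ⟨Nat.prime_three⟩
  have ho : orderOf z = 3 := orderOf_eq_prime (H.Q_exp z (H.Z_le_Q hz)) hz1
  have hle : Z ≤ zpowers z := (eq_of_le_of_card_ge (zpowers_le.2 hz) (by
    rw [Nat.card_zpowers, ho, H.card_Z])).ge
  obtain ⟨k, hk⟩ := (mem_powers_iff_mem_zpowers.2 (hle ha) : a ∈ Submonoid.powers z)
  refine ⟨(k : ZMod 3), ?_⟩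
  rw [zp, ZMod.val_natCast, ← ho, pow_mod_orderOf]
  exact hk

include F

theorem Hyp.act_R {q r : G} (hq : q ∈ Q) (hr : r ∈ J ⊓ Q) {z : G} (hz : z ∈ Z) (hz1 : z ≠ 1) :
    ∃ c, q * r * q⁻¹ = r * zp z c := by
  obtain ⟨c, hc⟩ := H.zp_Z hz hz1 (H.comm_Q hq hr.2)
  refine ⟨c, ?_⟩
  rw [hc, H.Z_comm (H.comm_Q hq hr.2) (H.J_le hr.1)]
  group

include B

theorem Hyp.exists_coord : ∃ z x y, Coord Z J Q t w z x y := by
  classical
  haveI : Fact (Nat.Prime 3) := ⟨Nat.prime_three⟩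
  obtain ⟨z, hz, hz1⟩ : ∃ z ∈ Z, z ≠ 1 := by
    by_contra hcon
    push Not at hcon
    have h := H.card_Z
    rw [(Subgroup.eq_bot_iff_forall Z).2 hcon, card_bot] at h
    norm_num at h
  set z' := w * z * w⁻¹ with hz'
  have hz'E := H.w_Z_Ej F B hz
  have hz'J : z' ∈ J := hz'E.1
  have hzJ : z ∈ J := H.Z_le_J F hz
  have hz3 : z ^ 3 = 1 := H.J_exp z hzJ
  -- translations
  let T : G → G → ZMod 3 → Prop := fun q x c => q ∈ Q ∧ q * z' * q⁻¹ = z' * x * zp z c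
  have hex : ∀ x ∈ H.Wj F, ∃ c q, T q x c := by
    intro x hx
    obtain ⟨q, hq, a, ha, e⟩ := H.exists_trans F B hz hz1 hx
    obtain ⟨c, rfl⟩ := H.zp_Z hz hz1 ha
    exact ⟨c, q, hq, e⟩
  choose! K qK hK using hex
  have huniq : ∀ q x c, x ∈ H.Wj F → T q x c → K x = c := fun q x c hx h =>
    zp_inj hz3 hz1 (H.trans_unique F B hz hz1 (hK x hx).1 h.1 (zp_mem hz _) (zp_mem hz _) (hK x hx).2 h.2)
  have hK1 : K 1 = 0 := huniq 1 1 0 (one_mem _) ⟨one_mem Q, by simp [zp_zero]⟩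
  have hKne : ∀ x ∈ H.Wj F, x ≠ 1 → K x ≠ 0 := by
    intro x hx hx1 h0
    obtain ⟨hq, e⟩ := hK x hx
    rw [h0, zp_zero, mul_one] at e
    exact hx1 (H.aniso F B hz hz1 hq hx e)
  have hKinv : ∀ x ∈ H.Wj F, K x⁻¹ = K x := by
    intro x hx
    obtain ⟨hq, e⟩ := hK x hx
    refine huniq (t * qK x * t⁻¹) _ _ (inv_mem hx) ⟨H.t_conj_Q F hq, ?_⟩
    have hzt : t * z' * t⁻¹ = z' := by
      rw [← mem_centralizer_singleton_iff.1 hz'E.2, mul_inv_cancel_right]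
    have hat : t * zp z (K x) * t⁻¹ = zp z (K x) := by
      rw [← mem_centralizer_iff.1 (H.L_le_cent F.t_mem) _ (zp_mem hz _), mul_inv_cancel_right]
    calc t * qK x * t⁻¹ * z' * (t * qK x * t⁻¹)⁻¹
        = t * qK x * t⁻¹ * (t * z' * t⁻¹) * (t * qK x * t⁻¹)⁻¹ := by rw [hzt]
      _ = t * (qK x * z' * (qK x)⁻¹) * t⁻¹ := by group
      _ = t * z' * t⁻¹ * (t * x * t⁻¹) * (t * zp z (K x) * t⁻¹) := by rw [e]; group
      _ = _ := by rw [hzt, hx.2, hat]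
  -- composition
  have hcomp : ∀ x x' c, x ∈ H.Wj F → x' ∈ H.Wj F →
      qK x * x' * (qK x)⁻¹ = x' * zp z c → K (x * x') = K x + K x' + c := by
    intro x x' c hx hx' hb
    obtain ⟨hq, e⟩ := hK x hx
    obtain ⟨hq', e'⟩ := hK x' hx'
    refine huniq (qK x * qK x') _ _ (mul_mem hx hx') ⟨mul_mem hq hq', ?_⟩
    have hqa : qK x * zp z (K x') * (qK x)⁻¹ = zp z (K x') := by
      rw [H.Z_comm (zp_mem hz _) (H.Q_le_S hq), mul_inv_cancel_right]
    rw [zp_add hz3, zp_add hz3]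
    calc qK x * qK x' * z' * (qK x * qK x')⁻¹ = qK x * (qK x' * z' * (qK x')⁻¹) * (qK x)⁻¹ := by group
      _ = (qK x * z' * (qK x)⁻¹) * (qK x * x' * (qK x)⁻¹) * (qK x * zp z (K x') * (qK x)⁻¹) := by
          rw [e']; group
      _ = z' * x * (zp z (K x) * x') * zp z c * zp z (K x') := by rw [e, hb, hqa]; group
      _ = z' * x * (x' * zp z (K x)) * zp z c * zp z (K x') := by
          rw [H.Z_comm (zp_mem hz _) (H.J_le hx'.1)]
      _ = z' * (x * x') * (zp z (K x) * (zp z c * zp z (K x'))) := by group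
      _ = _ := by rw [← zp_add hz3 c, add_comm c, zp_add hz3]; group
  -- a raw basis
  obtain ⟨x1, hx1, hx1n⟩ : ∃ x ∈ H.Wj F, x ≠ 1 := by
    by_contra hcon
    push Not at hcon
    have h := H.card_Wj F
    rw [(Subgroup.eq_bot_iff_forall _).2 hcon, card_bot] at h
    norm_num at h
  obtain ⟨x2, hx2, hx2n⟩ : ∃ y ∈ H.Wj F, y ∉ zpowers x1 := by
    by_contra hcon
    push Not at hcon
    have h := card_le_of_le (show H.Wj F ≤ zpowers x1 from hcon)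
    rw [H.card_Wj F, Nat.card_zpowers, orderOf_eq_prime (H.J_exp x1 hx1.1) hx1n] at h
    omega
  have hx2n1 : x2 ≠ 1 := fun h => hx2n (h ▸ one_mem _)
  have hp : x1 * x2 ≠ 1 := fun h => hx2n (eq_inv_of_mul_eq_one_right h ▸ inv_mem (mem_zpowers x1))
  have hm : x1 * x2⁻¹ ≠ 1 := fun h => hx2n ((mul_inv_eq_one.1 h) ▸ mem_zpowers x1)
  obtain ⟨c, hc⟩ := H.act_R F (hK x1 hx1).1 (H.Wj_le F hx2) hz hz1
  have kp : K (x1 * x2) = K x1 + K x2 + c := hcomp x1 x2 c hx1 hx2 hc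
  have km : K (x1 * x2⁻¹) = K x1 + K x2 + -c := by
    rw [← hKinv x2 hx2]
    refine hcomp x1 x2⁻¹ (-c) hx1 (inv_mem hx2) ?_
    rw [show qK x1 * x2⁻¹ * (qK x1)⁻¹ = (qK x1 * x2 * (qK x1)⁻¹)⁻¹ by group, hc, mul_inv_rev, zp_neg hz3,
      ← H.Z_comm (inv_mem (zp_mem hz c)) (H.J_le (inv_mem hx2.1))]
  -- an orthonormal basis
  obtain ⟨x, hx, y, hy, ex, ey, exy⟩ :
      ∃ x ∈ H.Wj F, ∃ y ∈ H.Wj F, K x = 1 ∧ K y = 1 ∧ K (x * y) = 2 := by
    have hcom : ∀ a ∈ H.Wj F, ∀ b ∈ H.Wj F, a * b = b * a := fun a ha b hb => H.J_comm a ha.1 b hb.1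
    have hsq : ∀ a ∈ H.Wj F, a * a = a⁻¹ := fun a ha => by
      have h3 := H.J_exp a ha.1
      rw [pow_succ, pow_two] at h3
      exact eq_inv_of_mul_eq_one_left h3
    have hv := three_cases
    rcases hv _ _ c (hKne x1 hx1 hx1n) (hKne x2 hx2 hx2n1)
      (kp ▸ hKne _ (mul_mem hx1 hx2) hp) (km ▸ hKne _ (mul_mem hx1 (inv_mem hx2)) hm) with
      ⟨e1, e2, e3⟩ | ⟨e1, -, e3, e4⟩ | ⟨e1, e3, e4⟩ | ⟨e1, e3, e4⟩ | ⟨e1, e3, e4⟩ | ⟨e1, e3, e4⟩
    · exact ⟨x1, hx1, x2, hx2, e1, e2, kp.trans e3⟩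
    · refine ⟨_, mul_mem hx1 hx2, _, mul_mem hx1 (inv_mem hx2), kp.trans e3, km.trans e4, ?_⟩
      rw [show x1 * x2 * (x1 * x2⁻¹) = x1 * (x2 * x1) * x2⁻¹ by group, hcom x2 hx2 x1 hx1,
        show x1 * (x1 * x2) * x2⁻¹ = x1 * x1 by group, hsq x1 hx1, hKinv x1 hx1, e1]
    · refine ⟨x1, hx1, _, mul_mem hx1 hx2, e1, kp.trans e3, ?_⟩
      rw [← mul_assoc, hsq x1 hx1, hcom _ (inv_mem hx1) x2 hx2, ← hKinv _ (mul_mem hx2 (inv_mem hx1)),
        mul_inv_rev, inv_inv]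
      exact km.trans e4
    · refine ⟨x1, hx1, _, mul_mem hx1 (inv_mem hx2), e1, km.trans e3, ?_⟩
      rw [← mul_assoc, hsq x1 hx1, hcom _ (inv_mem hx1) x2⁻¹ (inv_mem hx2),
        ← mul_inv_rev, hKinv _ (mul_mem hx1 hx2)]
      exact kp.trans e4
    · refine ⟨x2, hx2, _, mul_mem hx1 hx2, e1, kp.trans e3, ?_⟩
      rw [hcom x2 hx2 _ (mul_mem hx1 hx2), mul_assoc, hsq x2 hx2]
      exact km.trans e4
    · refine ⟨x2, hx2, _, inv_mem (mul_mem hx1 (inv_mem hx2)), e1,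
        (hKinv _ (mul_mem hx1 (inv_mem hx2))).trans (km.trans e3), ?_⟩
      rw [mul_inv_rev, inv_inv, ← mul_assoc, hsq x2 hx2, ← mul_inv_rev, hKinv _ (mul_mem hx1 hx2)]
      exact kp.trans e4
  have hxn : x ≠ 1 := fun h => by rw [h, hK1] at ex; exact zero_ne_one ex
  have hyn : y ∉ zpowers x := by
    intro hmem
    obtain ⟨k, hk⟩ := (mem_powers_iff_mem_zpowers.2 hmem : y ∈ Submonoid.powers x)
    change x ^ k = y at hk
    have hk3 : y = x ^ (k % 3) := by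
      rw [← hk, ← orderOf_eq_prime (H.J_exp x hx.1) hxn, pow_mod_orderOf]
    have := Nat.mod_lt k (show 3 > 0 by norm_num)
    interval_cases h : k % 3
    · rw [hk3, pow_zero, hK1] at ey; exact zero_ne_one ey
    · rw [hk3, pow_one] at exy
      have e : x * x = x⁻¹ := by
        have h3 := H.J_exp x hx.1; rw [pow_succ, pow_two] at h3; exact eq_inv_of_mul_eq_one_left h3
      rw [e, hKinv x hx, ex] at exy
      exact three_facts.2.2.2.2.1 exy
    · rw [hk3, show x * x ^ 2 = x ^ 3 by simp only [pow_succ, pow_zero, one_mul, mul_assoc],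
        H.J_exp x hx.1, hK1] at exy
      exact three_facts.2.2.2.2.2 exy
  -- the matrix entries
  obtain ⟨cxy, hcxy⟩ := H.act_R F (hK x hx).1 (H.Wj_le F hy) hz hz1
  have hxy0 : cxy = 0 := by
    have h := hcomp x y cxy hx hy hcxy
    rw [exy, ex, ey] at h
    exact three_facts.1 _ h
  obtain ⟨cyx, hcyx⟩ := H.act_R F (hK y hy).1 (H.Wj_le F hx) hz hz1
  have hyx0 : cyx = 0 := by
    have h := hcomp y x cyx hy hx hcyx
    rw [← H.J_comm x hx.1 y hy.1, exy, ex, ey] at h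
    exact three_facts.1 _ h
  have hdiag : ∀ v ∈ H.Wj F, K v = 1 → qK v * v * (qK v)⁻¹ = v * zp z 2 := by
    intro v hv h1
    obtain ⟨cv, hcv⟩ := H.act_R F (hK v hv).1 (H.Wj_le F hv) hz hz1
    have h := hcomp v v cv hv hv hcv
    have e : v * v = v⁻¹ := by
      have h3 := H.J_exp v hv.1; rw [pow_succ, pow_two] at h3; exact eq_inv_of_mul_eq_one_left h3
    rw [e, hKinv v hv, h1] at h
    rw [hcv, three_facts.2.1 _ h]
  have hxJ := hx.1
  have hyJ := hy.1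
  obtain ⟨e0, ez, ew1, ew2, ez'⟩ := emb_basis z z' x y
  have hinj : Function.Injective (emb z z' x y) := by
    intro a b hab
    rw [← sub_eq_zero]
    set v := a - b
    have hv : emb z z' x y v = 1 := by
      have h := H.emb_add hzJ hz'J hxJ hyJ v b
      rw [sub_add_cancel, hab] at h
      exact right_eq_mul.1 h
    have hRmem : ∀ c d e : ZMod 3, zp z c * (zp x d * zp y e) ∈ J ⊓ Q := fun c d e =>
      mul_mem (⟨zp_mem hzJ _, zp_mem (H.Z_le_Q hz) _⟩ : zp z c ∈ J ⊓ Q)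
        (mul_mem (zp_mem (H.Wj_le F hx) _) (zp_mem (H.Wj_le F hy) _))
    have hv4 : v.2.2.2 = 0 := by
      by_contra h4
      have hQ : zp z' v.2.2.2 ∈ Q := by
        have : zp z' v.2.2.2 = (zp z v.1 * (zp x v.2.1 * zp y v.2.2.1))⁻¹ :=
          eq_inv_of_mul_eq_one_right (by rw [← hv, emb]; group)
        rw [this]; exact inv_mem (hRmem _ _ _).2
      have hE : zp z' v.2.2.2 ∈ Z := H.Ej_inf_Q F (zp_mem hz'E _) hQ
      refine H.w_Z_not_Z F B hz hz1 ?_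
      have hv3 : v.2.2.2 = 1 ∨ v.2.2.2 = 2 := three_facts.2.2.1 _ h4
      rcases hv3 with h | h
      · rwa [h, zp_one] at hE
      · have h2 := mul_mem hE hE
        rwa [← zp_add (H.J_exp z' hz'J), h, three_facts.2.2.2.1, zp_one] at h2
    have hv1 : v.1 = 0 := by
      rw [emb, hv4, zp_zero, mul_one] at hv
      have hW : zp z v.1 ∈ H.Wj F := eq_inv_of_mul_eq_one_left hv ▸ inv_mem (mul_mem (zp_mem hx _) (zp_mem hy _))
      have h := H.Wj_inf_Ej F hW (H.Z_le_Ej F (zp_mem hz _))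
      exact zp_inj hz3 hz1 (h.trans (zp_zero z).symm)
    rw [emb, hv4, zp_zero, mul_one, hv1, zp_zero, one_mul] at hv
    have hv3 : v.2.2.1 = 0 := by
      by_contra h3
      have hmem : zp y v.2.2.1 ∈ zpowers x := eq_inv_of_mul_eq_one_right hv ▸ inv_mem (pow_mem (mem_zpowers x) _)
      rcases three_facts.2.2.1 _ h3 with h | h
      · rw [h, zp_one] at hmem; exact hyn hmem
      · have h2 := mul_mem hmem hmem
        rw [← zp_add (H.J_exp y hyJ), h, three_facts.2.2.2.1, zp_one] at h2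
        exact hyn h2
    rw [hv3, zp_zero, mul_one] at hv
    have hv2 : v.2.1 = 0 := zp_inj (H.J_exp x hxJ) hxn (hv.trans (zp_zero x).symm)
    ext <;> assumption
  have honto : ∀ a ∈ J, ∃ v, emb z z' x y v = a := by
    intro a ha
    let φ : V → ↥J := fun v => ⟨emb z z' x y v, H.emb_mem hzJ hz'J hxJ hyJ v⟩
    have hφ : Function.Bijective φ := (Nat.bijective_iff_injective_and_card φ).2
      ⟨fun a b h => hinj (congrArg Subtype.val h), by rw [H.J_card]; simp [V]⟩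
    obtain ⟨v, hv⟩ := hφ.2 ⟨a, ha⟩
    exact ⟨v, congrArg Subtype.val hv⟩
  -- translations as matrices
  let Acts : G → Mat → Prop := fun q m => q ∈ Q ∧ ∀ v, q * emb z z' x y v * q⁻¹ = emb z z' x y (app m v)
  have hlin : ∀ q ∈ Q, ∀ m : Mat, q * z * q⁻¹ = emb z z' x y m.1 → q * x * q⁻¹ = emb z z' x y m.2.1 →
      q * y * q⁻¹ = emb z z' x y m.2.2.1 → q * z' * q⁻¹ = emb z z' x y m.2.2.2 → Acts q m := by
    intro q hq m h1 h2 h3 h4
    refine ⟨hq, fun v => ?_⟩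
    conv_lhs => rw [emb]
    rw [show q * (zp z v.1 * (zp x v.2.1 * (zp y v.2.2.1 * zp z' v.2.2.2))) * q⁻¹ =
      q * zp z v.1 * q⁻¹ * (q * zp x v.2.1 * q⁻¹ * (q * zp y v.2.2.1 * q⁻¹ * (q * zp z' v.2.2.2 * q⁻¹))) by group,
      conj_zp, conj_zp, conj_zp, conj_zp, h1, h2, h3, h4]
    simp only [zp, ← H.emb_sc hzJ hz'J hxJ hyJ, ← H.emb_add hzJ hz'J hxJ hyJ]
    congr 1
    simp only [app]; abel
  have hqz : ∀ q ∈ Q, q * z * q⁻¹ = z := fun q hq => by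
    rw [H.Z_comm hz (H.Q_le_S hq), mul_inv_cancel_right]
  have hA1 : Acts (qK x) (uni 1 0) := by
    refine hlin _ (hK x hx).1 _ (by rw [hqz _ (hK x hx).1]; exact ez.symm) ?_ ?_ ?_
    · rw [hdiag x hx ex, uni_basis.1, H.emb_add hzJ hz'J hxJ hyJ, ew1]
      rw [H.emb_sc hzJ hz'J hxJ hyJ, ez, H.J_comm _ (pow_mem hzJ _) x hxJ]; rfl
    · rw [hcxy, hxy0, zp_zero, mul_one, uni_basis.2.1, ew2]
    · rw [(hK x hx).2, ex, zp_one, uni_basis.2.2.1,
        H.emb_add hzJ hz'J hxJ hyJ, H.emb_add hzJ hz'J hxJ hyJ, ez, ew1, ez',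
        H.J_comm x hxJ z' hz'J, H.J_comm z hzJ _ (mul_mem hz'J hxJ)]
  have hA2 : Acts (qK y) (uni 0 1) := by
    refine hlin _ (hK y hy).1 _ (by rw [hqz _ (hK y hy).1]; exact ez.symm) ?_ ?_ ?_
    · rw [hcyx, hyx0, zp_zero, mul_one, uni_basis.2.2.2.1, ew1]
    · rw [hdiag y hy ey, uni_basis.2.2.2.2.1, H.emb_add hzJ hz'J hxJ hyJ, ew2]
      rw [H.emb_sc hzJ hz'J hxJ hyJ, ez, H.J_comm _ (pow_mem hzJ _) y hyJ]; rfl
    · rw [(hK y hy).2, ey, zp_one, uni_basis.2.2.2.2.2,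
        H.emb_add hzJ hz'J hxJ hyJ, H.emb_add hzJ hz'J hxJ hyJ, ez, ew2, ez',
        H.J_comm y hyJ z' hz'J, H.J_comm z hzJ _ (mul_mem hz'J hyJ)]
  have hmul : ∀ q m q' m', Acts q m → Acts q' m' → Acts (q * q') (comp m m') := by
    intro q m q' m' hm hm'
    refine ⟨mul_mem hm.1 hm'.1, fun v => ?_⟩
    rw [app_comp, ← hm.2, ← hm'.2]; group
  have h00 : Acts 1 (uni 0 0) := ⟨one_mem Q, fun v => by rw [uni_steps.2.1, uni_steps.2.2]; group⟩
  have h0b : ∀ n : ℕ, ∃ q, Acts q (uni 0 (n : ZMod 3)) := by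
    intro n
    induction n with
    | zero => exact ⟨1, by simpa using h00⟩
    | succ n ih =>
      obtain ⟨q, hq⟩ := ih
      refine ⟨qK y * q, ?_⟩
      have h := hmul _ _ _ _ hA2 hq
      rwa [(uni_steps.1 0 (n : ZMod 3)).2, add_comm, ← Nat.cast_succ] at h
  have hab : ∀ (m : ℕ) (b : ZMod 3), ∃ q, Acts q (uni (m : ZMod 3) b) := by
    intro m b
    induction m with
    | zero => obtain ⟨q, hq⟩ := h0b b.val; exact ⟨q, by simpa using hq⟩
    | succ m ih =>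
      obtain ⟨q, hq⟩ := ih
      refine ⟨qK x * q, ?_⟩
      have h := hmul _ _ _ _ hA1 hq
      rwa [(uni_steps.1 (m : ZMod 3) b).1, add_comm, ← Nat.cast_succ] at h
  refine ⟨z, x, y, hz, hz1, hxJ, hx.2, hyJ, hy.2, hinj, honto, fun a b => ?_⟩
  obtain ⟨q, hq⟩ := hab a.val b
  rw [ZMod.natCast_zmod_val] at hq
  exact ⟨q, hq.1, hq.2⟩

end Cfsg.Agent.McLThree
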