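import Cfsg.Agent.Lib.McLThree.ShapeZ

/-!
# The normalizer of `E` in `C(t)`

`|N(E) ∩ C(t)| = 8 |C(E) ∩ C(t)|` and the stabiliser of a vector off the two points has order `2 |C(E) ∩ C(t)|`.
-/

set_option autoImplicit false
set_option linter.unusedSectionVars false
set_option linter.style.haveILetI false

namespace Cfsg.Agent.McLThree

open Subgroup
open scoped Pointwise

universe u

theorem cent_count_three : ∀ a : Equiv.Perm (Fin 3), a ^ 3 = 1 → a ≠ 1 →
    (Finset.univ.filter fun p : Equiv.Perm (Fin 3) => p * a = a * p).card = 3 ∧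
      ∀ p : Equiv.Perm (Fin 3), p * a = a * p → Equiv.Perm.sign p = 1 := by decide +kernel

set_option maxRecDepth 100000 in
theorem cent_count_five : ∀ a : Equiv.Perm (Fin 5), a ^ 3 = 1 → a ≠ 1 →
    (Finset.univ.filter fun p : Equiv.Perm (Fin 5) => p * a = a * p).card = 6 ∧
      (Finset.univ.filter fun p : Equiv.Perm (Fin 5) => p * a = a * p ∧ Equiv.Perm.sign p = 1).card = 3 := by
  decide +kernel

set_option synthInstance.maxSize 10000 in
set_option maxRecDepth 100000 in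
theorem moved_five : ∀ u : Equiv.Perm (Fin 5), u ^ 3 = 1 → u ≠ 1 →
    ∃ v : Equiv.Perm (Fin 5), Equiv.Perm.sign v = 1 ∧ v * u * v⁻¹ ≠ u ∧ v * u * v⁻¹ ≠ u⁻¹ := by
  decide +kernel

theorem powers_three : ∀ x y : Equiv.Perm (Fin 3), x ^ 3 = 1 → x ≠ 1 → y ^ 3 = 1 → y = 1 ∨ y = x ∨ y = x⁻¹ := by
  decide +kernel

theorem even_three_comm : ∀ x y : Equiv.Perm (Fin 3), Equiv.Perm.sign x = 1 → Equiv.Perm.sign y = 1 →
    x * y = y * x := by
  decide +kernel

/-- A subgroup of index two from an element outside. -/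
theorem card_two_index {G : Type u} [Group G] [Finite G] {A B : Subgroup G} (hBA : B ≤ A) {a : G} (ha : a ∈ A) (haB : a ∉ B)
    (hcov : ∀ x ∈ A, x ∈ B ∨ x * a ∈ B) : Nat.card ↥A = 2 * Nat.card ↥B := by
  have hidx : (B.subgroupOf A).index = 2 := by
    refine index_eq_two_iff.2 ⟨⟨a, ha⟩, fun x => ?_⟩
    rcases hcov x x.2 with h | h
    · refine Or.inr ⟨h, fun hm => haB ?_⟩
      have := mul_mem (inv_mem h) (mem_subgroupOf.1 hm)
      rwa [Subgroup.coe_mul, inv_mul_cancel_left] at this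
    · refine Or.inl ⟨h, fun hm => haB ?_⟩
      have := mul_mem (inv_mem (mem_subgroupOf.1 hm)) h
      rwa [inv_mul_cancel_left] at this
  have h := (B.subgroupOf A).card_mul_index
  rw [hidx, Nat.card_congr (subgroupOfEquivOfLe hBA).toEquiv] at h
  omega

variable {G : Type u} [Group G] [Finite G] {S : Sylow 3 G} {Z J M₀ L₀ Q : Subgroup G}
  (H : Hyp S Z J M₀ L₀ Q) {π : ↥L₀ →* SL5} {t f : G} (F : Frame Q L₀ π t f)
  {s z z' : G} (K : JSide Z J L₀ t s z z')
include H F K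

/-- `C(E) ∩ C(t)`. -/
abbrev CE (J : Subgroup G) (t : G) : Subgroup G := centralizer (Ej J t : Set G) ⊓ centralizer ({t} : Set G)

theorem Hyp.mem_CE {g : G} (hgt : Commute g t) (h1 : g * z * g⁻¹ = z) (h2 : g * z' * g⁻¹ = z') : g ∈ CE J t := by
  refine ⟨mem_centralizer_iff.2 fun e he => ?_, mem_centralizer_singleton_iff.2 hgt.eq⟩
  have hgZ := H.mem_cent_Z F K h1
  have hg' : Commute g z' := mul_inv_eq_iff_eq_mul.1 h2
  have hgz : Commute g z := mul_inv_eq_iff_eq_mul.1 h1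
  show e * g = g * e
  rcases H.Ej_cases F K he with h | h | h | h
  · exact mem_centralizer_iff.1 hgZ e h
  · obtain ⟨k, rfl⟩ := mem_zpowers_iff.1 h
    exact (hg'.zpow_right k).symm.eq
  · rcases h with rfl | rfl
    · exact (hgz.mul_right hg').symm.eq
    · exact (hgz.mul_right hg'.inv_right).symm.eq
  · rcases h with h | h <;> rw [← inv_inv e, h]
    · exact ((hgz.mul_right hg').inv_right).symm.eq
    · exact ((hgz.mul_right hg'.inv_right).inv_right).symm.eq

theorem Hyp.CE_le_centZt : CE J t ≤ centZt Z t := fun g hg =>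
  ⟨mem_centralizer_iff.2 fun w hw => mem_centralizer_iff.1 hg.1 w (H.Z_le_Ej F hw), hg.2⟩

theorem Hyp.CE_le_NE : CE J t ≤ NE J t := inf_le_inf_right _ (centralizer_le_normalizer _)

/-- A subgroup of odd order of `N(E) ∩ C(t)` centralises `E`. -/
theorem Hyp.odd_mem_CE {g : G} (hg : g ∈ NE J t) (hodd : Odd (orderOf g)) : g ∈ CE J t := by
  obtain ⟨m, hm⟩ := hodd
  have hsq : ∀ h : G, h ∈ NE J t → ∀ w, w = z ∨ w = z' →
      h * h * w * (h * h)⁻¹ ∈ zpowers w := by
    intro h hh w hw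
    have key : ∀ a, a = z ∨ a = z' → h * a * h⁻¹ ∈ Z ∨ h * a * h⁻¹ ∈ zpowers z' :=
      fun a ha => H.point_image F K hh ha
    have hzz' : ∀ x : G, x ∈ Z → x ∈ zpowers z' → x = 1 := by
      intro x hx hx'
      obtain ⟨k, hk⟩ := mem_zpowers_iff.1 hx'
      rcases order_three (H.z'_cube F K) k with e | e | e <;> rw [e] at hk
      · exact hk.symm
      · exact absurd (hk ▸ hx) K.z'_not
      · exact absurd (by simpa using inv_mem (hk ▸ hx : z'⁻¹ ∈ Z)) K.z'_not
    -- the images of the two points are independent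
    have hne : ∀ (T : Subgroup G), h * z * h⁻¹ ∈ T → h * z' * h⁻¹ ∈ T → (T = Z ∨ T = zpowers z') → False := by
      intro T h1 h2 hT
      have h3 : (Z : Subgroup G) ≤ T.comap (MulAut.conj h).toMonoidHom := by
        rw [← H.Z_eq_zpowers F K]; exact zpowers_le.2 h1
      have h4 : zpowers z' ≤ T.comap (MulAut.conj h).toMonoidHom := zpowers_le.2 h2
      have h5 : Ej J t ≤ T.comap (MulAut.conj h).toMonoidHom := by
        intro e he
        rcases H.Ej_cases F K he with h' | h' | h' | h'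
        · exact h3 h'
        · exact h4 h'
        · rcases h' with rfl | rfl
          · exact mul_mem (h3 K.z_mem) (h4 (mem_zpowers z'))
          · exact mul_mem (h3 K.z_mem) (h4 (inv_mem (mem_zpowers z')))
        · rcases h' with h' | h' <;> rw [← inv_inv e, h']
          · exact inv_mem (mul_mem (h3 K.z_mem) (h4 (mem_zpowers z')))
          · exact inv_mem (mul_mem (h3 K.z_mem) (h4 (inv_mem (mem_zpowers z'))))
      have hc := card_le_of_le h5
      rw [H.card_Ej F, show Nat.card ↥(T.comap (MulAut.conj h).toMonoidHom) = Nat.card ↥T from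
        Nat.card_congr ((MulAut.conj h).toEquiv.subtypeEquiv fun x => Iff.rfl)] at hc
      rcases hT with rfl | rfl
      · rw [H.card_Z] at hc; omega
      · haveI : Fact (Nat.Prime 3) := ⟨Nat.prime_three⟩
        rw [Nat.card_zpowers, orderOf_eq_prime (H.z'_cube F K) fun h1 => K.z'_not (h1 ▸ one_mem Z)] at hc
        omega
    have hpow : ∀ (a : G) (T : Subgroup G), a ∈ T → h * h * a * (h * h)⁻¹ = h * (h * a * h⁻¹) * h⁻¹ := by
      intro a T _; group
    have himg : ∀ (a x : G), x ∈ zpowers a → h * x * h⁻¹ ∈ zpowers (h * a * h⁻¹) := by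
      intro a x hx
      obtain ⟨k, rfl⟩ := mem_zpowers_iff.1 hx
      rw [← conj_zpow]; exact zpow_mem (mem_zpowers _) k
    rw [hpow w ⊤ (mem_top w)]
    have hz := key z (Or.inl rfl)
    have hz' := key z' (Or.inr rfl)
    rcases hz with h1 | h1 <;> rcases hz' with h2 | h2
    · exact (hne Z h1 h2 (Or.inl rfl)).elim
    · rcases hw with rfl | rfl
      · have h1' : h * w * h⁻¹ ∈ zpowers w := by rwa [H.Z_eq_zpowers F K]
        have := himg _ _ h1'
        exact (zpowers_le.2 h1') this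
      · exact (zpowers_le.2 h2) (himg _ _ h2)
    · rcases hw with rfl | rfl
      · have := (zpowers_le.2 h2) (himg _ _ h1)
        rwa [H.Z_eq_zpowers F K]
      · have h2' : h * w * h⁻¹ ∈ zpowers z := by rwa [H.Z_eq_zpowers F K]
        exact (zpowers_le.2 h1) (himg _ _ h2')
    · exact (hne _ h1 h2 (Or.inr rfl)).elim
  -- `g` is a power of its square
  have hfix : ∀ w, w = z ∨ w = z' → g * w * g⁻¹ = w := by
    intro w hw
    have hw3 : w ^ 3 = 1 := by rcases hw with rfl | rfl; exacts [H.z_cube F K, H.z'_cube F K]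
    have hgg : ∀ h ∈ NE J t, h * h * w * (h * h)⁻¹ = w ∨ h * h * w * (h * h)⁻¹ = w⁻¹ := by
      intro h hh
      obtain ⟨k, hk⟩ := mem_zpowers_iff.1 (hsq h hh w hw)
      rcases order_three hw3 k with e | e | e <;> rw [e] at hk
      · refine Or.inl ?_
        rw [← hk]; exact (_root_.conj_eq_one_iff.1 hk.symm).symm
      · exact Or.inl hk.symm
      · exact Or.inr hk.symm
    set h := g * g
    have hgh : g = h ^ (m + 1) := by
      rw [show h = g ^ 2 from (pow_two g).symm, ← pow_mul, show 2 * (m + 1) = orderOf g + 1 by omega, pow_succ,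
        pow_orderOf_eq_one, one_mul]
    have h4 : h * h * w * (h * h)⁻¹ = w := by
      rcases hgg g hg with e | e
      · rw [show h * h * w * (h * h)⁻¹ = h * (h * w * h⁻¹) * h⁻¹ by group, e, e]
      · rw [show h * h * w * (h * h)⁻¹ = h * (h * w * h⁻¹) * h⁻¹ by group, e, ← conj_inv, e, inv_inv]
    have hgk : g = (h * h) ^ ((m + 1) * (m + 1)) := by
      rw [show h * h = h ^ 2 from (pow_two h).symm, ← pow_mul, show 2 * ((m + 1) * (m + 1)) = (m + 1) * (2 * (m + 1)) by ring,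
        pow_mul, ← hgh, show 2 * (m + 1) = orderOf g + 1 by omega, pow_succ, pow_orderOf_eq_one, one_mul]
    have hcw : Commute (h * h) w := mul_inv_eq_iff_eq_mul.1 h4
    rw [hgk, (hcw.pow_left _).eq, mul_inv_cancel_right]
  exact H.mem_CE F K (mem_centralizer_singleton_iff.1 hg.2) (hfix z (Or.inl rfl)) (hfix z' (Or.inr rfl))

theorem Hyp.inv_ne {w : G} (hw : w = z ∨ w = z') : w⁻¹ ≠ w := fun h => by
  have hw3 : w ^ 3 = 1 := by rcases hw with rfl | rfl; exacts [H.z_cube F K, H.z'_cube F K]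
  have h2 : w * w = 1 := by nth_rw 1 [← h]; rw [inv_mul_cancel]
  have h1 : w = 1 := by rwa [pow_succ, pow_two, h2, one_mul] at hw3
  rcases hw with rfl | rfl
  · exact H.z_ne F K h1
  · exact K.z'_not (h1 ▸ one_mem Z)

theorem Hyp.z'_image {g : G} (hg : g ∈ NE J t) (hgZ : g * z * g⁻¹ ∈ Z) :
    g * z' * g⁻¹ = z' ∨ g * z' * g⁻¹ = z'⁻¹ := by
  rcases H.point_image F K hg (Or.inr rfl) with h | h
  · exfalso
    have h' : g * z' * g⁻¹ ∈ zpowers (g * z * g⁻¹) := by
      have hgen : zpowers (g * z * g⁻¹) = Z := by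
        haveI : Fact (Nat.Prime 3) := ⟨Nat.prime_three⟩
        refine eq_of_le_of_card_ge (zpowers_le.2 hgZ) ?_
        rw [H.card_Z, Nat.card_zpowers, orderOf_eq_prime (p := 3) (x := g * z * g⁻¹)
          (by rw [conj_pow, H.z_cube F K, mul_one, mul_inv_cancel])
          fun e => H.z_ne F K (_root_.conj_eq_one_iff.1 e)]
      rwa [hgen]
    obtain ⟨k, hk⟩ := mem_zpowers_iff.1 h'
    rw [conj_zpow] at hk
    exact K.z'_not (by rw [← mul_left_cancel (mul_right_cancel hk)]; exact zpow_mem K.z_mem k)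
  · obtain ⟨k, hk⟩ := mem_zpowers_iff.1 h
    rcases order_three (H.z'_cube F K) k with e | e | e <;> rw [e] at hk
    · exact absurd (_root_.conj_eq_one_iff.1 hk.symm ▸ one_mem Z) K.z'_not
    · exact Or.inl hk.symm
    · exact Or.inr hk.symm

/-- An element of `C(t)` fixing `z z'` and exchanging the points. -/
theorem Hyp.exists_swap : ∃ a : G, a ∈ NE J t ∧ a * z * a⁻¹ ∈ zpowers z' ∧ Commute a (z * z') := by
  have hsN := H.s_NE F K
  have hc : Commute z z' := H.J_comm z (H.Z_le_J F K.z_mem) z' K.z'_mem.1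
  have hk : s * z' * s⁻¹ = z ∨ s * z' * s⁻¹ = z⁻¹ := by
    have h := K.s_z'
    rw [← H.Z_eq_zpowers F K] at h
    obtain ⟨k, hk⟩ := mem_zpowers_iff.1 h
    rcases order_three (H.z_cube F K) k with e | e | e <;> rw [e] at hk
    · exact absurd (_root_.conj_eq_one_iff.1 hk.symm ▸ one_mem Z) K.z'_not
    · exact Or.inl hk.symm
    · exact Or.inr hk.symm
  rcases hk with h | h
  · refine ⟨s, hsN, by rw [K.s_z]; exact mem_zpowers z', mul_inv_eq_iff_eq_mul.1 ?_⟩
    rw [show s * (z * z') * s⁻¹ = (s * z * s⁻¹) * (s * z' * s⁻¹) by group, K.s_z, h, hc.eq]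
  · obtain ⟨b, -, -, -, hbN, hbz, hbz'⟩ := H.exists_b F K
    refine ⟨b * s, mul_mem hbN hsN, ?_, mul_inv_eq_iff_eq_mul.1 ?_⟩
    · rw [show b * s * z * (b * s)⁻¹ = b * (s * z * s⁻¹) * b⁻¹ by group, K.s_z, hbz']
      exact mem_zpowers z'
    · rw [show b * s * (z * z') * (b * s)⁻¹ = (b * (s * z * s⁻¹) * b⁻¹) * (b * (s * z' * s⁻¹) * b⁻¹) by group,
        K.s_z, h, hbz', ← conj_inv, hbz, inv_inv, hc.eq]

/-- `N(E) ∩ N(Z) ∩ C(t)`. -/
abbrev NEz (Z J : Subgroup G) (t : G) : Subgroup G := NE J t ⊓ normalizer (Z : Set G)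

theorem Hyp.card_NE : Nat.card ↥(NE J t) = 8 * Nat.card ↥(CE J t) ∧
    Nat.card ↥(NE J t ⊓ centralizer ({z * z'} : Set G)) = 2 * Nat.card ↥(CE J t) := by
  obtain ⟨b, -, hbt, -, hbN, hbz, hbz'⟩ := H.exists_b F K
  obtain ⟨c, -, hct, -, hcN, hcz, hcz'⟩ := H.exists_c F K
  obtain ⟨a, haN, haz, hay⟩ := H.exists_swap F K
  have hcomm : ∀ {x : G}, x ∈ NE J t → Commute x t := fun hx => mem_centralizer_singleton_iff.1 hx.2
  have haZ : ∀ x : G, x ∈ NE J t → x * z * x⁻¹ ∈ zpowers z' → ¬ x * z * x⁻¹ ∈ Z := by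
    intro x _ h h'
    obtain ⟨k, hk⟩ := mem_zpowers_iff.1 h
    rcases order_three (H.z'_cube F K) k with e | e | e <;> rw [e] at hk
    · exact H.z_ne F K (_root_.conj_eq_one_iff.1 hk.symm)
    · exact K.z'_not (hk ▸ h')
    · exact K.z'_not (by simpa using inv_mem (hk ▸ h' : z'⁻¹ ∈ Z))
  have hswap : ∀ x : G, x ∈ NE J t → x * z * x⁻¹ ∈ zpowers z' → x * z' * x⁻¹ ∈ Z := by
    intro x hx h
    rcases H.point_image F K hx (Or.inr rfl) with h' | h'
    · exact h'
    exfalso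
    haveI : Fact (Nat.Prime 3) := ⟨Nat.prime_three⟩
    have hgen : zpowers (x * z * x⁻¹) = zpowers z' := by
      refine eq_of_le_of_card_ge (zpowers_le.2 h) ?_
      rw [Nat.card_zpowers, Nat.card_zpowers, orderOf_eq_prime (p := 3) (x := x * z * x⁻¹)
        (by rw [conj_pow, H.z_cube F K, mul_one, mul_inv_cancel])
        (fun e => H.z_ne F K (_root_.conj_eq_one_iff.1 e)),
        orderOf_eq_prime (p := 3) (H.z'_cube F K) fun h1 => K.z'_not (h1 ▸ one_mem Z)]
    rw [← hgen] at h'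
    obtain ⟨k, hk⟩ := mem_zpowers_iff.1 h'
    rw [conj_zpow] at hk
    exact K.z'_not (by rw [← mul_left_cancel (mul_right_cancel hk)]; exact zpow_mem K.z_mem k)
  have hnorm : ∀ x : G, x * z * x⁻¹ ∈ Z → x ∈ normalizer (Z : Set G) := by
    intro x hx
    rw [← H.Z_eq_zpowers F K] at hx ⊢
    refine Subgroup.mem_normalizer_fintype fun w hw => ?_
    obtain ⟨k, rfl⟩ := mem_zpowers_iff.1 hw
    rw [SetLike.mem_coe, ← conj_zpow]
    exact zpow_mem hx k
  have hzfix : ∀ x : G, x * z * x⁻¹ = z → x * z * x⁻¹ ∈ Z := fun x h => h.symm ▸ K.z_mem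
  set D := NE J t ⊓ centralizer (Z : Set G)
  have hD : Nat.card ↥D = 2 * Nat.card ↥(CE J t) := by
    refine card_two_index (le_inf (H.CE_le_NE F K) ((H.CE_le_centZt F K).trans inf_le_left))
      (a := c) ⟨hcN, H.mem_cent_Z F K hcz⟩ (fun h => ?_) fun x hx => ?_
    · exact H.inv_ne F K (Or.inr rfl) (hcz'.symm.trans (mul_inv_eq_iff_eq_mul.2
        (mem_centralizer_iff.1 h.1 z' K.z'_mem).symm))
    · have hxz : x * z * x⁻¹ = z := H.conj_Z hx.2 K.z_mem
      rcases H.z'_image F K hx.1 (hzfix x hxz) with h | h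
      · exact Or.inl (H.mem_CE F K (hcomm hx.1) hxz h)
      · refine Or.inr (H.mem_CE F K ((hcomm hx.1).mul_left hct) ?_ ?_)
        · rw [show x * c * z * (x * c)⁻¹ = x * (c * z * c⁻¹) * x⁻¹ by group, hcz, hxz]
        · rw [show x * c * z' * (x * c)⁻¹ = x * (c * z' * c⁻¹) * x⁻¹ by group, hcz', ← conj_inv, h, inv_inv]
  have hN : Nat.card ↥(NEz Z J t) = 2 * Nat.card ↥D := by
    refine card_two_index (inf_le_inf_left _ H.cent_le) (a := b) ⟨hbN, H.mem_norm_Z F K hbz⟩ (fun h => ?_)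
      fun x hx => ?_
    · exact H.inv_ne F K (Or.inl rfl) (hbz.symm.trans (H.conj_Z h.2 K.z_mem))
    · rcases H.norm_Z_cases F K hx.2 with h | h
      · exact Or.inl ⟨hx.1, H.mem_cent_Z F K h⟩
      · refine Or.inr ⟨mul_mem hx.1 hbN, H.mem_cent_Z F K ?_⟩
        rw [show x * b * z * (x * b)⁻¹ = x * (b * z * b⁻¹) * x⁻¹ by group, hbz, ← conj_inv, h, inv_inv]
  have hAll : Nat.card ↥(NE J t) = 2 * Nat.card ↥(NEz Z J t) := by
    refine card_two_index inf_le_left (a := a) haN (fun h => haZ a haN haz ((mem_normalizer_iff.1 h.2 z).1 K.z_mem))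
      fun x hx => ?_
    rcases H.point_image F K hx (Or.inl rfl) with h | h
    · exact Or.inl ⟨hx, hnorm x h⟩
    · refine Or.inr ⟨mul_mem hx haN, hnorm _ ?_⟩
      obtain ⟨k, hk⟩ := mem_zpowers_iff.1 haz
      rw [show x * a * z * (x * a)⁻¹ = x * (a * z * a⁻¹) * x⁻¹ by group, ← hk, ← conj_zpow]
      exact zpow_mem (hswap x hx h) k
  refine ⟨by omega, ?_⟩
  have hfix : ∀ x : G, x ∈ NE J t → Commute x (z * z') → x * z * x⁻¹ ∈ Z → x ∈ CE J t := by
    intro x hx hxy hxz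
    have h1 : (x * z * x⁻¹) * (x * z' * x⁻¹) = z * z' := by
      rw [show x * z * x⁻¹ * (x * z' * x⁻¹) = x * (z * z') * x⁻¹ by group, hxy.eq, mul_inv_cancel_right]
    have hzw := hxz
    rw [← H.Z_eq_zpowers F K] at hzw
    obtain ⟨k, hk⟩ := mem_zpowers_iff.1 hzw
    rcases H.z'_image F K hx hxz with h | h
    · rw [h] at h1
      exact H.mem_CE F K (hcomm hx) (mul_right_cancel h1) h
    · exfalso
      rw [h, mul_inv_eq_iff_eq_mul] at h1
      refine K.z'_not ?_
      have hm : z⁻¹ * (x * z * x⁻¹) ∈ Z := mul_mem (inv_mem K.z_mem) hxz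
      rw [h1, mul_assoc, inv_mul_cancel_left] at hm
      have h3 := inv_mem hm
      rwa [mul_inv_rev, show z'⁻¹ * z'⁻¹ = z' from by
        rw [← mul_inv_rev]; exact inv_eq_of_mul_eq_one_right (by rw [← pow_two, ← pow_succ, H.z'_cube F K])] at h3
  refine card_two_index (le_inf (H.CE_le_NE F K) fun x hx => ?_) (a := a)
    ⟨haN, mem_centralizer_singleton_iff.2 hay.eq⟩ (fun h => ?_) fun x hx => ?_
  · refine mem_centralizer_singleton_iff.2 ?_
    exact ((mem_centralizer_iff.1 hx.1 (z * z') (mul_mem (H.Z_le_Ej F K.z_mem) K.z'_mem))).symm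
  · exact haZ a haN haz (hzfix a (H.conj_Z ((H.CE_le_centZt F K) h).1 K.z_mem))
  · have hxy : Commute x (z * z') := mem_centralizer_singleton_iff.1 hx.2
    rcases H.point_image F K hx.1 (Or.inl rfl) with h | h
    · exact Or.inl (hfix x hx.1 hxy h)
    · refine Or.inr (hfix _ (mul_mem hx.1 haN) (hxy.mul_left hay) ?_)
      obtain ⟨k, hk⟩ := mem_zpowers_iff.1 haz
      rw [show x * a * z * (x * a)⁻¹ = x * (a * z * a⁻¹) * x⁻¹ by group, ← hk, ← conj_zpow]
      exact zpow_mem (hswap x hx.1 h) k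

/-- `C(E) ∩ C(t)` has order 18 or 36. -/
theorem Hyp.card_CE : (Nat.card ↥(centZt Z t) = 360 → Nat.card ↥(CE J t) = 18) ∧
    (Nat.card ↥(centZt Z t) = 720 → Nat.card ↥(CE J t) = 36) := by
  classical
  obtain ⟨φ, hker, htop, hsgn⟩ := H.exists_shape F K
  have hzN : z ∈ normZt Z t := ⟨le_normalizer K.z_mem, (H.Z_le_Ej F K.z_mem).2⟩
  have hz'N : z' ∈ normZt Z t := ⟨H.L_le (H.z'_L F K), K.z'_mem.2⟩
  set a := φ ⟨z, hzN⟩ with ha
  set w := φ ⟨z', hz'N⟩ with hw
  have h3 : ∀ {x : G} (hx : x ∈ normZt Z t), x ^ 3 = 1 → φ ⟨x, hx⟩ ^ 3 = 1 := fun hx h => by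
    rw [← map_pow, show (⟨_, hx⟩ : ↥(normZt Z t)) ^ 3 = 1 from Subtype.ext h, map_one]
  have hne : ∀ {x : G} (hx : x ∈ normZt Z t), x ^ 3 = 1 → x ≠ 1 → φ ⟨x, hx⟩ ≠ 1 := by
    intro x hx h1 h2 h
    obtain ⟨i, hi⟩ := mem_zpowers_iff.1 ((hker _).1 h)
    have h' : t ^ (2 : ℤ) = 1 := by rw [zpow_two]; exact H.tt F K
    rw [zpow_eq_zpow_emod i h'] at hi
    rcases Int.emod_two_eq_zero_or_one i with e | e <;> rw [e] at hi
    · exact h2 (by rw [← zpow_zero t]; exact hi.symm)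
    · rw [zpow_one] at hi
      subst hi
      have hd := orderOf_dvd_of_pow_eq_one h1
      rw [F.t_two] at hd
      norm_num at hd
  -- `z` generates the first factor, `z'` lies in both
  have hnorm : ∀ g : ↥(normZt Z t), φ g * a * (φ g)⁻¹ = a ∨ φ g * a * (φ g)⁻¹ = a⁻¹ := by
    intro g
    rw [ha, ← map_inv, ← map_inv, ← map_mul, ← map_mul]
    rcases H.norm_Z_cases F K g.2.1 with h | h
    · exact Or.inl (congrArg φ (Subtype.ext h))
    · exact Or.inr (congrArg φ (Subtype.ext h))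
  have hrange : ∀ p : Equiv.Perm (Fin 3) × Equiv.Perm (Fin 5),
      Equiv.Perm.sign p.1 * Equiv.Perm.sign p.2 = 1 → p ∈ φ.range := by
    intro p hp
    rcases H.card_centZt F with ⟨hc, -⟩ | ⟨hc, -⟩
    · rw [hsgn hc]; exact hp
    · rw [MonoidHom.range_eq_top.2 (htop hc)]; exact mem_top _
  have ha2 : a.2 = 1 := by
    by_contra hne2
    have h5 : a.2 ^ 3 = 1 := congrArg Prod.snd (h3 hzN (H.z_cube F K))
    obtain ⟨v, hv, hv1, hv2⟩ := moved_five a.2 h5 hne2
    obtain ⟨g, hg⟩ := hrange ((1, v) : Equiv.Perm (Fin 3) × Equiv.Perm (Fin 5)) (by simp [hv])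
    rcases hnorm g with h | h <;> rw [hg] at h
    · exact hv1 (congrArg Prod.snd h)
    · exact hv2 (congrArg Prod.snd h)
  have ha1 : a.1 ≠ 1 := fun h => hne hzN (H.z_cube F K) (H.z_ne F K) (Prod.ext h ha2)
  have hw1 : w.2 ≠ 1 := by
    intro h
    have h31 : a.1 ^ 3 = 1 := congrArg Prod.fst (h3 hzN (H.z_cube F K))
    have h32 : w.1 ^ 3 = 1 := congrArg Prod.fst (h3 hz'N (H.z'_cube F K))
    have hkey : ∀ u : G, ∀ hu : u ∈ normZt Z t, u ∈ Z → φ ⟨u, hu⟩ = w → False := by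
      intro u hu huZ he
      have h1 : φ ⟨z' * u⁻¹, mul_mem hz'N (inv_mem hu)⟩ = 1 := by
        rw [show (⟨z' * u⁻¹, _⟩ : ↥(normZt Z t)) = ⟨z', hz'N⟩ * ⟨u, hu⟩⁻¹ from rfl, map_mul, map_inv, he, ← hw,
          mul_inv_cancel]
      have h3' : (z' * u⁻¹) ^ 3 = 1 := by
        have hc : Commute z' u⁻¹ := Commute.inv_right (H.J_comm z' K.z'_mem.1 u (H.Z_le_J F huZ))
        rw [hc.mul_pow, H.z'_cube F K, inv_pow, H.Q_exp u (H.Z_le_Q huZ), inv_one, one_mul]
      refine hne (mul_mem hz'N (inv_mem hu)) h3' (fun e => K.z'_not ?_) h1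
      rw [mul_inv_eq_one.1 e]; exact huZ
    rcases powers_three a.1 w.1 h31 ha1 h32 with e | e | e
    · exact hkey 1 (one_mem _) (one_mem _) ((map_one φ).trans (Prod.ext e.symm h.symm))
    · exact hkey z hzN K.z_mem (Prod.ext e.symm (ha2.trans h.symm))
    · refine hkey z⁻¹ (inv_mem hzN) (inv_mem K.z_mem) ?_
      rw [show (⟨z⁻¹, inv_mem hzN⟩ : ↥(normZt Z t)) = ⟨z, hzN⟩⁻¹ from rfl, map_inv, ← ha]
      exact Prod.ext e.symm (by rw [Prod.snd_inv, ha2, inv_one, h])
  have hCN : CE J t ≤ normZt Z t := (H.CE_le_centZt F K).trans (H.centZt_le F)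
  have hmem : ∀ g : ↥(normZt Z t), (g : G) ∈ CE J t ↔ φ g * a = a * φ g ∧ φ g * w = w * φ g := by
    intro g
    constructor
    · intro h
      constructor <;> rw [← map_mul, ← map_mul] <;> refine congrArg φ (Subtype.ext ?_)
      · exact (mem_centralizer_iff.1 h.1 z (H.Z_le_Ej F K.z_mem)).symm
      · exact (mem_centralizer_iff.1 h.1 z' K.z'_mem).symm
    · rintro ⟨h1, h2⟩
      have key : ∀ {x : G} (hx : x ∈ normZt Z t), x ^ 3 = 1 → Commute x t →
          φ g * φ ⟨x, hx⟩ = φ ⟨x, hx⟩ * φ g → (g : G) * x * (g : G)⁻¹ = x := by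
        intro x hx hx3 hxt he
        have h1' : φ (⟨x, hx⟩⁻¹ * (g * ⟨x, hx⟩ * g⁻¹)) = 1 := by
          rw [map_mul, map_inv, map_mul, map_mul, map_inv, he, mul_inv_cancel_right, inv_mul_cancel]
        obtain ⟨i, hi⟩ := mem_zpowers_iff.1 ((hker _).1 h1')
        have h' : t ^ (2 : ℤ) = 1 := by rw [zpow_two]; exact H.tt F K
        rw [zpow_eq_zpow_emod i h'] at hi
        rcases Int.emod_two_eq_zero_or_one i with e | e <;> rw [e] at hi
        · exact (inv_mul_eq_one.1 (show x⁻¹ * ((g : G) * x * (g : G)⁻¹) = 1 by rw [← zpow_zero t]; exact hi.symm)).symm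
        · exfalso
          rw [zpow_one] at hi
          have he2 : (g : G) * x * (g : G)⁻¹ = x * t := (inv_mul_eq_iff_eq_mul.1 hi.symm)
          have h3' : (x * t) ^ 3 = 1 := by rw [← he2, conj_pow, hx3, mul_one, mul_inv_cancel]
          rw [hxt.mul_pow, hx3, one_mul] at h3'
          have hd := orderOf_dvd_of_pow_eq_one h3'
          rw [F.t_two] at hd
          norm_num at hd
      exact H.mem_CE F K (mem_centralizer_singleton_iff.1 g.2.2)
        (key hzN (H.z_cube F K) (mem_centralizer_singleton_iff.1 hzN.2) h1)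
        (key hz'N (H.z'_cube F K) (mem_centralizer_singleton_iff.1 hz'N.2) h2)
  -- the image
  set T := Finset.univ.filter fun p : Equiv.Perm (Fin 3) × Equiv.Perm (Fin 5) =>
    p ∈ φ.range ∧ p * a = a * p ∧ p * w = w * p
  set ψ := φ.comp ((CE J t).subgroupOf (normZt Z t)).subtype
  have hψk : Nat.card ↥ψ.ker = 2 := by
    refine Eq.trans ?_ ((Nat.card_zpowers t).trans F.t_two)
    have htC : t ∈ CE J t := ⟨mem_centralizer_iff.2 fun e he => mem_centralizer_singleton_iff.1 he.2,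
      mem_centralizer_singleton_iff.2 rfl⟩
    refine Nat.card_congr
      { toFun := fun x => ⟨((x : ↥((CE J t).subgroupOf (normZt Z t))) : G), (hker _).1 x.2⟩
        invFun := fun y => ⟨⟨⟨y, hCN (zpowers_le.2 htC y.2)⟩, mem_subgroupOf.2 (zpowers_le.2 htC y.2)⟩, (hker _).2 y.2⟩
        left_inv := fun x => rfl
        right_inv := fun y => rfl }
  have hψr : Nat.card ↥ψ.range = T.card := by
    rw [← Nat.card_eq_finsetCard T]
    refine Nat.card_congr (Equiv.subtypeEquivRight fun p => ?_)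
    simp only [T, Finset.mem_filter, Finset.mem_univ, true_and]
    constructor
    · rintro ⟨g, rfl⟩
      exact ⟨⟨(g : ↥(normZt Z t)), rfl⟩, (hmem (g : ↥(normZt Z t))).1 (mem_subgroupOf.1 g.2)⟩
    · rintro ⟨⟨g, rfl⟩, hp⟩
      exact ⟨⟨g, mem_subgroupOf.2 ((hmem g).2 hp)⟩, rfl⟩
  have hCEcard : Nat.card ↥(CE J t) = 2 * T.card := by
    have h := ψ.ker.card_mul_index
    rw [index_ker, hψk, hψr, Nat.card_congr (subgroupOfEquivOfLe hCN).toEquiv] at h
    omega
  obtain ⟨c31, c32⟩ := cent_count_three a.1 (congrArg Prod.fst (h3 hzN (H.z_cube F K))) ha1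
  obtain ⟨c51, c52⟩ := cent_count_five w.2 (congrArg Prod.snd (h3 hz'N (H.z'_cube F K))) hw1
  have hwa : w.1 * a.1 = a.1 * w.1 := congrArg Prod.fst
    ((hmem ⟨z', hz'N⟩).1 ⟨mem_centralizer_iff.2 fun e he => (H.J_comm z' K.z'_mem.1 e he.1).symm, K.z'_mem.2⟩).1
  have hab := even_three_comm
  constructor <;> intro hc
  · have hT : T = (Finset.univ.filter fun p : Equiv.Perm (Fin 3) => p * a.1 = a.1 * p) ×ˢ
        (Finset.univ.filter fun p : Equiv.Perm (Fin 5) => p * w.2 = w.2 * p ∧ Equiv.Perm.sign p = 1) := by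
      ext ⟨x, y⟩
      simp only [T, Finset.mem_filter, Finset.mem_univ, true_and, Finset.mem_product]
      rw [hsgn hc]
      constructor
      · rintro ⟨hs, h1, h2⟩
        have hx : x * a.1 = a.1 * x := congrArg Prod.fst h1
        refine ⟨hx, congrArg Prod.snd h2, ?_⟩
        have hs' : Equiv.Perm.sign x * Equiv.Perm.sign y = 1 := hs
        rwa [c32 x hx, one_mul] at hs'
      · rintro ⟨hx, hy, hy'⟩
        refine ⟨show Equiv.Perm.sign x * Equiv.Perm.sign y = 1 by rw [c32 x hx, hy', one_mul],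
          Prod.ext hx (by simp [ha2]), Prod.ext (hab x w.1 (c32 x hx) (c32 w.1 hwa)) hy⟩
    rw [hCEcard, hT, Finset.card_product, c31, c52]
  · have hT : T = (Finset.univ.filter fun p : Equiv.Perm (Fin 3) => p * a.1 = a.1 * p) ×ˢ
        (Finset.univ.filter fun p : Equiv.Perm (Fin 5) => p * w.2 = w.2 * p) := by
      ext ⟨x, y⟩
      simp only [T, Finset.mem_filter, Finset.mem_univ, true_and, Finset.mem_product]
      constructor
      · rintro ⟨-, h1, h2⟩
        exact ⟨congrArg Prod.fst h1, congrArg Prod.snd h2⟩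
      · rintro ⟨hx, hy⟩
        exact ⟨htop hc (x, y), Prod.ext hx (by simp [ha2]),
          Prod.ext (hab x w.1 (c32 x hx) (c32 w.1 hwa)) hy⟩
    rw [hCEcard, hT, Finset.card_product, c31, c51]

end Cfsg.Agent.McLThree
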