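import Cfsg.Agent.Lib.McLThree.BarIso

/-!
# The exceptional configuration does not occur

In the exception the derived groups of `L₀ ∩ C(t)` and of its conjugate under `s` would lie over the two
factors, hence commute, against `no_comm`.
-/

set_option autoImplicit false
set_option linter.unusedSectionVars false
set_option linter.style.haveILetI false
set_option maxRecDepth 100000

namespace Cfsg.Agent.McLThree

open Subgroup Cfsg
open scoped commutatorElement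

universe u

theorem five_cent : ∀ a : alternatingGroup (Fin 5), a ^ 3 = 1 → a ≠ 1 →
    ∀ b : alternatingGroup (Fin 5), b * a = a * b → b = 1 ∨ b = a ∨ b = a⁻¹ := by
  decide +kernel

theorem five_comm (a : alternatingGroup (Fin 5)) (h3 : a ^ 3 = 1) (h1 : a ≠ 1)
    (b c : alternatingGroup (Fin 5)) (hb : b * a = a * b) (hc : c * a = a * c) :
    (b * c = c * b) ∧ (b ^ 3 = 1 → b = 1 ∨ b = a ∨ b = a⁻¹) := by
  refine ⟨?_, fun _ => five_cent a h3 h1 b hb⟩
  rcases five_cent a h3 h1 b hb with rfl | rfl | rfl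
  · rw [one_mul, mul_one]
  · exact hc.symm
  · exact ((show Commute c a from hc).inv_right).eq.symm

/-- A diagonal element. -/
def diag5 : SL5 := ⟨!![2, 0; 0, 3], by decide +kernel⟩

/-- An upper and a lower unitriangular element. -/
def upp5 : SL5 := ⟨!![1, 2; 0, 1], by decide +kernel⟩

/-- A lower unitriangular element. -/
def low5 : SL5 := ⟨!![1, 0; 2, 1], by decide +kernel⟩

theorem five_four_comm : diag5 * upp5 * diag5⁻¹ * upp5⁻¹ = five5 ∧
    five5 ^ 4 * (diag5 * low5 * diag5⁻¹ * low5⁻¹) * five5 ^ 4 = four5 := by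
  decide +kernel

theorem SL5_perfect : commutator SL5 = ⊤ := by
  obtain ⟨h5, h4⟩ := five_four_comm
  have h5' : five5 ∈ commutator SL5 := by
    rw [← h5, ← commutatorElement_def]; exact commutator_mem_commutator (mem_top _) (mem_top _)
  have h4' : four5 ∈ commutator SL5 := by
    rw [← h4, ← commutatorElement_def]
    exact mul_mem (mul_mem (pow_mem h5' 4) (commutator_mem_commutator (mem_top _) (mem_top _))) (pow_mem h5' 4)
  refine eq_top_iff.2 fun σ _ => ?_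
  obtain ⟨i, j, k, l, rfl⟩ := gen_word σ
  repeat' apply mul_mem
  all_goals first
    | exact pow_mem h5' _
    | exact h4'

/-- Two perfect-like subgroups commuting modulo a central subgroup commute on derived groups. -/
theorem comm_derived {G : Type u} [Group G] {T W V : Subgroup G} (hT : ∀ τ ∈ T, ∀ g ∈ W, g * τ = τ * g)
    (hTc : ∀ a ∈ T, ∀ b ∈ T, a * b = b * a) (hTV : ∀ τ ∈ T, ∀ g ∈ V, g * τ = τ * g)
    (h : ∀ g ∈ W, ∀ v ∈ V, g * v * g⁻¹ * v⁻¹ ∈ T) {g v : G} (hg : g ∈ ⁅W, W⁆) (hv : v ∈ V) : g * v = v * g := by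
  have key : ∀ a ∈ W, ∀ b ∈ W,
      a * b * v * (a * b)⁻¹ * v⁻¹ = (a * v * a⁻¹ * v⁻¹) * (b * v * b⁻¹ * v⁻¹) := by
    intro a ha b hb
    have h1 := hT _ (h b hb v hv) a ha
    rw [show a * b * v * (a * b)⁻¹ * v⁻¹ = a * (b * v * b⁻¹ * v⁻¹) * a⁻¹ * (a * v * a⁻¹ * v⁻¹) by group, h1,
      mul_inv_cancel_right]
    exact hTc _ (h b hb v hv) _ (h a ha v hv)
  have hinv : ∀ a ∈ W, a⁻¹ * v * a⁻¹⁻¹ * v⁻¹ = (a * v * a⁻¹ * v⁻¹)⁻¹ := fun a ha => by
    refine eq_inv_of_mul_eq_one_left ?_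
    rw [← key a⁻¹ (inv_mem ha) a ha]; group
  suffices hle : ⁅W, W⁆ ≤ centralizer ({v} : Set G) from mem_centralizer_singleton_iff.1 (hle hg)
  rw [commutator_le]
  intro a ha b hb
  rw [mem_centralizer_singleton_iff]
  refine mul_inv_eq_iff_eq_mul.1 (mul_inv_eq_one.1 ?_)
  rw [commutatorElement_def, key (a * b * a⁻¹) (mul_mem (mul_mem ha hb) (inv_mem ha)) b⁻¹ (inv_mem hb),
    key (a * b) (mul_mem ha hb) a⁻¹ (inv_mem ha), key a ha b hb, hinv a ha, hinv b hb]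
  rw [hTc _ (h a ha v hv) _ (h b hb v hv)]
  group

variable {G : Type u} [Group G] [Finite G] {S : Sylow 3 G} {Z J M₀ L₀ Q : Subgroup G}
  (H : Hyp S Z J M₀ L₀ Q) {π : ↥L₀ →* SL5} {t f : G} (F : Frame Q L₀ π t f)
  {s z z' : G} (K : JSide Z J L₀ t s z z')
include H F K

/-- `L₀ ∩ C(t)`, and its derived groups. -/
abbrev Wt (L₀ : Subgroup G) (t : G) : Subgroup G := L₀ ⊓ centralizer ({t} : Set G)

theorem Hyp.second_derived_map :
    ∀ σ : SL5, ∃ g : ↥L₀, (g : G) ∈ ⁅⁅Wt L₀ t, Wt L₀ t⁆, ⁅Wt L₀ t, Wt L₀ t⁆⁆ ∧ π g = σ := by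
  set W := (Wt L₀ t).subgroupOf L₀
  have h0 : W.map π = ⊤ := eq_top_iff.2 fun σ _ => by
    obtain ⟨c, hc, hct⟩ := F.lift σ
    exact ⟨c, mem_subgroupOf.2 ⟨c.2, mem_centralizer_singleton_iff.2 hct.eq⟩, hc⟩
  have h2 : (⁅⁅W, W⁆, ⁅W, W⁆⁆ : Subgroup ↥L₀).map π = ⊤ := by
    rw [map_commutator, map_commutator, h0, ← _root_.commutator_def, SL5_perfect, ← _root_.commutator_def,
      SL5_perfect]
  have hWm : W.map L₀.subtype = Wt L₀ t := map_subgroupOf_eq_of_le inf_le_left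
  intro σ
  obtain ⟨g, hg, hge⟩ := (h2.ge (mem_top σ) : σ ∈ (⁅⁅W, W⁆, ⁅W, W⁆⁆ : Subgroup ↥L₀).map π)
  refine ⟨g, ?_, hge⟩
  rw [← hWm, ← map_commutator, ← map_commutator]
  exact ⟨g, hg, rfl⟩

theorem Hyp.third_derived :
    ∀ σ : SL5, ∃ g : ↥L₀, (g : G) ∈ ⁅⁅⁅Wt L₀ t, Wt L₀ t⁆, ⁅Wt L₀ t, Wt L₀ t⁆⁆, ⁅⁅Wt L₀ t, Wt L₀ t⁆, ⁅Wt L₀ t, Wt L₀ t⁆⁆⁆ ∧
      π g = σ := by
  set W := (Wt L₀ t).subgroupOf L₀
  have h0 : W.map π = ⊤ := eq_top_iff.2 fun σ _ => by
    obtain ⟨c, hc, hct⟩ := F.lift σ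
    exact ⟨c, mem_subgroupOf.2 ⟨c.2, mem_centralizer_singleton_iff.2 hct.eq⟩, hc⟩
  have h3 : (⁅⁅⁅W, W⁆, ⁅W, W⁆⁆, ⁅⁅W, W⁆, ⁅W, W⁆⁆⁆ : Subgroup ↥L₀).map π = ⊤ := by
    rw [map_commutator, map_commutator, map_commutator, h0, ← _root_.commutator_def, SL5_perfect,
      ← _root_.commutator_def, SL5_perfect, ← _root_.commutator_def, SL5_perfect]
  have hWm : W.map L₀.subtype = Wt L₀ t := map_subgroupOf_eq_of_le inf_le_left
  intro σ
  obtain ⟨g, hg, hge⟩ := (h3.ge (mem_top σ) :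
    σ ∈ (⁅⁅⁅W, W⁆, ⁅W, W⁆⁆, ⁅⁅W, W⁆, ⁅W, W⁆⁆⁆ : Subgroup ↥L₀).map π)
  refine ⟨g, ?_, hge⟩
  rw [← hWm, ← map_commutator, ← map_commutator, ← map_commutator]
  exact ⟨g, hg, rfl⟩

theorem Hyp.four_mem_derived {x : G} (hxL : x ∈ L₀) (hxt : Commute x t) (hx4 : x * x = t) :
    x ∈ ⁅⁅Wt L₀ t, Wt L₀ t⁆, ⁅Wt L₀ t, Wt L₀ t⁆⁆ := by
  obtain ⟨g, hg, hge⟩ := H.second_derived_map F K (π ⟨x, hxL⟩)
  set D := ⁅⁅Wt L₀ t, Wt L₀ t⁆, ⁅Wt L₀ t, Wt L₀ t⁆⁆
  have hDW : D ≤ Wt L₀ t := (commutator_le_self _).trans (commutator_le_self _)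
  set w : G := x⁻¹ * (g : G)
  have hwQ : w ∈ Q := by
    have : w = ((⟨x, hxL⟩⁻¹ * g : ↥L₀) : G) := rfl
    rw [this, ← F.ker, map_mul, map_inv, hge, inv_mul_cancel]
  have hwZ : w ∈ Z := H.eq_Z_of_t F hwQ (hxt.inv_left.mul_left (mem_centralizer_singleton_iff.1 (hDW hg).2)).symm
  have hxw : Commute x w := (mem_centralizer_iff.1 (H.L_le_cent hxL) w hwZ).symm
  have h9 : (g : G) ^ 9 = x := by
    rw [show (g : G) = x * w by simp [w], hxw.mul_pow, show 9 = 3 * 3 by rfl, pow_mul w, H.Q_exp w hwQ, one_pow,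
      mul_one, show 3 * 3 = 2 * 2 * 2 + 1 by rfl, pow_succ, pow_mul, pow_mul, pow_two x, hx4]
    simp [pow_two, H.tt F K]
  exact h9 ▸ pow_mem hg 9

/-- The exceptional configuration is impossible. -/
theorem Hyp.no_exception :
    ¬ ∃ N : Subgroup (Bar t), N.Normal ∧ Nonempty (N ≃* alternatingGroup (Fin 5) × alternatingGroup (Fin 5)) ∧
      N.index = 4 ∧ ∀ g : Bar t, g ^ 2 ∈ N := by
  rintro ⟨N, hN, ⟨ι⟩, -, hsq⟩
  obtain ⟨c, hcL, hct, hcc, hcN, hcz, hcz'⟩ := H.exists_c F K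
  obtain ⟨b, hbL, hbt, hbb, hbN, hbz, hbz'⟩ := H.exists_b F K
  set Ct := centralizer ({t} : Set G)
  set W0 := Wt L₀ t
  set V0 : Subgroup G := W0.map (MulAut.conj s).toMonoidHom
  have hWC : W0 ≤ Ct := inf_le_right
  have hVC : V0 ≤ Ct := by
    rintro _ ⟨w, hw, rfl⟩
    exact mem_centralizer_singleton_iff.2 ((K.s_t.mul_left (mem_centralizer_singleton_iff.1 hw.2)).mul_left K.s_t.inv_left).eq
  -- odd elements and commutators of `C(t)` land in `N`
  have hthree : ∀ x : ↥Ct, (x : G) ^ 3 = 1 → barMap t x ∈ N := fun x hx => by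
    have h := mul_mem (hsq (barMap t x ^ 2)) (one_mem N)
    rw [mul_one, ← pow_mul, ← map_pow, show x ^ (2 * 2) = x from Subtype.ext (by
      show (x : G) ^ (2 * 2) = x
      rw [show 2 * 2 = 3 + 1 by rfl, pow_succ, hx, one_mul])] at h
    exact h
  have hNcomm : ∀ a b : Bar t, ⁅a, b⁆ ∈ N := by
    intro a b
    have e : ⁅a, b⁆ = (a * b) ^ 2 * (b⁻¹ * ((a⁻¹) ^ 2) * b) * (b⁻¹) ^ 2 := by
      simp only [commutatorElement_def, pow_two]; group
    rw [e]
    refine mul_mem (mul_mem (hsq _) ?_) (hsq _)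
    have := hN.conj_mem _ (hsq a⁻¹) b⁻¹
    rwa [inv_inv] at this
  set A5' := alternatingGroup (Fin 5)
  set zb := barMap t (H.zC F K)
  set wC : ↥Ct := ⟨z', K.z'_mem.2⟩
  set wb := barMap t wC
  have hzN : zb ∈ N := hthree _ (H.z_cube F K)
  have hwN : wb ∈ N := hthree _ (H.z'_cube F K)
  set z12 := ι ⟨zb, hzN⟩ with hz12
  set w12 := ι ⟨wb, hwN⟩ with hw12
  have hbar1 : ∀ x : ↥Ct, (x : G) ^ 3 = 1 → barMap t x = 1 → (x : G) = 1 := fun x hx h => by
    have h' := (barMap_eq_iff (H.tt F K) 1 x).1 (by rw [h, map_one])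
    exact eq_of_three F.t_two (one_pow 3) hx (Commute.one_left t) h'
  have hpow3 : ∀ {x : ↥Ct} (hx : (x : G) ^ 3 = 1) (hxN : barMap t x ∈ N), ι ⟨barMap t x, hxN⟩ ^ 3 = 1 :=
    fun {x} hx hxN => by
    rw [← map_pow, show (⟨barMap t x, hxN⟩ : ↥N) ^ 3 = 1 from Subtype.ext (by
      show barMap t x ^ 3 = 1
      rw [← map_pow, show x ^ 3 = 1 from Subtype.ext hx, map_one]), map_one]
  have hz3 : z12 ^ 3 = 1 := hpow3 (H.z_cube F K) hzN
  have hw3 : w12 ^ 3 = 1 := hpow3 (H.z'_cube F K) hwN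
  have hz12ne : z12 ≠ 1 := fun h => H.z_ne F K (hbar1 _ (H.z_cube F K)
    (congrArg Subtype.val (ι.injective (h.trans (map_one ι).symm))))
  have hw12ne : w12 ≠ 1 := fun h => by
    have e : z' = 1 := hbar1 wC (H.z'_cube F K)
      (congrArg Subtype.val (ι.injective (h.trans (map_one ι).symm)))
    exact K.z'_not (e ▸ one_mem Z)
  -- derived groups, as sets of pairs
  set W1 := ⁅W0, W0⁆
  set V1 := ⁅V0, V0⁆
  have hW1 : W1 ≤ W0 := commutator_le_self _
  have hV1 : V1 ≤ V0 := commutator_le_self _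
  have hWN : ∀ g : G, g ∈ W1 → ∀ hg : g ∈ Ct, barMap t ⟨g, hg⟩ ∈ N := by
    intro g hg1 hg
    have hle : W1 ≤ ((N.comap (barMap t)).map Ct.subtype) := by
      rw [commutator_le]
      intro a ha b hb
      exact ⟨⁅(⟨a, hWC ha⟩ : ↥Ct), ⟨b, hWC hb⟩⁆, by rw [SetLike.mem_coe, mem_comap, map_commutatorElement]; exact hNcomm _ _, rfl⟩
    obtain ⟨x, hx, hxe⟩ := hle hg1
    rw [show (⟨g, hg⟩ : ↥Ct) = x from Subtype.ext hxe.symm]
    exact hx
  have hVN : ∀ g : G, g ∈ V1 → ∀ hg : g ∈ Ct, barMap t ⟨g, hg⟩ ∈ N := by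
    intro g hg1 hg
    have hle : V1 ≤ ((N.comap (barMap t)).map Ct.subtype) := by
      rw [commutator_le]
      intro a ha b hb
      exact ⟨⁅(⟨a, hVC ha⟩ : ↥Ct), ⟨b, hVC hb⟩⁆, by rw [SetLike.mem_coe, mem_comap, map_commutatorElement]; exact hNcomm _ _, rfl⟩
    obtain ⟨x, hx, hxe⟩ := hle hg1
    rw [show (⟨g, hg⟩ : ↥Ct) = x from Subtype.ext hxe.symm]
    exact hx
  -- the projections of the derived groups
  let pr : Bool → A5' × A5' →* A5' := fun i => bif i then MonoidHom.fst A5' A5' else MonoidHom.snd A5' A5'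
  have hkill : ∀ (i : Bool) (U : Subgroup G) (hUC : U ≤ Ct) (hUN : ∀ g : G, g ∈ U → ∀ hg : g ∈ Ct, barMap t ⟨g, hg⟩ ∈ N)
      (x : ↥Ct) (hxN : barMap t x ∈ N) (hx3 : ι ⟨barMap t x, hxN⟩ ^ 3 = 1)
      (hUx : ∀ g ∈ U, g * (x : G) = (x : G) * g) (hne : pr i (ι ⟨barMap t x, hxN⟩) ≠ 1)
      (g : G) (hg : g ∈ ⁅U, U⁆) (hgC : g ∈ Ct) (hgN : barMap t ⟨g, hgC⟩ ∈ N),
      pr i (ι ⟨_, hgN⟩) = 1 := by
    intro i U hUC hUN x hxN hx3 hUx hne g hg hgC hgN
    let ψ : ↥U →* A5' := (pr i).comp (ι.toMonoidHom.comp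
      (((barMap t).comp (Subgroup.inclusion hUC)).codRestrict N fun u => hUN u u.2 (hUC u.2)))
    have hcent : ∀ u : ↥U, ψ u * pr i (ι ⟨barMap t x, hxN⟩) = pr i (ι ⟨barMap t x, hxN⟩) * ψ u := by
      intro u
      show pr i (ι ⟨barMap t (Subgroup.inclusion hUC u), hUN u u.2 (hUC u.2)⟩) * _ = _ *
        pr i (ι ⟨barMap t (Subgroup.inclusion hUC u), hUN u u.2 (hUC u.2)⟩)
      rw [← map_mul, ← map_mul, ← map_mul, ← map_mul]
      refine congrArg (fun y => pr i (ι y)) (Subtype.ext ?_)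
      show barMap t _ * barMap t _ = barMap t _ * barMap t _
      rw [← map_mul, ← map_mul]
      exact congrArg (barMap t) (Subtype.ext (hUx u u.2))
    have h3 : pr i (ι ⟨barMap t x, hxN⟩) ^ 3 = 1 := by rw [← map_pow, hx3, map_one]
    have hab : ∀ u v : ↥U, ψ u * ψ v = ψ v * ψ u := fun u v =>
      (five_comm _ h3 hne _ _ (hcent u) (hcent v)).1
    have hle : ⁅U, U⁆ ≤ ψ.ker.map U.subtype := by
      rw [commutator_le]
      intro a ha b hb
      refine ⟨⁅(⟨a, ha⟩ : ↥U), ⟨b, hb⟩⁆, ?_, rfl⟩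
      rw [SetLike.mem_coe, MonoidHom.mem_ker, map_commutatorElement, commutatorElement_eq_one_iff_mul_comm]
      exact hab _ _
    obtain ⟨u, hu, hue⟩ := hle hg
    have hu' : ψ u = 1 := hu
    rw [← hu']
    show pr i (ι ⟨_, hgN⟩) = pr i (ι ⟨barMap t (Subgroup.inclusion hUC u), _⟩)
    refine congrArg (fun y => pr i (ι y)) (Subtype.ext (congrArg (barMap t) (Subtype.ext hue.symm)))
  have hcW : c ∈ ⁅W1, W1⁆ := H.four_mem_derived F K hcL hct hcc
  have hbV : b ∈ ⁅V1, V1⁆ := by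
    have hm : s⁻¹ * b * s ∈ ⁅W1, W1⁆ := by
      refine H.four_mem_derived F K hbL ((K.s_t.inv_left.mul_left hbt).mul_left K.s_t) ?_
      rw [show s⁻¹ * b * s * (s⁻¹ * b * s) = s⁻¹ * (b * b) * s by group, hbb, mul_assoc, ← K.s_t.eq, inv_mul_cancel_left]
    have : b ∈ ⁅W1, W1⁆.map (MulAut.conj s).toMonoidHom := ⟨_, hm, show s * (s⁻¹ * b * s) * s⁻¹ = b by group⟩
    rwa [map_commutator, map_commutator] at this
  -- the centralised elements
  have hW0z : ∀ g ∈ W0, g * z = z * g := fun g hg => (mem_centralizer_iff.1 (H.L_le_cent hg.1) z K.z_mem).symm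
  have hV0w : ∀ g ∈ V0, g * z' = z' * g := by
    rintro _ ⟨w, hw, rfl⟩
    show s * w * s⁻¹ * z' = z' * (s * w * s⁻¹)
    rw [← K.s_z]
    calc s * w * s⁻¹ * (s * z * s⁻¹) = s * (w * z) * s⁻¹ := by group
      _ = s * (z * w) * s⁻¹ := by rw [hW0z w hw]
      _ = _ := by group
  have hW1C : W1 ≤ Ct := hW1.trans hWC
  have hV1C : V1 ≤ Ct := hV1.trans hVC
  set W2 := ⁅W1, W1⁆
  set V2 := ⁅V1, V1⁆
  have hW2 : W2 ≤ W1 := commutator_le_self _
  have hV2 : V2 ≤ V1 := commutator_le_self _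
  have killW : ∀ i, pr i z12 ≠ 1 → ∀ g (hg : g ∈ W2),
      pr i (ι ⟨_, hWN g (hW2 hg) (hW1C (hW2 hg))⟩) = 1 := fun i hi g hg =>
    hkill i W1 hW1C hWN (H.zC F K) hzN hz3 (fun g hg => hW0z g (hW1 hg)) hi g hg _ _
  have killV : ∀ i, pr i w12 ≠ 1 → ∀ g (hg : g ∈ V2),
      pr i (ι ⟨_, hVN g (hV2 hg) (hV1C (hV2 hg))⟩) = 1 := fun i hi g hg =>
    hkill i V1 hV1C hVN wC hwN hw3 (fun g hg => hV0w g (hV1 hg)) hi g hg _ _
  -- one coordinate of each vanishes
  have htC2 : ∀ x : G, ∀ hx : x ∈ Ct, barMap t ⟨x, hx⟩ = 1 → x = 1 ∨ x = t := by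
    intro x hx h
    rcases (barMap_eq_iff (H.tt F K) 1 ⟨x, hx⟩).1 (by rw [h, map_one]) with e | e
    · exact Or.inl e
    · exact Or.inr (by rw [show x = ((1 : ↥Ct) : G) * t from e, Subgroup.coe_one, one_mul])
  have hnot1 : ∀ (x : G), x * x = t → x ≠ 1 ∧ x ≠ t := fun x hx => by
    have ht1 : t ≠ 1 := fun h => by have := F.t_two; rw [h, orderOf_one] at this; omega
    refine ⟨fun h => ht1 ?_, fun h => ht1 ?_⟩
    · rw [← hx, h, mul_one]
    · rw [h, H.tt F K] at hx; exact hx.symm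
  have hnotboth : ∀ {u : A5' × A5'}, u ≠ 1 → (pr true u ≠ 1 ∨ pr false u ≠ 1) := by
    intro u hu
    by_contra hcon
    push Not at hcon
    exact hu (Prod.ext hcon.1 hcon.2)
  have honlyW : ¬ (pr true z12 ≠ 1 ∧ pr false z12 ≠ 1) := fun ⟨h1, h2⟩ => by
    have e : ι ⟨_, hWN c (hW2 hcW) (hW1C (hW2 hcW))⟩ = 1 := Prod.ext (killW true h1 c hcW) (killW false h2 c hcW)
    rcases htC2 c _ (congrArg Subtype.val (ι.injective (e.trans (map_one ι).symm))) with h | h
    · exact (hnot1 c hcc).1 h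
    · exact (hnot1 c hcc).2 h
  have honlyV : ¬ (pr true w12 ≠ 1 ∧ pr false w12 ≠ 1) := fun ⟨h1, h2⟩ => by
    have e : ι ⟨_, hVN b (hV2 hbV) (hV1C (hV2 hbV))⟩ = 1 := Prod.ext (killV true h1 b hbV) (killV false h2 b hbV)
    rcases htC2 b _ (congrArg Subtype.val (ι.injective (e.trans (map_one ι).symm))) with h | h
    · exact (hnot1 b hbb).1 h
    · exact (hnot1 b hbb).2 h
  obtain ⟨i, hzi, hwi⟩ : ∃ i, pr i z12 ≠ 1 ∧ pr (!i) w12 ≠ 1 := by
    have hsame : ∀ i, pr i z12 ≠ 1 → pr i w12 ≠ 1 → False := by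
      intro i hi hi'
      have hz0 : pr (!i) z12 = 1 := by
        by_contra h
        cases i <;> first | exact honlyW ⟨h, hi⟩ | exact honlyW ⟨hi, h⟩
      have hw0 : pr (!i) w12 = 1 := by
        by_contra h
        cases i <;> first | exact honlyV ⟨h, hi'⟩ | exact honlyV ⟨hi', h⟩
      have hcm : pr i w12 * pr i z12 = pr i z12 * pr i w12 := by
        rw [← map_mul, ← map_mul, hz12, hw12, ← map_mul, ← map_mul]
        refine congrArg (fun y => pr i (ι y)) (Subtype.ext ?_)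
        show wb * zb = zb * wb
        rw [← map_mul, ← map_mul]
        exact congrArg (barMap t) (Subtype.ext (H.J_comm z' K.z'_mem.1 z (H.Z_le_J F K.z_mem)))
      rcases (five_comm _ (by rw [← map_pow, hz3, map_one]) hi _ _ hcm hcm).2
        (by rw [← map_pow, hw3, map_one]) with e | e | e
      · exact hi' e
      · have e' : w12 = z12 := by
          cases i
          · exact Prod.ext (hw0.trans hz0.symm) e
          · exact Prod.ext e (hw0.trans hz0.symm)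
        have e'' := congrArg Subtype.val (ι.injective e')
        rcases (barMap_eq_iff (H.tt F K) _ _).1 e'' with h | h
        · exact K.z'_not (show z' ∈ Z from (show z = z' from h) ▸ K.z_mem)
        · exact K.z'_not (eq_of_three F.t_two (H.z'_cube F K) (H.z_cube F K)
            (mem_centralizer_singleton_iff.1 K.z'_mem.2) (Or.inr h) ▸ K.z_mem)
      · have e' : w12 = z12⁻¹ := by
          cases i
          · exact Prod.ext (by show pr (!false) w12 = (pr (!false) z12)⁻¹; rw [hw0, hz0, inv_one]) e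
          · exact Prod.ext e (by show pr (!true) w12 = (pr (!true) z12)⁻¹; rw [hw0, hz0, inv_one])
        rw [hw12, hz12, ← map_inv] at e'
        have e'' := congrArg Subtype.val (ι.injective e')
        have e3 : wb = barMap t ((H.zC F K)⁻¹) := by rw [map_inv]; exact e''
        rcases (barMap_eq_iff (H.tt F K) _ _).1 e3 with h | h
        · exact K.z'_not (show z' ∈ Z from (show z⁻¹ = z' from h) ▸ inv_mem K.z_mem)
        · exact K.z'_not (eq_of_three F.t_two (H.z'_cube F K) (x := z') (y := z⁻¹)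
            (by rw [inv_pow, H.z_cube F K, inv_one])
            (mem_centralizer_singleton_iff.1 K.z'_mem.2) (Or.inr h) ▸ inv_mem K.z_mem)
    rcases hnotboth hz12ne with h | h <;> rcases hnotboth hw12ne with h' | h'
    · exact (hsame true h h').elim
    · exact ⟨true, h, h'⟩
    · exact ⟨false, h, h'⟩
    · exact (hsame false h h').elim
  -- so the images commute
  have hcommT : ∀ g ∈ W2, ∀ v ∈ V2, g * v * g⁻¹ * v⁻¹ ∈ zpowers t := by
    intro g hg v hv
    have hgN := hWN g (hW2 hg) (hW1C (hW2 hg))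
    have hvN := hVN v (hV2 hv) (hV1C (hV2 hv))
    have h1 := killW i hzi g hg
    have h2 := killV (!i) hwi v hv
    have hc' : (⟨_, hgN⟩ : ↥N) * ⟨_, hvN⟩ = ⟨_, hvN⟩ * ⟨_, hgN⟩ := ι.injective (by
      rw [map_mul, map_mul]
      cases i
      · refine Prod.ext ?_ ?_
        · change pr true _ * pr true _ = pr true _ * pr true _
          rw [show pr true (ι ⟨_, hvN⟩) = 1 from h2, one_mul, mul_one]
        · change pr false _ * pr false _ = pr false _ * pr false _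
          rw [h1, one_mul, mul_one]
      · refine Prod.ext ?_ ?_
        · change pr true _ * pr true _ = pr true _ * pr true _
          rw [h1, one_mul, mul_one]
        · change pr false _ * pr false _ = pr false _ * pr false _
          rw [show pr false (ι ⟨_, hvN⟩) = 1 from h2, one_mul, mul_one])
    have hb' := congrArg Subtype.val hc'
    simp only [Subgroup.coe_mul] at hb'
    rw [← map_mul, ← map_mul] at hb'
    rcases (barMap_eq_iff (H.tt F K) _ _).1 hb' with h | h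
    · change v * g = g * v at h
      rw [← h, mul_inv_cancel_right, mul_inv_cancel]; exact one_mem _
    · change v * g = g * v * t at h
      have e : g * v = v * g * t := by rw [h, mul_assoc (g * v), H.tt F K, mul_one]
      have hcv : Commute (v * g) t := Commute.mul_left (mem_centralizer_singleton_iff.1 (hV1C (hV2 hv)))
        (mem_centralizer_singleton_iff.1 (hW1C (hW2 hg)))
      rw [e, show v * g * t * g⁻¹ * v⁻¹ = v * g * t * (v * g)⁻¹ by group, hcv.eq, mul_inv_cancel_right]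
      exact mem_zpowers t
  have hTc : ∀ a ∈ zpowers t, ∀ g ∈ Ct, g * a = a * g := by
    intro a ha g hg
    obtain ⟨k, rfl⟩ := mem_zpowers_iff.1 ha
    exact ((show Commute g t from mem_centralizer_singleton_iff.1 hg).zpow_right k).eq
  have hdd : c ∈ ⁅W2, W2⁆ := by
    -- the derived groups are perfect enough
    obtain ⟨g, hg, hge⟩ := H.third_derived F K (π ⟨c, hcL⟩)
    set w : G := c⁻¹ * (g : G)
    have hgW : (g : G) ∈ W0 := hW1 (hW2 (commutator_le_self _ hg))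
    have hwQ : w ∈ Q := by
      have : w = ((⟨c, hcL⟩⁻¹ * g : ↥L₀) : G) := rfl
      rw [this, ← F.ker, map_mul, map_inv, hge, inv_mul_cancel]
    have hwZ : w ∈ Z := H.eq_Z_of_t F hwQ (hct.inv_left.mul_left (mem_centralizer_singleton_iff.1 hgW.2)).symm
    have hxw : Commute c w := (mem_centralizer_iff.1 (H.L_le_cent hcL) w hwZ).symm
    have h9 : (g : G) ^ 9 = c := by
      rw [show (g : G) = c * w by simp [w], hxw.mul_pow, show 9 = 3 * 3 by rfl, pow_mul w, H.Q_exp w hwQ, one_pow,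
        mul_one, show 3 * 3 = 2 * 2 * 2 + 1 by rfl, pow_succ, pow_mul, pow_mul, pow_two c, hcc]
      simp [pow_two, H.tt F K]
    exact h9 ▸ pow_mem hg 9
  have := comm_derived (T := zpowers t) (W := W2) (V := V2) (fun τ hτ g hg => hTc τ hτ g (hW1C (hW2 hg)))
    (fun a ha b hb => hTc b hb a (by
      obtain ⟨k, rfl⟩ := mem_zpowers_iff.1 ha
      exact zpow_mem (mem_centralizer_singleton_iff.2 rfl) k))
    (fun τ hτ g hg => hTc τ hτ g (hV1C (hV2 hg))) hcommT hdd hbV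
  exact K.no_comm c b hcL hbL hct hbt (H.normalizer_Ej_le F hcN.1) (H.normalizer_Ej_le F hbN.1) hcc hbb hcz hcz'
    hbz hbz' this

end Cfsg.Agent.McLThree
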