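import Cfsg.Agent.Lib.McLThree.Fusion
import Cfsg.Agent.Lib.McLThree.Bound
import Cfsg.Agent.Lib.Cores.Basic

/-!
# `C(t)` does not cover `G` modulo the odd core
-/

set_option autoImplicit false
set_option linter.unusedSectionVars false
set_option linter.style.haveILetI false

namespace Cfsg.Agent.McLThree

open Subgroup
open scoped Pointwise

universe u

variable {G : Type u} [Group G] [Finite G] {S : Sylow 3 G} {Z J M₀ L₀ Q : Subgroup G}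
  (H : Hyp S Z J M₀ L₀ Q) {π : ↥L₀ →* SL5} {t f : G} (F : Frame Q L₀ π t f)
include H F

theorem Hyp.not_top : centralizer ({t} : Set G) ⊔ Cfsg.oddCore G ≠ ⊤ := by
  intro htop
  set O := Cfsg.oddCore G
  haveI hOn : O.Normal := Cores.pPrimeCore_normal 2
  have hcomm : ∀ g : G, g * t * g⁻¹ * t⁻¹ ∈ O := by
    intro g
    have hg : g ∈ (centralizer ({t} : Set G) : Set G) * (O : Set G) := by
      rw [← coe_mul_of_left_le_normalizer_right _ _ (le_normalizer_of_normal), htop]; exact mem_top g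
    obtain ⟨c, hc, o, ho, rfl⟩ := hg
    have hct : c * t = t * c := mem_centralizer_singleton_iff.1 hc
    have he : c * o * t * (c * o)⁻¹ * t⁻¹ = c * (o * (t * o⁻¹ * t⁻¹)) * c⁻¹ := by
      calc c * o * t * (c * o)⁻¹ * t⁻¹ = c * o * t * o⁻¹ * (c⁻¹ * t⁻¹) := by group
        _ = c * o * t * o⁻¹ * (t * c)⁻¹ := by group
        _ = c * o * t * o⁻¹ * (c * t)⁻¹ := by rw [hct]
        _ = _ := by group
    show c * o * t * (c * o)⁻¹ * t⁻¹ ∈ O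
    rw [he]
    exact hOn.conj_mem _ (mul_mem ho (hOn.conj_mem _ (inv_mem ho) t)) c
  -- `Q = (O ∩ Q) Z`
  have hQZ : ∀ x ∈ Q, ∃ w ∈ O ⊓ Q, ∃ v ∈ Z, x = w * v := by
    intro x hx
    have hz : t * x⁻¹ * t⁻¹ * x⁻¹ ∈ Z := H.t_inverts F (inv_mem hx)
    set v := t * x⁻¹ * t⁻¹ * x⁻¹
    have hxx : x⁻¹ * x⁻¹ ∈ Q := mul_mem (inv_mem hx) (inv_mem hx)
    -- `w = x⁻¹ (t x t⁻¹)`
    have hw : x⁻¹ * t * x * t⁻¹ ∈ O := by
      have h := hcomm x⁻¹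
      rwa [inv_inv] at h
    have hwe : x⁻¹ * t * x * t⁻¹ = x⁻¹ * x⁻¹ * v⁻¹ := by simp only [v]; group
    have hvx : x⁻¹ * t * x * t⁻¹ ∈ Q := by
      rw [hwe]; exact mul_mem hxx (inv_mem (H.Z_le_Q hz))
    refine ⟨x⁻¹ * t * x * t⁻¹, ⟨hw, hvx⟩, v, hz, ?_⟩
    rw [hwe, inv_mul_cancel_right, ← mul_inv_rev]
    exact eq_inv_of_mul_eq_one_left (by rw [← pow_two, ← pow_succ']; exact H.Q_exp x hx)
  -- `Z ≤ O`
  obtain ⟨a, ha, b, hb, hab⟩ : ∃ a ∈ Q, ∃ b ∈ Q, a * b * a⁻¹ * b⁻¹ ≠ 1 := by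
    by_contra hcon
    push Not at hcon
    have h := H.abelian_Q (A := Q) le_rfl fun a ha b hb =>
      mul_inv_eq_iff_eq_mul.1 (mul_inv_eq_one.1 (hcon a ha b hb))
    rw [H.Q_card] at h
    omega
  obtain ⟨w1, hw1, v1, hv1, rfl⟩ := hQZ a ha
  obtain ⟨w2, hw2, v2, hv2, rfl⟩ := hQZ b hb
  have hc1 : Commute v1 (w2 * v2) := (H.Z_comm hv1 (H.Q_le_S hb)).symm
  have hc2 : Commute v2 w1 := (H.Z_comm hv2 (H.Q_le_S hw1.2)).symm
  have hBeq : w1 * v1 * (w2 * v2) * (w1 * v1)⁻¹ * (w2 * v2)⁻¹ = w1 * w2 * w1⁻¹ * w2⁻¹ := by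
    calc w1 * v1 * (w2 * v2) * (w1 * v1)⁻¹ * (w2 * v2)⁻¹
        = w1 * (v1 * (w2 * v2) * v1⁻¹) * w1⁻¹ * (w2 * v2)⁻¹ := by group
      _ = w1 * w2 * (v2 * w1⁻¹) * v2⁻¹ * w2⁻¹ := by rw [hc1.eq, mul_inv_cancel_right]; group
      _ = w1 * w2 * w1⁻¹ * w2⁻¹ := by rw [hc2.inv_right.eq]; group
  have hZO : Z ≤ O := by
    have hm : w1 * w2 * w1⁻¹ * w2⁻¹ ∈ O ⊓ Z :=
      ⟨O.mul_mem (O.mul_mem (O.mul_mem hw1.1 hw2.1) (O.inv_mem hw1.1)) (O.inv_mem hw2.1), H.comm_Q hw1.2 hw2.2⟩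
    refine inf_eq_right.1 (eq_of_le_of_card_ge (inf_le_right : O ⊓ Z ≤ Z) ?_)
    rcases (Nat.dvd_prime Nat.prime_three).1 (H.card_Z ▸ card_dvd_of_le (inf_le_right : O ⊓ Z ≤ Z)) with h | h
    · exact absurd (hBeq.trans ((Subgroup.eq_bot_iff_forall _).1 (Subgroup.eq_bot_of_card_eq _ h) _ hm)) hab
    · rw [h, H.card_Z]
  have hQO : Q ≤ O := fun x hx => by
    obtain ⟨w, hw, v, hv, rfl⟩ := hQZ x hx
    exact mul_mem hw.1 (hZO hv)
  -- the image in `A₆` is an odd normal subgroup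
  obtain ⟨ρ, hρ, hk⟩ := H.quotM
  haveI : IsSimpleGroup (alternatingGroup (Fin 6)) := alternatingGroup.isSimpleGroup (by simp)
  haveI : ((O.subgroupOf M₀).map ρ).Normal := (inferInstance : (O.subgroupOf M₀).Normal).map ρ hρ
  rcases (inferInstance : ((O.subgroupOf M₀).map ρ).Normal).eq_bot_or_eq_top with h | h
  · obtain ⟨q, hq, hqJ⟩ : ∃ q ∈ Q, q ∉ J := by
      by_contra hcon
      push Not at hcon
      have := card_le_of_le (le_inf hcon le_rfl : Q ≤ J ⊓ Q)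
      rw [H.Q_card, H.card_J_inf_Q F] at this
      omega
    refine hqJ ((hk ⟨q, H.Q_le_M F hq⟩).1 ?_)
    rw [← mem_bot, ← h]
    exact ⟨⟨q, H.Q_le_M F hq⟩, hQO hq, rfl⟩
  · have hd := card_subgroup_dvd_card (O.subgroupOf M₀)
    have h2 : Nat.card ↥((O.subgroupOf M₀).map ρ) ∣ Nat.card ↥(O.subgroupOf M₀) := card_map_dvd _ _
    rw [h, card_top] at h2
    have hO : Odd (Nat.card ↥O) := Cores.oddCore_odd
    have h3 : Nat.card ↥(O.subgroupOf M₀) ∣ Nat.card ↥O :=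
      card_comap_dvd_of_injective O M₀.subtype M₀.subtype_injective
    have hA : 2 ∣ Nat.card (alternatingGroup (Fin 6)) := by
      have h' := two_mul_nat_card_alternatingGroup (α := Fin 6)
      rw [Nat.card_perm, Nat.card_fin, show Nat.factorial 6 = 720 from rfl] at h'
      exact ⟨180, by omega⟩
    exact (Nat.not_even_iff_odd.2 hO) (even_iff_two_dvd.2 ((hA.trans h2).trans h3))

end Cfsg.Agent.McLThree
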