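import Cfsg.Agent.Lib.McLThree.BarIso
import Cfsg.Agent.Lib.McLThree.Exception
import Cfsg.Agent.Lib.McLThree.NotTop
import Cfsg.Agent.S3334

/-!
# The double cover of `Alt 8`; the case without outer automorphisms
-/

set_option autoImplicit false
set_option linter.unusedSectionVars false
set_option linter.style.haveILetI false

namespace Cfsg.Agent.McLThree

open Subgroup Cfsg

universe u

/-- A central extension of `Alt 8` by a group of order two containing a square root of the central element. -/
theorem double_cover_of_root {C : Type u} [Group C] {τ : C} (hne : τ ≠ 1) (h2 : τ * τ = 1)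
    (hc : ∀ x : C, Commute x τ) (ξ : C →* alternatingGroup (Fin 8)) (hs : Function.Surjective ξ)
    (hk : ∀ x : C, ξ x = 1 ↔ x = 1 ∨ x = τ) {c : C} (hc2 : c * c = τ) :
    IsNonsplitDoubleCover C (alternatingGroup (Fin 8)) := by
  have hker : ξ.ker = zpowers τ := by
    ext x
    rw [MonoidHom.mem_ker, hk]
    constructor
    · rintro (rfl | rfl)
      · exact one_mem _
      · exact mem_zpowers _
    · intro hx
      obtain ⟨k, rfl⟩ := mem_zpowers_iff.1 hx
      have h' : τ ^ (2 : ℤ) = 1 := by rw [zpow_two]; exact h2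
      rw [zpow_eq_zpow_emod k h']
      rcases Int.emod_two_eq_zero_or_one k with e | e <;> rw [e]
      · exact Or.inl (zpow_zero _)
      · exact Or.inr (zpow_one _)
  have hcen : center C = zpowers τ := by
    refine le_antisymm (fun a ha => ?_) (zpowers_le.2 (mem_center_iff.2 fun x => (hc x).eq))
    rw [← hker, MonoidHom.mem_ker, ← mem_bot, ← alternatingGroup.center_eq_bot (α := Fin 8) (by simp),
      mem_center_iff]
    intro w
    obtain ⟨w, rfl⟩ := hs w
    rw [← map_mul, ← map_mul, mem_center_iff.1 ha w]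
  have ho : orderOf τ = 2 := orderOf_eq_prime (by rw [pow_two, h2]) hne
  refine ⟨by rw [hcen, Nat.card_zpowers, ho],
    ⟨(QuotientGroup.quotientMulEquivOfEq (hcen.trans hker.symm)).trans
      (QuotientGroup.quotientKerEquivOfSurjective ξ hs)⟩, fun L hL => ?_⟩
  obtain ⟨⟨⟨w, hw⟩, ⟨l, hl⟩⟩, he⟩ := hL.2 c
  dsimp only at he
  have hwl : w * l = c := he
  have hll : l * l = τ := by
    have hwl' : Commute w l := (mem_center_iff.1 hw l).symm
    have hww : w * w = 1 := by
      have h := pow_card_eq_one' (x := (⟨w, hw⟩ : center C))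
      rw [show Nat.card ↥(center C) = 2 by rw [hcen, Nat.card_zpowers, ho], pow_two] at h
      exact congrArg Subtype.val h
    calc l * l = w * w * (l * l) := by rw [hww, one_mul]
      _ = w * (w * l) * l := by group
      _ = w * (l * w) * l := by rw [hwl'.eq]
      _ = w * l * (w * l) := by group
      _ = τ := by rw [hwl, hc2]
  have : τ ∈ center C ⊓ L := ⟨hcen ▸ mem_zpowers τ, hll ▸ mul_mem hl hl⟩
  rw [hL.disjoint.eq_bot, mem_bot] at this
  exact hne this

variable {G : Type u} [Group G] [Finite G] {S : Sylow 3 G} {Z J M₀ L₀ Q : Subgroup G}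
  (H : Hyp S Z J M₀ L₀ Q) {π : ↥L₀ →* SL5} {t f : G} (F : Frame Q L₀ π t f)
  {s z z' : G} (K : JSide Z J L₀ t s z z')
include H F K

/-- `t` in `C(t)`. -/
abbrev tC (t : G) : ↥(centralizer ({t} : Set G)) := ⟨t, mem_centralizer_singleton_iff.2 rfl⟩

theorem Hyp.tC_facts : tC t ≠ 1 ∧ tC t * tC t = 1 ∧ ∀ x : ↥(centralizer ({t} : Set G)), Commute x (tC t) := by
  refine ⟨fun h => ?_, Subtype.ext (H.tt F K), fun x => Subtype.ext (mem_centralizer_singleton_iff.1 x.2)⟩
  have := F.t_two
  rw [show t = 1 from congrArg Subtype.val h, orderOf_one] at this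
  omega

theorem Hyp.barMap_eq_one (x : ↥(centralizer ({t} : Set G))) : barMap t x = 1 ↔ x = 1 ∨ x = tC t := by
  rw [← map_one (barMap t), eq_comm, barMap_eq_iff (H.tt F K)]
  constructor
  · rintro (h | h)
    · exact Or.inl (Subtype.ext h.symm).symm
    · exact Or.inr (Subtype.ext (by rw [h, Subgroup.coe_one, one_mul]))
  · rintro (rfl | rfl)
    · exact Or.inl rfl
    · exact Or.inr (by rw [Subgroup.coe_one, one_mul])

/-- Without outer automorphisms on `L₀/Q`, the group is the group of McLaughlin. -/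
theorem Hyp.small (hc : Nat.card ↥(centZt Z t) = 360) : Nonempty (G ≃* Spor.McL) := by
  obtain ⟨e⟩ := H.bar_alt F K hc
  obtain ⟨c, -, hct, hcc, -, -, -⟩ := H.exists_c F K
  obtain ⟨hne, h2, hcomm⟩ := H.tC_facts F K
  refine (S3334.result t F.t_two (double_cover_of_root hne h2 hcomm (e.toMonoidHom.comp (barMap t))
    (e.surjective.comp (QuotientGroup.mk'_surjective _)) (fun x => ?_)
    (c := ⟨c, mem_centralizer_singleton_iff.2 hct.eq⟩) (Subtype.ext hcc))).resolve_left (H.not_top F)
  rw [MonoidHom.comp_apply, MulEquiv.coe_toMonoidHom, MulEquiv.map_eq_one_iff, H.barMap_eq_one F K]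

end Cfsg.Agent.McLThree
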