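import Cfsg.Agent.Lib.McLThree.Image

/-!
# The determinant is the multiplier

Every element of `N(J)` acts on `J` with determinant equal to its multiplier; in particular no element
acts as a reflection.
-/

set_option autoImplicit false
set_option linter.unusedSectionVars false
set_option linter.style.haveILetI false
set_option synthInstance.maxSize 2000
set_option synthInstance.maxHeartbeats 200000

namespace Cfsg.Agent.McLThree

open Subgroup
open Model

universe u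

/-- The matrix of `t`. -/
def tMat : Mat := blk (-1, 0) (0, -1) 1

theorem zmod_cases : (∀ a : ZMod 3, a ^ 3 = a) ∧
    (∀ a b c d : ZMod 3, a * b = 1 → c * d = 1 → a = c → b = d) ∧
    (∀ c : ZMod 3, c ≠ 0 → c = 1 ∨ c = -1) := by decide

theorem blk_of : ∀ v : V, v.1 = 0 → v.2.2.2 = 0 → v = (0, v.2.1, v.2.2.1, 0) := by
  rintro ⟨a, b, c, d⟩ h1 h4
  simp only at h1 h4
  subst h1 h4
  rfl

theorem bil_app (m : Mat) (a b : V) {μ : ZMod 3} (h : ∀ v, qf (app m v) = μ * qf v) :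
    bil (app m a) (app m b) = μ * bil a b := by
  have e : app m (a + b) = app m a + app m b := by
    simp only [app, sc, Prod.ext_iff, Prod.fst_add, Prod.snd_add]
    refine ⟨?_, ?_, ?_, ?_⟩ <;> ring
  have h1 := h (a + b)
  rw [e, qf_add, qf_add, h, h] at h1
  linear_combination h1

theorem app_basis (m : Mat) : app m vz = m.1 ∧ app m vw1 = m.2.1 ∧ app m vw2 = m.2.2.1 ∧
    app m vz' = m.2.2.2 := by
  simp [app, sc, vz, vw1, vw2, vz', Prod.ext_iff]

variable {G : Type u} [Group G] [Finite G] {S : Sylow 3 G} {Z J M₀ L₀ Q : Subgroup G}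
  (H : Hyp S Z J M₀ L₀ Q) {π : ↥L₀ →* SL5} {t f : G} (F : Frame Q L₀ π t f)
  {ρ : ↥M₀ →* Six.A6} {u w : G} (B : Base S J M₀ t ρ u w)
  {z x y : G} (C : Coord Z J Q t w z x y)
include H F B C

local notation "zz" => w * z * w⁻¹

theorem Hyp.acts_t : Acts z zz x y t tMat := by
  obtain ⟨hz, hz', hx, hy⟩ := H.mems F B C
  intro v
  have h1 : t * z * t⁻¹ = z := by
    rw [← mem_centralizer_iff.1 (H.L_le_cent F.t_mem) z C.z_mem, mul_inv_cancel_right]
  have h2 : t * zz * t⁻¹ = zz := by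
    rw [← mem_centralizer_singleton_iff.1 (H.w_Z_Ej F B C.z_mem).2, mul_inv_cancel_right]
  have e : app tMat v = (v.1, -v.2.1, -v.2.2.1, v.2.2.2) := by
    simp [app, sc, tMat, blk, vz, Prod.ext_iff]
  rw [e]
  simp only [emb]
  rw [zp_neg (H.J_exp x hx), zp_neg (H.J_exp y hy),
    show t * (zp z v.1 * (zp x v.2.1 * (zp y v.2.2.1 * zp zz v.2.2.2))) * t⁻¹ =
      t * zp z v.1 * t⁻¹ * (t * zp x v.2.1 * t⁻¹ * (t * zp y v.2.2.1 * t⁻¹ * (t * zp zz v.2.2.2 * t⁻¹))) by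
      group, conj_zp, conj_zp, conj_zp, conj_zp, h1, h2, C.x_t, C.y_t]
  simp only [zp, inv_pow]

theorem Hyp.acts_uni (a b : ZMod 3) : ∃ q ∈ Q, Acts z zz x y q (uni a b) := C.trans a b

theorem Hyp.mult_comp {n n' : G} {m m' : Mat} (hn : n ∈ normalizer (J : Set G))
    (h : Acts z zz x y n m) : mult (comp m m') = mult m * mult m' := by
  obtain ⟨m₁, h₁, -, hs⟩ := H.exists_acts F B C hn
  obtain rfl := H.acts_unique F B C h₁ h
  show bil (app m₁ m'.1) (app m₁ m'.2.2.2) = _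
  rw [bil_app m₁ _ _ hs]
  rfl

theorem Hyp.comp_acts_inv {n : G} {m m' : Mat} (h : Acts z zz x y n m) (h' : Acts z zz x y n⁻¹ m') :
    comp m m' = Model.one :=
  H.acts_unique F B C (h.mul h') (by rw [mul_inv_cancel]; exact Acts.one_one z zz x y)

/-- A 3-element of `N(J)` has determinant and multiplier one. -/
theorem Hyp.det_three {n : G} (hn : n ∈ normalizer (J : Set G)) {k : ℕ} (hk : orderOf n = 3 ^ k)
    {m : Mat} (h : Acts z zz x y n m) : det4 m = 1 ∧ mult m = 1 := by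
  have hpow : ∀ j : ℕ, ∃ mj, Acts z zz x y (n ^ j) mj ∧ det4 mj = det4 m ^ j ∧ mult mj = mult m ^ j := by
    intro j
    induction j with
    | zero => exact ⟨Model.one, by rw [pow_zero]; exact Acts.one_one z zz x y, by simp [det4_one.1, det4_one.2]⟩
    | succ j ih =>
      obtain ⟨mj, hj, hd, hmu⟩ := ih
      refine ⟨comp mj m, by rw [pow_succ]; exact hj.mul h, ?_, ?_⟩
      · rw [det4_comp, hd, pow_succ]
      · rw [H.mult_comp F B C (n' := n) (pow_mem hn j) hj, hmu, pow_succ]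
  obtain ⟨mj, hj, hd, hmu⟩ := hpow (3 ^ k)
  rw [show n ^ (3 ^ k) = 1 by rw [← hk]; exact pow_orderOf_eq_one n] at hj
  obtain rfl := H.acts_unique F B C hj (Acts.one_one z zz x y)
  have hfix : ∀ (a : ZMod 3) (j : ℕ), a ^ (3 ^ j) = a := fun a j => by
    induction j with
    | zero => simp
    | succ j ih => rw [pow_succ, pow_mul, ih, zmod_cases.1]
  rw [hfix] at hd hmu
  exact ⟨hd.symm.trans det4_one.1, hmu.symm.trans det4_one.2⟩

/-- Elements of `M₀` have determinant and multiplier one. -/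
theorem Hyp.det_M {n : G} (hn : n ∈ M₀) : ∀ m, Acts z zz x y n m → det4 m = 1 ∧ mult m = 1 := by
  rw [H.M_eq] at hn
  induction hn using Subgroup.closure_induction with
  | mem a ha => exact fun m h => H.det_three F B C ha.1 ha.2.choose_spec h
  | one =>
    intro m h
    obtain rfl := H.acts_unique F B C h (Acts.one_one z zz x y)
    exact det4_one
  | mul a b ha hb iha ihb =>
    intro m h
    have hle := H.M_le
    obtain ⟨ma, hma, -, -⟩ := H.exists_acts F B C (hle (H.M_eq ▸ ha))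
    obtain ⟨mb, hmb, -, -⟩ := H.exists_acts F B C (hle (H.M_eq ▸ hb))
    obtain rfl := H.acts_unique F B C h (hma.mul hmb)
    rw [det4_comp, H.mult_comp F B C (n' := b) (hle (H.M_eq ▸ ha)) hma, (iha _ hma).1, (iha _ hma).2,
      (ihb _ hmb).1, (ihb _ hmb).2, mul_one]
    exact ⟨rfl, rfl⟩
  | inv a ha iha =>
    intro m h
    have hle := H.M_le
    obtain ⟨ma, hma, -, -⟩ := H.exists_acts F B C (hle (H.M_eq ▸ ha))
    have e := H.comp_acts_inv F B C hma h
    have h1 := congrArg det4 e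
    have h2 := congrArg mult e
    rw [det4_comp, (iha _ hma).1, one_mul, det4_one.1] at h1
    rw [H.mult_comp F B C (n' := a⁻¹) (hle (H.M_eq ▸ ha)) hma, (iha _ hma).2, one_mul, det4_one.2] at h2
    exact ⟨h1, h2⟩

theorem Hyp.w_basis {m : Mat} (hm : Acts z zz x y w m) : m.1 = vz' ∧ m.2.2.2 = vz := by
  obtain ⟨e0, ez, ew1, ew2, ez'⟩ := emb_basis z zz x y
  have h1 := hm vz
  have h4 := hm vz'
  rw [(app_basis m).1, ez] at h1
  rw [(app_basis m).2.2.2, ez', H.w_sq_Z F B C.z_mem] at h4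
  exact ⟨C.inj (h1.symm.trans ez'.symm), C.inj (h4.symm.trans ez.symm)⟩

/-- Some element of `M₀` inverts `z`. -/
theorem Hyp.exists_neg : ∃ n ∈ M₀, ∀ m, Acts z zz x y n m → m.1 = -vz := by
  obtain ⟨mw, hw, hμ, hsim⟩ := H.exists_acts F B C (H.M_le B.w_mem)
  obtain ⟨w1, w4⟩ := H.w_basis F B C hw
  obtain ⟨q, hq, hqa⟩ := C.trans 1 1
  have hμ1 : mult mw = 1 := by rw [mult, w1, w4]; decide
  set v0 := app (uni 1 1) vz' with hv0
  set v1 := app mw v0 with hv1
  have hv0' : v0 = (2, 1, 1, 1) := by rw [hv0]; decide +kernel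
  have hq1 : qf v1 = 0 := by rw [hv1, hsim, hμ1, hv0']; decide +kernel
  have hb1 : bil v1 mw.1 = 1 := by
    rw [hv1, ← (app_basis mw).1, bil_app mw _ _ hsim, hμ1, hv0']; decide +kernel
  have hb4 : bil v1 mw.2.2.2 = 2 := by
    rw [hv1, ← (app_basis mw).2.2.2, bil_app mw _ _ hsim, hμ1, hv0']; decide +kernel
  rw [w1] at hb1
  rw [w4] at hb4
  obtain ⟨a, b, hab⟩ := (show ∀ v : V, qf v = 0 → bil v vz' = 1 → bil v vz = 2 →
      ∃ a b, app (uni a b) (-vz') = v by decide +kernel) v1 hq1 hb1 hb4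
  obtain ⟨q', hq', hq'a⟩ := C.trans a b
  have hQM := H.Q_le_M F
  refine ⟨w * q'⁻¹ * w * q * w, mul_mem (mul_mem (mul_mem (mul_mem B.w_mem (inv_mem (hQM hq'))) B.w_mem)
    (hQM hq)) B.w_mem, fun m hm => ?_⟩
  have h := hm vz
  rw [(app_basis m).1] at h
  refine C.inj (h.symm.trans ?_)
  calc w * q'⁻¹ * w * q * w * emb z zz x y vz * (w * q'⁻¹ * w * q * w)⁻¹
      = w * (q'⁻¹ * (w * (q * (w * emb z zz x y vz * w⁻¹) * q⁻¹) * w⁻¹) * q') * w⁻¹ := by group
    _ = w * (q'⁻¹ * emb z zz x y v1 * q') * w⁻¹ := by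
        rw [hw, (app_basis mw).1, w1, hqa, hw, hv1, hv0]
    _ = w * emb z zz x y (-vz') * w⁻¹ := by
        rw [← hab, ← hq'a]; group
    _ = emb z zz x y (-vz) := by
        rw [hw]; congr 1
        rw [show (-vz' : V) = sc 2 vz' by decide, show (-vz : V) = sc 2 vz by decide]
        simp [app, sc, vz', vz, w4, Prod.ext_iff]

/-- Some element of `M₀` moves the image of `z` back to `z`. -/
theorem Hyp.exists_back {n : G} (hn : n ∈ normalizer (J : Set G)) :
    ∃ k ∈ M₀, k * n * z * (k * n)⁻¹ = z := by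
  obtain ⟨hz, hz', hx, hy⟩ := H.mems F B C
  obtain ⟨e0, ez, ew1, ew2, ez'⟩ := emb_basis z zz x y
  obtain ⟨v, hv⟩ := C.onto _ ((mem_normalizer_iff.1 hn z).1 hz)
  have hv0 : v ≠ 0 := by
    rintro rfl
    rw [e0] at hv
    exact C.z_ne (_root_.conj_eq_one_iff.1 hv.symm)
  have hq : qf v = 0 := (H.sing_iff F B C hv0).1 ⟨n⁻¹, by
    rw [hv, show n⁻¹ * (n * z * n⁻¹) * n⁻¹⁻¹ = z by group]; exact C.z_mem⟩
  -- first make it a multiple of `z`
  obtain ⟨k, hk, c, hc0, hkc⟩ : ∃ k ∈ M₀, ∃ c, c ≠ 0 ∧ k * n * z * (k * n)⁻¹ = emb z zz x y (sc c vz) := by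
    by_cases hzc : ∃ c, v = sc c vz
    · obtain ⟨c, rfl⟩ := hzc
      refine ⟨1, one_mem _, c, fun h => hv0 (by subst h; decide), ?_⟩
      rw [hv, one_mul]
    · push Not at hzc
      obtain ⟨a, b, c, e⟩ := uni_facts.2 v hq hv0 hzc
      obtain ⟨q, hqQ, hqa⟩ := C.trans a b
      obtain ⟨mw, hw, -, -⟩ := H.exists_acts F B C (H.M_le B.w_mem)
      refine ⟨w * q⁻¹, mul_mem B.w_mem (inv_mem (H.Q_le_M F hqQ)), c, fun h => hv0 ?_, ?_⟩
      · rw [← e, h]; simp [app, sc, Prod.ext_iff]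
      · calc w * q⁻¹ * n * z * (w * q⁻¹ * n)⁻¹ = w * (q⁻¹ * (n * z * n⁻¹) * q) * w⁻¹ := by group
          _ = w * emb z zz x y (sc c vz') * w⁻¹ := by rw [← hv, ← e, ← hqa]; group
          _ = _ := by
              rw [hw]; congr 1
              simp [app, sc, vz', vz, (H.w_basis F B C hw).2, Prod.ext_iff]
  rcases zmod_cases.2.2 c hc0 with rfl | rfl
  · exact ⟨k, hk, hkc.trans (by rw [H.emb_pow F B C, ez]; exact zp_one z)⟩
  · obtain ⟨n1, hn1, hneg⟩ := H.exists_neg F B C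
    obtain ⟨m1, hm1, -, -⟩ := H.exists_acts F B C (H.M_le hn1)
    refine ⟨n1 * k, mul_mem hn1 hk, ?_⟩
    calc n1 * k * n * z * (n1 * k * n)⁻¹ = n1 * (k * n * z * (k * n)⁻¹) * n1⁻¹ := by group
      _ = emb z zz x y (app m1 (sc (-1) vz)) := by rw [hkc, hm1]
      _ = emb z zz x y vz := by
          congr 1
          simp [app, sc, vz, hneg m1 hm1, Prod.ext_iff]
      _ = z := ez

/-- For an element fixing `z`, `z'` is moved by `Q` back to a multiple of itself. -/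
theorem Hyp.exists_back' {n : G} (hn : n ∈ normalizer (J : Set G)) (hnz : n * z * n⁻¹ = z) :
    ∃ k ∈ Q, ∃ a b ε, ε ≠ 0 ∧ Acts z zz x y (k * n) (blk a b ε) := by
  obtain ⟨hz, hz', hx, hy⟩ := H.mems F B C
  obtain ⟨e0, ez, ew1, ew2, ez'⟩ := emb_basis z zz x y
  obtain ⟨v, hv⟩ := C.onto _ ((mem_normalizer_iff.1 hn zz).1 hz')
  have hnE : ∀ a : G, n * a * n⁻¹ = z → a = z := fun a h =>
    (MulAut.conj n).injective (h.trans hnz.symm)
  have hv0 : v ≠ 0 := by
    rintro rfl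
    rw [e0] at hv
    exact C.z_ne (_root_.conj_eq_one_iff.1 (_root_.conj_eq_one_iff.1 hv.symm))
  have hq : qf v = 0 := (H.sing_iff F B C hv0).1 ⟨(n * w)⁻¹, by
    rw [hv, show (n * w)⁻¹ * (n * zz * n⁻¹) * (n * w)⁻¹⁻¹ = z by group]; exact C.z_mem⟩
  have hzc : ∀ c, v ≠ sc c vz := by
    intro c h
    subst h
    rcases (show ∀ c : ZMod 3, c = 0 ∨ c = 1 ∨ c = 2 by decide) c with rfl | rfl | rfl
    · exact hv0 (by decide)
    · rw [H.emb_pow F B C, ez, show z ^ (1 : ZMod 3).val = z from zp_one z] at hv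
      exact H.w_Z_not_Z F B C.z_mem C.z_ne ((hnE _ hv.symm).symm ▸ C.z_mem)
    · rw [H.emb_pow F B C, ez, show z ^ (2 : ZMod 3).val = z * z from pow_two z] at hv
      have h : n * (z * z) * n⁻¹ = z * z := by
        rw [show n * (z * z) * n⁻¹ = n * z * n⁻¹ * (n * z * n⁻¹) by group, hnz]
      exact H.w_Z_not_Z F B C.z_mem C.z_ne
        (((MulAut.conj n).injective (h.trans hv)) ▸ mul_mem C.z_mem C.z_mem)
  obtain ⟨a, b, c, e⟩ := uni_facts.2 v hq hv0 hzc
  have hc0 : c ≠ 0 := fun h => hv0 (by rw [← e, h]; simp [app, sc, Prod.ext_iff])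
  obtain ⟨q, hqQ, hqa⟩ := C.trans a b
  have hk : q⁻¹ * n ∈ normalizer (J : Set G) :=
    mul_mem (inv_mem (H.S_le_normalizer_J F (H.Q_le_S hqQ))) hn
  obtain ⟨m, hm, hμ, hsim⟩ := H.exists_acts F B C hk
  have h1 : m.1 = vz := C.inj (by
    rw [← (app_basis m).1, ← hm, ez,
      show q⁻¹ * n * z * (q⁻¹ * n)⁻¹ = q⁻¹ * (n * z * n⁻¹) * q by group, hnz, mul_assoc,
      ← H.Z_comm C.z_mem (H.Q_le_S hqQ), inv_mul_cancel_left])
  have h4 : m.2.2.2 = sc c vz' := C.inj (by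
    rw [← (app_basis m).2.2.2, ← hm, ez',
      show q⁻¹ * n * zz * (q⁻¹ * n)⁻¹ = q⁻¹ * (n * zz * n⁻¹) * q by group, ← hv, ← e, ← hqa]
    group)
  have horth : ∀ i : V, bil i vz = 0 → bil i vz' = 0 → (app m i).1 = 0 ∧ (app m i).2.2.2 = 0 := by
    intro i hi hi'
    have a1 := bil_app m i vz hsim
    have a4 := bil_app m i vz' hsim
    rw [(app_basis m).1, h1, hi, mul_zero] at a1
    rw [(app_basis m).2.2.2, h4, hi', mul_zero] at a4
    exact (show ∀ v : V, ∀ d : ZMod 3, d ≠ 0 → bil v vz = 0 → bil v (sc d vz') = 0 → v.1 = 0 ∧ v.2.2.2 = 0 by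
      decide +kernel) _ c hc0 a1 a4
  obtain ⟨p2, p2'⟩ := horth vw1 (by decide) (by decide)
  obtain ⟨p3, p3'⟩ := horth vw2 (by decide) (by decide)
  rw [(app_basis m).2.1] at p2 p2'
  rw [(app_basis m).2.2.1] at p3 p3'
  refine ⟨q⁻¹, inv_mem hqQ, (m.2.1.2.1, m.2.1.2.2.1), (m.2.2.1.2.1, m.2.2.1.2.2.1), c, hc0, ?_⟩
  convert hm using 1
  unfold blk
  ext1; · exact h1.symm
  ext1; · exact (blk_of _ p2 p2').symm
  ext1; · exact (blk_of _ p3 p3').symm
  rw [h4]; simp [sc, vz', Prod.ext_iff]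

/-- An element centralizing `z`, `z'` in `L₀ ∩ N(J)` acts as the identity or as `t`. -/
theorem Hyp.cent_L_acts {d : G} (hd : d ∈ L₀) (hdz : Commute d zz) :
    Acts z zz x y d Model.one ∨ Acts z zz x y d tMat := by
  obtain ⟨hz, hz', hx, hy⟩ := H.mems F B C
  have hzzL : zz ∈ L₀ := H.S_le_L (H.J_le hz')
  have hzzQ : zz ∉ Q := fun h => H.w_Z_not_Z F B C.z_mem C.z_ne (H.Ej_inf_Q F (H.w_Z_Ej F B C.z_mem) h)
  have hσ3 : π ⟨zz, hzzL⟩ * π ⟨zz, hzzL⟩ * π ⟨zz, hzzL⟩ = 1 := by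
    rw [← map_mul, ← map_mul, ← map_one π]; congr 1
    apply Subtype.ext
    show zz * zz * zz = 1
    rw [← pow_two, ← pow_succ]; exact H.J_exp zz hz'
  obtain ⟨-, hcent⟩ := five_inverter _ hσ3 fun h => hzzQ ((F.ker _).1 h)
  obtain ⟨i, hi⟩ := hcent (π ⟨d, hd⟩) (by
    rw [← map_mul, ← map_mul]; congr 1; exact Subtype.ext hdz.eq)
  have hzi : ∀ v, zz ^ (i : ℕ) * emb z zz x y v * (zz ^ (i : ℕ))⁻¹ = emb z zz x y v := fun v => by
    rw [H.J_comm _ (pow_mem hz' _) _ (H.emb_J F B C v), mul_inv_cancel_right]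
  have hq : ∀ q ∈ Q, Commute q zz → ∀ v, q * emb z zz x y v * q⁻¹ = emb z zz x y v := by
    intro q hq hqc v
    have hR : q ∈ J ⊓ Q := H.mem_R_of_trans F B C.z_mem C.z_ne hq (by
      rw [hqc.eq, mul_inv_cancel_right, mul_inv_cancel]; exact one_mem Z)
    rw [H.J_comm q hR.1 _ (H.emb_J F B C v), mul_inv_cancel_right]
  have htz : Commute t zz := (mem_centralizer_singleton_iff.1 (H.w_Z_Ej F B C.z_mem).2).symm
  have hzc : Commute (zz ^ (i : ℕ)) zz := (Commute.refl _).pow_left _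
  rcases hi with hi | hi
  · left
    have hmem : (zz ^ (i : ℕ))⁻¹ * d ∈ Q := (F.ker (((⟨zz, hzzL⟩ : ↥L₀) ^ (i : ℕ))⁻¹ * (⟨d, hd⟩ : ↥L₀))).1 (by
      rw [map_mul, map_inv, map_pow, hi, inv_mul_cancel]) |> fun h => by simpa using h
    intro v
    rw [uni_steps.2.2, show d = zz ^ (i : ℕ) * ((zz ^ (i : ℕ))⁻¹ * d) by group,
      show ∀ a b c : G, a * b * c * (a * b)⁻¹ = a * (b * c * b⁻¹) * a⁻¹ from fun a b c => by group,
      hq _ hmem (hzc.inv_left.mul_left hdz) v, hzi]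
  · right
    have hmem : (zz ^ (i : ℕ) * t)⁻¹ * d ∈ Q :=
      (F.ker (((⟨zz, hzzL⟩ : ↥L₀) ^ (i : ℕ) * (⟨t, F.t_mem⟩ : ↥L₀))⁻¹ * (⟨d, hd⟩ : ↥L₀))).1 (by
        rw [map_mul, map_inv, map_mul, map_pow, F.t_val, hi, inv_mul_cancel]) |> fun h => by simpa using h
    intro v
    rw [show d = zz ^ (i : ℕ) * t * ((zz ^ (i : ℕ) * t)⁻¹ * d) by group,
      show ∀ a b c : G, a * b * c * (a * b)⁻¹ = a * (b * c * b⁻¹) * a⁻¹ from fun a b c => by group,
      hq _ hmem ((hzc.mul_left htz).inv_left.mul_left hdz) v,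
      show ∀ a b c : G, a * b * c * (a * b)⁻¹ = a * (b * c * b⁻¹) * a⁻¹ from fun a b c => by group,
      H.acts_t F B C v, hzi]

/-- The determinant is the multiplier. -/
theorem Hyp.det_eq_mult {n : G} (hn : n ∈ normalizer (J : Set G)) {m : Mat}
    (hm : Acts z zz x y n m) : det4 m = mult m := by
  obtain ⟨k, hk, hkz⟩ := H.exists_back F B C hn
  have hkN := H.M_le hk
  obtain ⟨k', hk', a, b, ε, hε, hblk⟩ := H.exists_back' F B C (mul_mem hkN hn) hkz
  have hk'N := H.S_le_normalizer_J F (H.Q_le_S hk')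
  obtain ⟨mk, hmk, -, -⟩ := H.exists_acts F B C (mul_mem hk'N hkN)
  obtain ⟨d1, u1⟩ := H.det_M F B C (mul_mem (H.Q_le_M F hk') hk) mk hmk
  have heq : blk a b ε = comp mk m := H.acts_unique F B C hblk (by rw [← mul_assoc]; exact hmk.mul hm)
  have hd : det4 (blk a b ε) = det4 m := by rw [heq, det4_comp, d1, one_mul]
  have hu : mult (blk a b ε) = mult m := by
    rw [heq, H.mult_comp F B C (n' := n) (mul_mem hk'N hkN) hmk, u1, one_mul]
  have hμε : mult (blk a b ε) = ε := by simp [mult, blk, bil, vz]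
  rw [← hd, ← hu, det4_blk, hμε]
  -- compare with the action of `g`
  set c := k' * (k * n) with hcdef
  have hcN : c ∈ normalizer (J : Set G) := mul_mem hk'N (mul_mem hkN hn)
  obtain ⟨hz, hz', hx, hy⟩ := H.mems F B C
  obtain ⟨e0, ez, ew1, ew2, ez'⟩ := emb_basis z zz x y
  obtain ⟨g, hgL, -, hgg, hgJ, hgz, hgi⟩ := H.exists_g F B C
  obtain ⟨mg, hmg, -, hsimg⟩ := H.exists_acts F B C hgJ
  have hg1 : mg.1 = vz := C.inj (by rw [← (app_basis mg).1, ← hmg, ez, hgz])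
  have hg4 : mg.2.2.2 = -vz' := by
    refine C.inj ?_
    rw [← (app_basis mg).2.2.2, ← hmg, ez', hgi]
    have h0 := H.emb_mul F B C (-vz') vz'
    rw [neg_add_cancel, e0, ez'] at h0
    exact (eq_inv_of_mul_eq_one_left h0.symm).symm
  have hμg : mult mg = -1 := by rw [mult, hg1, hg4]; decide
  have horth : ∀ i : V, bil i vz = 0 → bil i vz' = 0 → (app mg i).1 = 0 ∧ (app mg i).2.2.2 = 0 := by
    intro i hi hi'
    have a1 := bil_app mg i vz hsimg
    have a4 := bil_app mg i vz' hsimg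
    rw [(app_basis mg).1, hg1, hi, mul_zero] at a1
    rw [(app_basis mg).2.2.2, hg4, hi', mul_zero] at a4
    exact (show ∀ v : V, bil v vz = 0 → bil v (-vz') = 0 → v.1 = 0 ∧ v.2.2.2 = 0 by
      decide +kernel) _ a1 a4
  obtain ⟨p2, p2'⟩ := horth vw1 (by decide) (by decide)
  obtain ⟨p3, p3'⟩ := horth vw2 (by decide) (by decide)
  rw [(app_basis mg).2.1] at p2 p2'
  rw [(app_basis mg).2.2.1] at p3 p3'
  obtain ⟨c1, hc1⟩ : ∃ c1 : ZMod 3 × ZMod 3, mg.2.1 = (0, c1.1, c1.2, 0) := ⟨(_, _), blk_of _ p2 p2'⟩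
  obtain ⟨d2, hd2⟩ : ∃ d2 : ZMod 3 × ZMod 3, mg.2.2.1 = (0, d2.1, d2.2, 0) := ⟨(_, _), blk_of _ p3 p3'⟩
  have hmgeq : mg = blk c1 d2 (-1) := by
    unfold blk
    ext1; · exact hg1
    ext1; · exact hc1
    ext1; · exact hd2
    rw [hg4]; simp [vz', Prod.ext_iff]
  subst hmgeq
  have hsq : comp (blk c1 d2 (-1)) (blk c1 d2 (-1)) = tMat :=
    H.acts_unique F B C (hmg.mul hmg) (by rw [hgg]; exact H.acts_t F B C)
  -- `c` normalizes `L₀`
  have hcz : c * z * c⁻¹ = z := by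
    have h := hblk vz
    rw [ez, (app_basis _).1] at h
    exact h.trans ez
  have hcZ : c ∈ centralizer (Z : Set G) := by
    refine mem_centralizer_iff.2 fun a ha => ?_
    obtain ⟨i, rfl⟩ := H.zp_Z C.z_mem C.z_ne ha
    exact ((Commute.pow_right (mul_inv_eq_iff_eq_mul.1 hcz : Commute c z) _).eq).symm
  have hcL := H.normalizer_le_L (H.cent_le hcZ)
  have hdL : g⁻¹ * (c * g * c⁻¹) ∈ L₀ :=
    mul_mem (inv_mem hgL) ((mem_normalizer_iff.1 hcL g).1 hgL)
  have hczz : c * zz * c⁻¹ = zz ^ ε.val := by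
    have h := hblk vz'
    rw [ez', (app_basis _).2.2.2] at h
    rw [h, ← ez', ← H.emb_pow F B C, ez']
    congr 1
    simp [blk, sc, vz', Prod.ext_iff]
  have hconj : c⁻¹ * zz ^ ε.val * c = zz := by rw [← hczz]; group
  have hgc : c * g * c⁻¹ * (zz ^ ε.val) * (c * g * c⁻¹)⁻¹ = (zz ^ ε.val)⁻¹ := by
    calc c * g * c⁻¹ * (zz ^ ε.val) * (c * g * c⁻¹)⁻¹ = c * (g * (c⁻¹ * zz ^ ε.val * c) * g⁻¹) * c⁻¹ := by group
      _ = c * zz⁻¹ * c⁻¹ := by rw [hconj, hgi]
      _ = _ := by rw [← hczz]; group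
  have hgz2 : c * g * c⁻¹ * zz * (c * g * c⁻¹)⁻¹ = zz⁻¹ := by
    rcases zmod_cases.2.2 ε hε with rfl | rfl
    · simpa [ZMod.val_one] using hgc
    · rw [show (-1 : ZMod 3).val = 2 from rfl] at hgc
      have e2 : zz ^ 2 = zz⁻¹ := eq_inv_of_mul_eq_one_left (by rw [← pow_succ]; exact H.J_exp zz hz')
      rw [e2, inv_inv] at hgc
      calc c * g * c⁻¹ * zz * (c * g * c⁻¹)⁻¹ = (c * g * c⁻¹ * zz⁻¹ * (c * g * c⁻¹)⁻¹)⁻¹ := by group
        _ = zz⁻¹ := by rw [hgc]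
  have hdc : Commute (g⁻¹ * (c * g * c⁻¹)) zz := by
    refine mul_inv_eq_iff_eq_mul.1 ?_
    rw [show g⁻¹ * (c * g * c⁻¹) * zz * (g⁻¹ * (c * g * c⁻¹))⁻¹ =
      g⁻¹ * (c * g * c⁻¹ * zz * (c * g * c⁻¹)⁻¹) * g by group, hgz2, ← hgi]
    group
  obtain ⟨q2, hq2, -, -⟩ := H.exists_acts F B C (inv_mem hcN)
  have key : ∀ md, Acts z zz x y (g⁻¹ * (c * g * c⁻¹)) md →
      comp (blk a b ε) (blk c1 d2 (-1)) = comp (comp (blk c1 d2 (-1)) md) (blk a b ε) := by
    intro md hmd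
    refine H.acts_unique F B C (hblk.mul hmg) ?_
    have h := (hmg.mul hmd).mul hblk
    rwa [show g * (g⁻¹ * (c * g * c⁻¹)) * c = c * g by group] at h
  obtain ⟨mc, hmc, -, hsc⟩ := H.exists_acts F B C hcN
  obtain rfl := H.acts_unique F B C hmc hblk
  have sa := hsc vw1
  have sb := hsc vw2
  have sab := bil_app _ vw1 vw2 hsc
  have sc1 := hsimg vw1
  have sd1 := hsimg vw2
  rw [hμε] at sa sb sab
  rw [(app_basis _).2.1] at sa sc1
  rw [(app_basis _).2.2.1] at sb sd1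
  rw [(app_basis _).2.1, (app_basis _).2.2.1] at sab
  rw [hμg] at sc1 sd1
  simp [blk, qf, bil, vw1, vw2] at sa sb sab sc1 sd1
  simp [comp, app, sc, blk, tMat, vz, Prod.ext_iff] at hsq
  obtain ⟨⟨s1, s2⟩, s3, s4⟩ := hsq
  suffices a.1 * b.2 - a.2 * b.1 = 1 by rw [this, one_mul]
  refine plane_det a b c1 d2 ε ?_ ?_ (by linear_combination s1) (by linear_combination s2)
    (by linear_combination s3) (by linear_combination s4) ?_ ?_ ?_ hε ?_
  · linear_combination (-1 : ZMod 3) * sc1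
  · linear_combination (-1 : ZMod 3) * sd1
  · linear_combination (-1 : ZMod 3) * sa
  · linear_combination (-1 : ZMod 3) * sb
  · exact (show ∀ e : ZMod 3, -2 * e = 0 → e = 0 by decide) _ (by linear_combination sab)
  rcases H.cent_L_acts F B C hdL hdc with h | h
  · left
    have h' := key _ h
    simp [comp, app, sc, blk, Model.one, vz, vw1, vw2, vz', Prod.ext_iff] at h'
    obtain ⟨⟨r1, r2⟩, r3, r4⟩ := h'
    exact ⟨by linear_combination r1, by linear_combination r2, by linear_combination r3,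
      by linear_combination r4⟩
  · right
    have h' := key _ h
    simp [comp, app, sc, blk, tMat, vz, Prod.ext_iff] at h'
    obtain ⟨⟨r1, r2⟩, r3, r4⟩ := h'
    exact ⟨by linear_combination r1, by linear_combination r2, by linear_combination r3,
      by linear_combination r4⟩

end Cfsg.Agent.McLThree
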