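import Cfsg.Agent.Lib.McLThree.Bound

/-!
# The elementary subgroup `E = C_J(t)`

`E` has order nine, `C(E) = R (C(E) ∩ C(t))` with `R = J ∩ Q`, and `N(E) ≤ N(J)`.
-/

set_option autoImplicit false
set_option linter.unusedSectionVars false
set_option linter.style.haveILetI false

namespace Cfsg.Agent.McLThree

open Subgroup
open scoped Pointwise

universe u

variable {G : Type u} [Group G] [Finite G] {S : Sylow 3 G} {Z J M₀ L₀ Q : Subgroup G}
  (H : Hyp S Z J M₀ L₀ Q) {π : ↥L₀ →* SL5} {t f : G} (F : Frame Q L₀ π t f)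
include H F

theorem Hyp.t_norm_S : t ∈ normalizer ((S : Subgroup G) : Set G) :=
  Subgroup.mem_normalizer_fintype fun g hg => by
    rw [show t * g * t⁻¹ = t * g * t⁻¹ * g⁻¹ * g by group]
    exact mul_mem (H.Q_le_S (H.t_comm_L F (H.S_le_L hg))) hg

theorem Hyp.t_norm_J : t ∈ normalizer (J : Set G) := H.normalizer_S_le F (H.t_norm_S F)

/-- `C_J(t)`. -/
abbrev Ej (J : Subgroup G) (t : G) : Subgroup G := J ⊓ centralizer ({t} : Set G)

theorem Hyp.Z_le_Ej : Z ≤ Ej J t := le_inf (H.Z_le_J F) fun z hz =>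
  mem_centralizer_singleton_iff.2 (mem_centralizer_iff.1 (H.L_le_cent F.t_mem) z hz)

theorem Hyp.Ej_inf_Q {x : G} (hx : x ∈ Ej J t) (hxQ : x ∈ Q) : x ∈ Z :=
  H.eq_Z_of_t F hxQ (mem_centralizer_singleton_iff.1 hx.2).symm

theorem Hyp.exists_Ej : ∃ e ∈ Ej J t, e ∉ Q := by
  obtain ⟨a, haJ, haQ⟩ := SetLike.not_le_iff_exists.1 (H.abelian_facts F H.J_le H.J_comm H.J_card).1
  have htt : t * t = 1 := by rw [← pow_two, ← F.t_two, pow_orderOf_eq_one]
  have hti : t⁻¹ = t := inv_eq_of_mul_eq_one_right htt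
  have ha' : t * a * t⁻¹ ∈ J := (mem_normalizer_iff.1 (H.t_norm_J F) a).1 haJ
  refine ⟨a * (t * a * t⁻¹), ⟨mul_mem haJ ha', mem_centralizer_singleton_iff.2 ?_⟩, fun h => haQ ?_⟩
  · have hc := H.J_comm a haJ _ ha'
    rw [hti] at hc ⊢
    calc a * (t * a * t) * t = a * t * a * (t * t) := by group
      _ = t * t * a * t * a := by rw [htt, one_mul, mul_one]
      _ = t * ((t * a * t) * a) := by group
      _ = t * (a * (t * a * t)) := by rw [hc]
  · have hq := H.t_comm_L F (H.S_le_L (H.J_le haJ))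
    have h2 : a * a ∈ Q := by
      refine (mul_mem_cancel_left ((mem_normalizer_iff.1 (H.L_le_normalizer_Q (H.S_le_L (H.J_le haJ))) _).1 hq)).1 ?_
      rwa [show a * (t * a * t⁻¹ * a⁻¹) * a⁻¹ * (a * a) = a * (t * a * t⁻¹) by group]
    have h3 := mul_mem h2 h2
    rwa [show a * a * (a * a) = a * a ^ 3 by simp only [pow_succ, pow_zero, one_mul, mul_assoc], H.J_exp a haJ,
      mul_one] at h3

theorem Hyp.card_Ej : Nat.card ↥(Ej J t) = 9 := by
  have hle : Nat.card ↥(Ej J t ⊓ (J ⊓ Q)) = 3 := by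
    rw [← H.card_Z, show Ej J t ⊓ (J ⊓ Q) = Z from le_antisymm (fun x hx => H.Ej_inf_Q F hx.1 hx.2.2)
      (le_inf (H.Z_le_Ej F) (le_inf (H.Z_le_J F) H.Z_le_Q))]
  have h := Hall.card_mul_inf (Ej J t) (J ⊓ Q)
  rw [hle, H.card_J_inf_Q F] at h
  have hsub : Nat.card ↥((Ej J t : Set G) * ((J ⊓ Q : Subgroup G) : Set G)) ≤ 81 :=
    (Nat.card_mono (Set.toFinite _) (by
      rintro _ ⟨a, ha, b, hb, rfl⟩
      exact mul_mem ha.1 hb.1)).trans_eq H.J_card
  haveI : Fact (Nat.Prime 3) := ⟨Nat.prime_three⟩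
  obtain ⟨j, -, hj⟩ := (Nat.dvd_prime_pow Nat.prime_three).1
    (show Nat.card ↥(Ej J t) ∣ 3 ^ 4 by have := card_dvd_of_le (inf_le_left : Ej J t ≤ J); rwa [H.J_card] at this)
  obtain ⟨e, he, heQ⟩ := H.exists_Ej F
  have h3 : 3 < Nat.card ↥(Ej J t) := by
    rw [← H.card_Z]
    by_contra hcon
    exact heQ (H.Z_le_Q ((eq_of_le_of_card_ge (H.Z_le_Ej F) (by omega)).ge he))
  have h9 : Nat.card ↥(Ej J t) ≤ 9 := by omega
  rw [hj] at h3 h9 ⊢
  have h1 : 1 < j := (Nat.pow_lt_pow_iff_right (a := 3) (by norm_num)).1 (by simpa using h3)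
  have h2 : j ≤ 2 := (Nat.pow_le_pow_iff_right (a := 3) (by norm_num)).1 (by simpa using h9)
  rw [show j = 2 by omega]
  norm_num

/-- An element centralising `E` is an element of `J ∩ Q` times one commuting with `t`. -/
theorem Hyp.exists_cent_Ej {g : G} (hg : g ∈ centralizer (Ej J t : Set G)) :
    ∃ r ∈ J ⊓ Q, ∃ c ∈ centralizer (Ej J t : Set G), Commute c t ∧ g = r * c := by
  have hgZ : g ∈ centralizer (Z : Set G) := mem_centralizer_iff.2 fun z hz =>
    mem_centralizer_iff.1 hg z (H.Z_le_Ej F hz)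
  obtain ⟨q, hq, c, -, hct, rfl⟩ := H.exists_commute F (H.cent_le hgZ)
  obtain ⟨e, he, heQ⟩ := H.exists_Ej F
  have htt : t * t = 1 := by rw [← pow_two, ← F.t_two, pow_orderOf_eq_one]
  have hti : t⁻¹ = t := inv_eq_of_mul_eq_one_right htt
  have het : Commute e t := mem_centralizer_singleton_iff.1 he.2
  set q' := t * q * t⁻¹
  have hz : q' * q ∈ Z := H.t_inverts F hq
  have hc : c * e * c⁻¹ = q⁻¹ * e * q := by
    have h := mem_centralizer_iff.1 hg e he
    calc c * e * c⁻¹ = q⁻¹ * (q * c * e) * c⁻¹ := by group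
      _ = q⁻¹ * (e * (q * c)) * c⁻¹ := by rw [h]
      _ = _ := by group
  have hce : t * (q⁻¹ * e * q) * t⁻¹ = q⁻¹ * e * q := by
    rw [← hc]
    exact mul_inv_eq_iff_eq_mul.2 ((hct.mul_left het).mul_left hct.inv_left).symm.eq
  have hte : t * e * t⁻¹ = e := by rw [← het.eq, mul_inv_cancel_right]
  have h1 : q'⁻¹ * e * q' = q⁻¹ * e * q := by
    conv_lhs => rw [← hte]
    rw [← hce]
    simp only [q']
    group
  -- `q * q'⁻¹` commutes with `e`
  have hw : Commute (q * q'⁻¹) e := by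
    show q * q'⁻¹ * e = e * (q * q'⁻¹)
    calc q * q'⁻¹ * e = q * (q'⁻¹ * e * q') * q'⁻¹ := by group
      _ = q * (q⁻¹ * e * q) * q'⁻¹ := by rw [h1]
      _ = _ := by group
  have heS : e ∈ (S : Subgroup G) := H.J_le he.1
  have hze : Commute (q' * q) e := (H.Z_comm hz heS).symm
  have hqe : Commute q e := by
    have h2 : q * q'⁻¹ = q * q * (q' * q)⁻¹ := by group
    have h3 : Commute (q * q) e := by
      have h := hw.mul_left hze
      rwa [h2, inv_mul_cancel_right] at h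
    have h4 := h3.mul_left h3
    rwa [show q * q * (q * q) = q * q ^ 3 by simp only [pow_succ, pow_zero, one_mul, mul_assoc], H.Q_exp q hq, mul_one] at h4
  have hqR : q ∈ J ⊓ Q := by
    rw [← H.fix_eq F heS heQ]
    refine ⟨hq, ?_⟩
    rw [show e * q * e⁻¹ = q by rw [hqe.symm.eq, mul_inv_cancel_right], mul_inv_cancel]
    exact one_mem _
  refine ⟨q, hqR, c, ?_, hct, rfl⟩
  have hqc : q ∈ centralizer (Ej J t : Set G) := mem_centralizer_iff.2 fun x hx => H.J_comm x hx.1 q hqR.1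
  have h := mul_mem (inv_mem hqc) hg
  rwa [inv_mul_cancel_left] at h

/-- An element centralising `E` and commuting with `t` normalizes `J`. -/
theorem Hyp.cent_Ej_norm {g : G} (hg : g ∈ centralizer (Ej J t : Set G)) : g ∈ normalizer (J : Set G) := by
  obtain ⟨r, hr, c, hc, hct, rfl⟩ := H.exists_cent_Ej F hg
  refine mul_mem (le_normalizer hr.1) (Subgroup.mem_normalizer_fintype fun x hx => ?_)
  obtain ⟨e, he, heQ⟩ := H.exists_Ej F
  have hcZ : c ∈ centralizer (Z : Set G) := mem_centralizer_iff.2 fun z hz =>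
    mem_centralizer_iff.1 hc z (H.Z_le_Ej F hz)
  -- `J = E (J ∩ Q)`
  have hJ : (Ej J t : Set G) * ((J ⊓ Q : Subgroup G) : Set G) = (J : Set G) := by
    have hsub : (Ej J t : Set G) * ((J ⊓ Q : Subgroup G) : Set G) ⊆ (J : Set G) := by
      rintro _ ⟨a, ha, b, hb, rfl⟩
      exact mul_mem ha.1 hb.1
    refine Set.eq_of_subset_of_ncard_le hsub ?_ (Set.toFinite _)
    rw [← Nat.card_coe_set_eq, ← Nat.card_coe_set_eq]
    have h := Hall.card_mul_inf (Ej J t) (J ⊓ Q)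
    rw [show Ej J t ⊓ (J ⊓ Q) = Z from le_antisymm (fun y hy => H.Ej_inf_Q F hy.1 hy.2.2)
      (le_inf (H.Z_le_Ej F) (le_inf (H.Z_le_J F) H.Z_le_Q)), H.card_Z, H.card_J_inf_Q F, H.card_Ej F] at h
    have : Nat.card ↥(J : Set G) = 81 := H.J_card
    omega
  rw [← hJ] at hx
  obtain ⟨a, ha, b, hb, rfl⟩ := hx
  rw [show c * (a * b) * c⁻¹ = (c * a * c⁻¹) * (c * b * c⁻¹) by group,
    ← mem_centralizer_iff.1 hc a ha, mul_inv_cancel_right]
  refine mul_mem ha.1 ?_
  have hb' : b ∈ H.fix (H.S_le_L (H.J_le he.1)) := by rw [H.fix_eq F (H.J_le he.1) heQ]; exact hb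
  suffices hm : c * b * c⁻¹ ∈ H.fix (H.S_le_L (H.J_le he.1)) by
    rw [H.fix_eq F (H.J_le he.1) heQ] at hm
    exact hm.1
  refine ⟨H.conj_Q hcZ hb'.1, ?_⟩
  have hce : c * e * c⁻¹ = e := by rw [← mem_centralizer_iff.1 hc e he, mul_inv_cancel_right]
  rw [show e * (c * b * c⁻¹) * e⁻¹ * (c * b * c⁻¹)⁻¹ = c * (e * b * e⁻¹ * b⁻¹) * c⁻¹ by
    conv_lhs => rw [← hce]
    group, H.conj_Z hcZ hb'.2]
  exact hb'.2

theorem Hyp.card_cent_Ej : Nat.card ↥(centralizer (Ej J t : Set G)) =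
    9 * Nat.card ↥(centralizer (Ej J t : Set G) ⊓ centralizer ({t} : Set G)) := by
  set C := centralizer (Ej J t : Set G)
  set D := C ⊓ centralizer ({t} : Set G)
  have hRC : J ⊓ Q ≤ C := fun r hr => mem_centralizer_iff.2 fun x hx => H.J_comm x hx.1 r hr.1
  have hset : ((J ⊓ Q : Subgroup G) : Set G) * (D : Set G) = (C : Set G) := by
    refine Set.Subset.antisymm ?_ fun g hg => ?_
    · rintro _ ⟨a, ha, b, hb, rfl⟩
      exact mul_mem (hRC ha) hb.1
    · obtain ⟨r, hr, c, hc, hct, rfl⟩ := H.exists_cent_Ej F hg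
      exact ⟨r, hr, c, ⟨hc, mem_centralizer_singleton_iff.2 hct.eq⟩, rfl⟩
  have hint : (J ⊓ Q) ⊓ D = Z := le_antisymm
    (fun x hx => H.eq_Z_of_t F hx.1.2 (mem_centralizer_singleton_iff.1 hx.2.2).symm)
    (le_inf (le_inf (H.Z_le_J F) H.Z_le_Q) fun z hz => ⟨mem_centralizer_iff.2 fun x hx =>
      H.J_comm x hx.1 z (H.Z_le_J F hz), (H.Z_le_Ej F hz).2⟩)
  have h := Hall.card_mul_inf (J ⊓ Q) D
  rw [hset, hint, H.card_Z, H.card_J_inf_Q F] at h
  change Nat.card ↥C * 3 = _ at h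
  omega

theorem Hyp.normalizer_Ej_le : normalizer (Ej J t : Set G) ≤ normalizer (J : Set G) := by
  haveI : Fact (Nat.Prime 3) := ⟨Nat.prime_three⟩
  intro g hg
  set C := centralizer (Ej J t : Set G) with hC
  have hJC : J ≤ C := fun r hr => mem_centralizer_iff.2 fun x hx => H.J_comm x hx.1 r hr
  set J' := J.map (MulAut.conj g).toMonoidHom with hJ'
  have hJ'C : J' ≤ C := by
    rintro _ ⟨r, hr, rfl⟩
    refine mem_centralizer_iff.2 fun x hx => ?_
    have hx' : g⁻¹ * x * g ∈ Ej J t := (mem_normalizer_iff''.1 hg x).1 hx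
    have h := mem_centralizer_iff.1 (hJC hr) _ hx'
    show x * (g * r * g⁻¹) = g * r * g⁻¹ * x
    calc x * (g * r * g⁻¹) = g * ((g⁻¹ * x * g) * r) * g⁻¹ := by group
      _ = g * (r * (g⁻¹ * x * g)) * g⁻¹ := by rw [h]
      _ = _ := by group
  haveI : (J.subgroupOf C).Normal := normal_subgroupOf_of_le_normalizer fun c hc => H.cent_Ej_norm F hc
  have hidx : ¬ 3 ∣ (J.subgroupOf C).index := by
    intro hd
    have h := (J.subgroupOf C).card_mul_index
    rw [Nat.card_congr (subgroupOfEquivOfLe hJC).toEquiv, H.J_card, H.card_cent_Ej F] at h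
    have hK : Nat.card ↥(C ⊓ centralizer ({t} : Set G)) ∣ Nat.card ↥(centZt Z t) :=
      card_dvd_of_le (le_inf (fun x hx => mem_centralizer_iff.2 fun z hz =>
        mem_centralizer_iff.1 hx.1 z (H.Z_le_Ej F hz)) inf_le_right)
    obtain ⟨k, hk⟩ := hd
    rw [hk] at h
    have h27 : Nat.card ↥(C ⊓ centralizer ({t} : Set G)) = 27 * k := by change 81 * (3 * k) = 9 * Nat.card ↥(C ⊓ centralizer ({t} : Set G)) at h; omega
    rw [h27] at hK
    have h27' : 27 ∣ Nat.card ↥(centZt Z t) := dvd_trans (dvd_mul_right 27 k) hK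
    rcases H.card_centZt F with ⟨e, -⟩ | ⟨e, -⟩ <;> rw [e] at h27' <;> norm_num at h27'
  have hle : J' ≤ J := by
    intro x hx
    obtain ⟨r, hr, rfl⟩ := hx
    set y : ↥C := ⟨_, hJ'C ⟨r, hr, rfl⟩⟩
    have h3 : (y : ↥C ⧸ J.subgroupOf C) = 1 := by
      refine orderOf_eq_one_iff.1 (Nat.eq_one_of_dvd_coprimes ((Nat.prime_three.coprime_iff_not_dvd).2 hidx) ?_ ?_)
      · refine orderOf_dvd_of_pow_eq_one ?_
        rw [← QuotientGroup.mk_pow, show y ^ 3 = 1 from Subtype.ext (by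
          show (g * r * g⁻¹) ^ 3 = 1
          rw [conj_pow, H.J_exp r hr, mul_one, mul_inv_cancel]), QuotientGroup.mk_one]
      · exact orderOf_dvd_natCard _
    exact mem_subgroupOf.1 ((QuotientGroup.eq_one_iff y).1 h3)
  refine Subgroup.mem_normalizer_fintype fun x hx => hle ⟨x, hx, rfl⟩

end Cfsg.Agent.McLThree
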