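import Cfsg.Agent.GroupStructure3.McLOut.Main
import Cfsg.Agent.Lib.ThreeTransp.FarCore

/-!
# The generalized Fitting subgroup of the group of McLaughlin and of its automorphism group
-/

set_option autoImplicit false
set_option linter.unusedSectionVars false
set_option linter.style.haveILetI false

namespace Cfsg.Agent.McLThree

open Subgroup Cfsg

universe u

theorem mcl_facts : Finite ↥Spor.McL ∧ IsSimpleGroup ↥Spor.McL ∧ ¬ IsMulCommutative ↥Spor.McL ∧
    center ↥Spor.McL = ⊥ := by
  obtain ⟨E⟩ := GroupStructure3.McLOut.nonempty_equiv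
  have hG : Nat.card ↥Spor.McL = 898128000 := (Nat.card_congr E.toEquiv).trans LeechAut.McL.card_G
  haveI hf : Finite ↥Spor.McL := Nat.finite_of_card_ne_zero (by rw [hG]; norm_num)
  haveI hs : IsSimpleGroup ↥Spor.McL := E.isSimpleGroup_congr.2 LeechAut.McL.isSimple_G
  have hna : ¬ IsMulCommutative ↥Spor.McL := by
    intro h
    have hp : (Nat.card ↥Spor.McL).Prime := by
      letI : CommGroup ↥Spor.McL := { (inferInstance : Group ↥Spor.McL) with mul_comm := mul_comm' }
      exact IsSimpleGroup.prime_card
    rw [hG] at hp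
    exact absurd hp (Nat.not_prime_mul (a := 2) (b := 449064000) (by norm_num) (by norm_num))
  refine ⟨hf, hs, hna, ?_⟩
  rcases (inferInstance : (center ↥Spor.McL).Normal).eq_bot_or_eq_top with h | h
  · exact h
  · exact absurd ⟨⟨fun a b => ((mem_center_iff.1 (h ▸ mem_top a)) b).symm⟩⟩ hna

/-- A group isomorphic to the group of McLaughlin or to its automorphism group has that group as generalized
Fitting subgroup. -/
theorem fstar_of_conclusion {G : Type u} [Group G] [Finite G]
    (h : Nonempty (G ≃* ↥Spor.McL) ∨ Nonempty (G ≃* MulAut ↥Spor.McL)) :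
    Spor.IsoMcL ↥(generalizedFittingSubgroup G) := by
  obtain ⟨hf, hs, hna, hz⟩ := mcl_facts
  haveI := hf
  haveI := hs
  rcases h with ⟨⟨e⟩⟩ | ⟨⟨e⟩⟩
  · haveI : IsSimpleGroup ↥(⊤ : Subgroup G) := (Subgroup.topEquiv.trans e).isSimpleGroup_congr.2 hs
    have hF := ThreeTransp.FarCore.genFitting_eq (G := G) (N := ⊤) inferInstance
      (fun h => hna ⟨⟨fun a b => by
        have h' := congrArg (Subgroup.topEquiv.trans e)
          (h.is_comm.comm ((Subgroup.topEquiv.trans e).symm a) ((Subgroup.topEquiv.trans e).symm b))
        simpa using h'⟩⟩) (by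
        rw [eq_bot_iff]
        intro g hg
        have : e g ∈ center ↥Spor.McL := mem_center_iff.2 fun w => by
          have h' := congrArg e (mem_centralizer_iff.1 hg (e.symm w) (mem_top _))
          simpa using h'
        rw [hz, mem_bot, MulEquiv.map_eq_one_iff] at this
        exact this)
    exact ⟨((MulEquiv.subgroupCongr hF).trans Subgroup.topEquiv).trans e⟩
  · set f : ↥Spor.McL →* G := e.symm.toMonoidHom.comp MulAut.conj
    have hinj : Function.Injective f := by
      rw [injective_iff_map_eq_one]
      intro a ha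
      have h1 : MulAut.conj a = 1 := e.symm.injective (ha.trans (map_one e.symm).symm)
      have : a ∈ center ↥Spor.McL := mem_center_iff.2 fun w => by
        have h' : a * w * a⁻¹ = w := DFunLike.congr_fun h1 w
        exact (mul_inv_eq_iff_eq_mul.1 h').symm
      rwa [hz, mem_bot] at this
    set N := f.range
    let E : ↥Spor.McL ≃* ↥N := MonoidHom.ofInjective hinj
    haveI : N.Normal := by
      refine ⟨fun x hx g => ?_⟩
      obtain ⟨a, rfl⟩ := hx
      refine ⟨e g a, e.injective ?_⟩
      show e (e.symm (MulAut.conj (e g a))) = e (g * e.symm (MulAut.conj a) * g⁻¹)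
      rw [map_mul, map_mul, map_inv, e.apply_symm_apply, e.apply_symm_apply]
      refine MulEquiv.ext fun w => ?_
      show e g a * w * (e g a)⁻¹ = e g (a * (e g)⁻¹ w * a⁻¹)
      rw [map_mul, map_mul, map_inv]
      simp
    haveI : IsSimpleGroup ↥N := E.symm.isSimpleGroup_congr.2 hs
    have hF := ThreeTransp.FarCore.genFitting_eq (N := N) inferInstance
      (fun h => hna ⟨⟨fun a b => E.injective (by rw [map_mul, map_mul]; exact h.is_comm.comm _ _)⟩⟩) (by
        rw [eq_bot_iff]
        intro g hg
        rw [mem_bot, ← e.map_eq_one_iff]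
        refine MulEquiv.ext fun w => ?_
        have hc : f w * g = g * f w := mem_centralizer_iff.1 hg _ ⟨w, rfl⟩
        have h1 : MulAut.conj (e g w) = MulAut.conj w := by
          refine MulEquiv.ext fun x => ?_
          have h' := congrArg e hc
          simp only [map_mul, f, MonoidHom.comp_apply, MulEquiv.coe_toMonoidHom, e.apply_symm_apply] at h'
          have h'' := DFunLike.congr_fun h' ((e g)⁻¹ x)
          simpa using h''.symm
        have h2 : (w⁻¹ * e g w) ∈ center ↥Spor.McL := mem_center_iff.2 fun x => by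
          have h' : e g w * x * (e g w)⁻¹ = w * x * w⁻¹ := DFunLike.congr_fun h1 x
          calc x * (w⁻¹ * e g w) = w⁻¹ * (w * x * w⁻¹) * e g w := by group
            _ = w⁻¹ * (e g w * x * (e g w)⁻¹) * e g w := by rw [h']
            _ = _ := by group
        rw [hz, mem_bot, inv_mul_eq_one] at h2
        exact h2.symm)
    exact ⟨(MulEquiv.subgroupCongr hF).trans E.symm⟩

end Cfsg.Agent.McLThree
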