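import Cfsg.Agent.Lib.McLThree.SLAut

/-!
# The automorphisms of `SL₂(5)` on five points

They permute the five quaternion subgroups; this gives an embedding in `Sym 5`.
-/

set_option autoImplicit false
set_option linter.style.setOption false

namespace Cfsg.Agent.McLThree

/-- The quaternion group spanned by two elements. -/
def quad (a b : SL5) : Finset SL5 :=
  {1, neg5, a, neg5 * a, b, neg5 * b, a * b, neg5 * (a * b)}

/-- A second element of order four. -/
def four5' : SL5 := ⟨!![2, 0; 0, 3], by decide +kernel⟩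

/-- The five quaternion subgroups. -/
def pts (i : Fin 5) : Finset SL5 :=
  (quad four5 four5').image fun x => five5 ^ (i : ℕ) * x * (five5 ^ (i : ℕ))⁻¹

set_option maxRecDepth 1000000 in
theorem quad_mem : ∀ a : SL5, a * a = neg5 → ∀ b : SL5, b * b = neg5 → a * b = neg5 * (b * a) →
    ∃ i : Fin 5, quad a b = pts i := by
  decide +kernel

theorem four_facts : four5 * four5 = neg5 ∧ four5' * four5' = neg5 ∧
    four5 * four5' = neg5 * (four5' * four5) := by decide +kernel

set_option maxRecDepth 1000000 in
theorem pts_inj : ∀ i j : Fin 5, pts i = pts j → i = j := by decide +kernel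

set_option maxRecDepth 1000000 in
theorem pts_faithful : ∀ σ : SL5, (∀ i : Fin 5, ∀ x ∈ pts i, σ * x * σ⁻¹ ∈ pts i) → σ = 1 ∨ σ = neg5 := by
  decide +kernel

theorem image_quad (β : MulAut SL5) (a b : SL5) : (quad a b).image β = quad (β a) (β b) := by
  simp only [quad, Finset.image_insert, Finset.image_singleton, map_mul, map_neg5, map_one]

theorem exists_image (α : MulAut SL5) (i : Fin 5) : ∃ j, (pts i).image α = pts j := by
  obtain ⟨ha, hb, hab⟩ := four_facts
  set β : MulAut SL5 := α * MulAut.conj (five5 ^ (i : ℕ))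
  have hq : (pts i).image α = quad (β four5) (β four5') := by
    rw [← image_quad, pts, Finset.image_image]
    rfl
  rw [hq]
  refine quad_mem _ ?_ _ ?_ ?_
  · rw [← map_mul, ha, map_neg5]
  · rw [← map_mul, hb, map_neg5]
  · exact ((map_mul β _ _).symm.trans (congrArg β hab)).trans (by rw [map_mul, map_mul, map_neg5])

/-- The image of a point. -/
noncomputable def ptsMap (α : MulAut SL5) (i : Fin 5) : Fin 5 := (exists_image α i).choose

theorem ptsMap_spec (α : MulAut SL5) (i : Fin 5) : (pts i).image α = pts (ptsMap α i) :=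
  (exists_image α i).choose_spec

theorem ptsMap_mul (α β : MulAut SL5) (i : Fin 5) : ptsMap (α * β) i = ptsMap α (ptsMap β i) := by
  refine pts_inj _ _ ?_
  rw [← ptsMap_spec, ← ptsMap_spec, ← ptsMap_spec, Finset.image_image]
  rfl

theorem ptsMap_one (i : Fin 5) : ptsMap 1 i = i := pts_inj _ _ (by
  rw [← ptsMap_spec]; exact Finset.image_id)

/-- The action on the five points. -/
noncomputable def toPerm5 : MulAut SL5 →* Equiv.Perm (Fin 5) where
  toFun α :=
    { toFun := ptsMap α
      invFun := ptsMap α⁻¹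
      left_inv := fun i => by rw [← ptsMap_mul, inv_mul_cancel, ptsMap_one]
      right_inv := fun i => by rw [← ptsMap_mul, mul_inv_cancel, ptsMap_one] }
  map_one' := Equiv.ext ptsMap_one
  map_mul' α β := Equiv.ext (ptsMap_mul α β)

theorem toPerm5_injective : Function.Injective toPerm5 := by
  rw [injective_iff_map_eq_one]
  intro α hα
  have hfix : ∀ i, (pts i).image α = pts i := fun i => by
    rw [ptsMap_spec]
    exact congrArg pts (congrArg (fun e : Equiv.Perm (Fin 5) => e i) hα)
  have hone : ∀ σ : SL5, α σ = σ ∨ α σ = neg5 * σ := by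
    intro σ
    have h : ∀ i, ∀ x ∈ pts i, (α σ)⁻¹ * σ * x * ((α σ)⁻¹ * σ)⁻¹ ∈ pts i := by
      intro i x hx
      set j := ptsMap (MulAut.conj σ) i
      have h1 : σ * x * σ⁻¹ ∈ pts j := ptsMap_spec (MulAut.conj σ) i ▸ Finset.mem_image_of_mem _ hx
      rw [← hfix j, Finset.mem_image] at h1
      obtain ⟨w, hw, hwe⟩ := h1
      rw [← ptsMap_spec (MulAut.conj σ) i, Finset.mem_image] at hw
      obtain ⟨v, hv, hve⟩ := hw
      have h2 : α σ * α v * (α σ)⁻¹ = σ * x * σ⁻¹ := by
        rw [← hwe, ← hve, MulAut.conj_apply, map_mul, map_mul, map_inv]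
      rw [show (α σ)⁻¹ * σ * x * ((α σ)⁻¹ * σ)⁻¹ = (α σ)⁻¹ * (σ * x * σ⁻¹) * α σ by group, ← h2,
        show (α σ)⁻¹ * (α σ * α v * (α σ)⁻¹) * α σ = α v by group, ← hfix i]
      exact Finset.mem_image_of_mem _ hv
    rcases pts_faithful _ h with h' | h'
    · exact Or.inl (inv_mul_eq_one.1 h')
    · refine Or.inr ?_
      rw [inv_mul_eq_iff_eq_mul] at h'
      conv_rhs => rw [h', neg5_facts.2.2.1 (α σ), ← mul_assoc, neg5_facts.1, one_mul]
  obtain ⟨n2, n1, hc, -, f5, -⟩ := neg5_facts
  have h5 : α five5 = five5 := by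
    rcases hone five5 with h | h
    · exact h
    · exfalso
      have e := congrArg (· ^ 5) h
      simp only [← map_pow, f5, map_one] at e
      rw [Commute.mul_pow (show Commute neg5 five5 from (hc five5).symm), f5, mul_one,
        show neg5 ^ 5 = neg5 * neg5 * (neg5 * neg5) * neg5 by simp only [pow_succ, pow_zero, one_mul, mul_assoc],
        n2, one_mul, one_mul] at e
      exact n1 e.symm
  have h4 : α four5 = four5 := by
    rcases hone four5 with h | h
    · exact h
    · exfalso
      have e : α ((five5 * four5) ^ 3) = (five5 * (neg5 * four5)) ^ 3 := by rw [map_pow, map_mul, h5, h]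
      rw [show five5 * (neg5 * four5) = neg5 * (five5 * four5) by rw [← mul_assoc, hc five5, mul_assoc],
        Commute.mul_pow (show Commute neg5 (five5 * four5) from (hc _).symm),
        show neg5 ^ 3 = neg5 by rw [pow_succ, pow_two, n2, one_mul]] at e
      rcases four5_facts.2.1 with h3 | h3
      · rw [h3, map_one, mul_one] at e; exact n1 e.symm
      · rw [h3, map_neg5, n2] at e; exact n1 e
  exact mulAut_ext α 1 h5 h4

/-- The automorphism group is `Sym 5` once an outer automorphism exists. -/
theorem exists_equiv_perm (α : MulAut SL5) (hα : α ∉ (MulAut.conj (G := SL5)).range) :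
    ∃ e : MulAut SL5 ≃* Equiv.Perm (Fin 5),
      ∀ β, Equiv.Perm.sign (e β) = 1 ↔ β ∈ (MulAut.conj (G := SL5)).range := by
  classical
  set I := (MulAut.conj (G := SL5)).range with hI
  have h120 : Nat.card (MulAut SL5) = 120 := by
    have hd := I.card_mul_index
    rw [card_inn] at hd
    have hi : I.index ≠ 1 := fun h => hα ((Subgroup.index_eq_one.1 h).symm ▸ Subgroup.mem_top α)
    have := card_mulAut_SL5_le
    have h0 : I.index ≠ 0 := Subgroup.index_ne_zero_of_finite
    omega
  have hbij : Function.Bijective toPerm5 := (Nat.bijective_iff_injective_and_card toPerm5).2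
    ⟨toPerm5_injective, by rw [h120, Nat.card_eq_fintype_card, Fintype.card_perm, Fintype.card_fin]; rfl⟩
  set e := MulEquiv.ofBijective toPerm5 hbij
  have hidx : (I.map e.toMonoidHom).index = 2 := by
    rw [show I.map e.toMonoidHom = I.map (e : MulAut SL5 →* Equiv.Perm (Fin 5)) from rfl, Subgroup.index_map_equiv I e]
    have hd := I.card_mul_index
    rw [card_inn, h120] at hd
    omega
  have halt : I.map e.toMonoidHom = alternatingGroup (Fin 5) := Equiv.Perm.eq_alternatingGroup_of_index_eq_two hidx
  refine ⟨e, fun β => ?_⟩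
  rw [← Equiv.Perm.mem_alternatingGroup, ← halt]
  exact ⟨fun ⟨γ, hγ, hγe⟩ => e.injective hγe ▸ hγ, fun h => ⟨β, h, rfl⟩⟩

end Cfsg.Agent.McLThree
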