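import Cfsg.Agent.Lib.McLThree.Setup
import Cfsg.Agent.Lib.Coprime.Sylow
import Cfsg.Agent.Lib.Hall.Product

/-!
# The central involution of `L₀/Q` and the uniqueness of `J`

An element of order five of `L₀` fixes only `Z` in `Q`; hence so does the involution, an element of
order three fixes at most nine points of `Q/Z`, and `J` is the only abelian subgroup of order 81 of `S`.
-/

set_option autoImplicit false
set_option linter.unusedSectionVars false
set_option linter.style.haveILetI false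
set_option maxRecDepth 100000

namespace Cfsg.Agent.McLThree

open Subgroup
open scoped Pointwise

universe u

/-- The central involution. -/
def neg5 : SL5 := -1

/-- An element of order five. -/
def five5 : SL5 := ⟨!![1, 1; 0, 1], by decide +kernel⟩

theorem neg5_facts : neg5 * neg5 = 1 ∧ neg5 ≠ 1 ∧ (∀ σ : SL5, σ * neg5 = neg5 * σ) ∧
    (∀ σ : SL5, σ * σ = 1 → σ = 1 ∨ σ = neg5) ∧ five5 ^ 5 = 1 ∧ five5 ≠ 1 := by
  decide +kernel

/-- An element of order three and one of its conjugates generate an element of order five. -/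
theorem exists_five_gen : ∀ σ : SL5, σ * σ * σ = 1 → σ ≠ 1 → ∃ τ : SL5,
    ((σ * (τ * σ * τ⁻¹)) ^ 10 = 1 ∧ (σ * (τ * σ * τ⁻¹)) ^ 6 ≠ 1) := by
  decide +kernel

variable {G : Type u} [Group G] [Finite G] {S : Sylow 3 G} {Z J M₀ L₀ Q : Subgroup G}

/-- A surjection onto `SL₂(5)`, the involution over the centre and an element of order five commuting
with it. -/
structure Frame (Q L₀ : Subgroup G) (π : ↥L₀ →* SL5) (t f : G) : Prop where
  surj : Function.Surjective π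
  ker : ∀ g : ↥L₀, π g = 1 ↔ (g : G) ∈ Q
  t_mem : t ∈ L₀
  t_two : orderOf t = 2
  t_val : ∀ h : t ∈ L₀, π ⟨t, h⟩ = neg5
  f_mem : f ∈ L₀
  f_five : orderOf f = 5
  f_t : Commute f t
  /-- Every element of the quotient has a preimage commuting with `t`. -/
  lift : ∀ σ : SL5, ∃ c : ↥L₀, π c = σ ∧ Commute (c : G) t

variable (H : Hyp S Z J M₀ L₀ Q)
include H

theorem Hyp.L_le_normalizer_Q : L₀ ≤ normalizer (Q : Set G) := H.L_le.trans H.normalizer_le

theorem Hyp.orderOf_of_ker {π : ↥L₀ →* SL5} (hk : ∀ g : ↥L₀, π g = 1 ↔ (g : G) ∈ Q) (g : ↥L₀) {n : ℕ}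
    (hn : π g ^ n = 1) : (g : G) ^ (n * 3) = 1 := by
  have h : ((g ^ n : ↥L₀) : G) ∈ Q := (hk _).1 (by rw [map_pow, hn])
  rw [Subgroup.coe_pow] at h
  rw [pow_mul]
  exact H.Q_exp _ h

theorem Hyp.exists_frame : ∃ π t f, Frame Q L₀ π t f := by
  classical
  haveI : Fact (Nat.Prime 2) := ⟨Nat.prime_two⟩
  haveI : Fact (Nat.Prime 5) := ⟨Nat.prime_five⟩
  obtain ⟨π, hπ, hk⟩ := H.quotL
  obtain ⟨n2, n1, ncomm, -, f5, f1⟩ := neg5_facts
  obtain ⟨g, hg⟩ := hπ neg5
  set t' : ↥L₀ := g ^ 3 with ht'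
  have hn3 : neg5 ^ 3 = neg5 := by rw [pow_succ, pow_two, n2, one_mul]
  have htv : π t' = neg5 := by rw [ht', map_pow, hg, hn3]
  have htt : (t' : G) ^ 2 = 1 := by
    rw [ht', Subgroup.coe_pow, ← pow_mul, mul_comm]
    exact H.orderOf_of_ker hk g (by rw [hg, pow_two, n2])
  set t : G := (t' : G) with ht
  have ht1 : t ≠ 1 := fun e => n1 (by rw [← htv, show t' = 1 from Subtype.ext e, map_one])
  have ht2 : orderOf t = 2 := orderOf_eq_prime htt ht1
  have hlift : ∀ σ : SL5, ∃ c : ↥L₀, π c = σ ∧ Commute (c : G) t := by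
    intro σ
    obtain ⟨g, rfl⟩ := hπ σ
    have hA : zpowers t ≤ normalizer (Q : Set G) := zpowers_le.2 (H.L_le_normalizer_Q t'.2)
    have hcop : (Nat.card ↥(zpowers t)).Coprime (Nat.card ↥Q) := by
      rw [Nat.card_zpowers, ht2, H.Q_card]; norm_num
    have hfix : ∀ a ∈ zpowers t, (g : G)⁻¹ * (a * g * a⁻¹) ∈ Q := by
      intro a ha
      obtain ⟨i, rfl⟩ := mem_zpowers_iff.1 ha
      have e : (g : G)⁻¹ * (t ^ i * g * (t ^ i)⁻¹) = ((g⁻¹ * (t' ^ i * g * (t' ^ i)⁻¹) : ↥L₀) : G) := by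
        simp [ht]
      rw [e, ← hk, map_mul, map_mul, map_mul, map_inv, map_inv, map_zpow, htv]
      have hc : Commute (π g) (neg5 ^ i) := (show Commute (π g) neg5 from ncomm _).zpow_right i
      rw [← hc.eq, mul_inv_cancel_right, inv_mul_cancel]
    obtain ⟨q, hq, hqc⟩ := Coprime.exists_fixed_in_coset hA hcop
      (Or.inl (by haveI : IsCyclic ↥(zpowers t) := inferInstance; letI := IsCyclic.commGroup (α := ↥(zpowers t)); infer_instance)) hfix
    refine ⟨g * ⟨q, H.Q_L hq⟩, ?_, by rw [Subgroup.coe_mul]; exact (mem_centralizer_iff.1 hqc t (mem_zpowers t)).symm⟩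
    rw [map_mul, (hk ⟨q, H.Q_L hq⟩).2 hq, mul_one]
  obtain ⟨c, hc, hct⟩ := hlift five5
  have hfc : ((c ^ 6 : ↥L₀) : G) ^ 5 = 1 := by
    rw [Subgroup.coe_pow, ← pow_mul, show 6 * 5 = 5 * 3 * 2 by norm_num, pow_mul,
      H.orderOf_of_ker hk c (by rw [hc, f5]), one_pow]
  refine ⟨π, t, ((c ^ 6 : ↥L₀) : G), hπ, hk, t'.2, ht2, fun _ => htv, (c ^ 6).2,
    orderOf_eq_prime hfc fun e => f1 ?_, by rw [Subgroup.coe_pow]; exact hct.pow_left 6, hlift⟩
  have h := congrArg π (show (c ^ 6 : ↥L₀) = 1 from Subtype.ext e)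
  rw [map_pow, hc, map_one, show 6 = 5 + 1 from rfl, pow_succ, f5, one_mul] at h
  exact h

/-- The elements fixed modulo `Z` by an element of the normalizer. -/
def Hyp.fix {g : G} (hg : g ∈ L₀) : Subgroup G where
  carrier := {x | x ∈ Q ∧ g * x * g⁻¹ * x⁻¹ ∈ Z}
  one_mem' := ⟨one_mem _, by simp⟩
  mul_mem' := fun {x y} hx hy => by
    refine ⟨mul_mem hx.1 hy.1, ?_⟩
    have hc := H.Z_comm hy.2 (H.Q_le_S hx.1)
    rw [show g * (x * y) * g⁻¹ * (x * y)⁻¹ = g * x * g⁻¹ * x⁻¹ * (x * (g * y * g⁻¹ * y⁻¹) * x⁻¹) by group,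
      hc, mul_inv_cancel_right]
    exact mul_mem hx.2 hy.2
  inv_mem' := fun {x} hx => by
    refine ⟨inv_mem hx.1, ?_⟩
    have hc := H.Z_comm (inv_mem hx.2) (H.Q_le_S (inv_mem hx.1))
    rw [show g * x⁻¹ * g⁻¹ * x⁻¹⁻¹ = x⁻¹ * (g * x * g⁻¹ * x⁻¹)⁻¹ * x⁻¹⁻¹ by group, hc, mul_inv_cancel_right]
    exact inv_mem hx.2

theorem Hyp.fix_le {g : G} (hg : g ∈ L₀) : H.fix hg ≤ Q := fun _ h => h.1

theorem Hyp.Z_le_fix {g : G} (hg : g ∈ L₀) : Z ≤ H.fix hg := fun z hz => ⟨H.Z_le_Q hz, by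
  rw [(mem_centralizer_iff.1 (H.L_le_cent hg) z hz).symm, mul_inv_cancel_right, mul_inv_cancel]
  exact one_mem _⟩

/-- A normal-form fact: an element of order prime to three fixing `x` modulo `Z` fixes `x`. -/
theorem Hyp.commute_of_fix {g : G} (hg : g ∈ L₀) {x : G} (hx : x ∈ H.fix hg) (h3 : ¬ 3 ∣ orderOf g) :
    Commute g x := by
  set z := g * x * g⁻¹ * x⁻¹ with hz
  have hzZ : z ∈ Z := hx.2
  have hcz : Commute g z := (mem_centralizer_iff.1 (H.L_le_cent hg) z hzZ).symm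
  have h1 : ∀ i : ℕ, g ^ i * x * (g ^ i)⁻¹ = z ^ i * x := by
    intro i
    induction i with
    | zero => simp
    | succ i ih =>
      have h0 : g * x * g⁻¹ = z * x := (inv_mul_cancel_right (g * x * g⁻¹) x).symm
      rw [pow_succ' g, show g * g ^ i * x * (g * g ^ i)⁻¹ = g * (g ^ i * x * (g ^ i)⁻¹) * g⁻¹ by group, ih,
        show g * (z ^ i * x) * g⁻¹ = g * z ^ i * g⁻¹ * (g * x * g⁻¹) by group, (hcz.pow_right i).eq,
        mul_inv_cancel_right]
      exact (congrArg (z ^ i * ·) h0).trans ((mul_assoc _ _ _).symm.trans (by rw [← pow_succ]))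
  have h2 : z ^ orderOf g = 1 := by
    have h := h1 (orderOf g)
    rw [pow_orderOf_eq_one, one_mul, inv_one, mul_one] at h
    exact right_eq_mul.1 h
  have hz1 : z = 1 := by
    refine orderOf_eq_one_iff.1 (Nat.eq_one_of_dvd_coprimes ((Nat.prime_three.coprime_iff_not_dvd).2 h3) ?_
      (orderOf_dvd_of_pow_eq_one h2))
    exact orderOf_dvd_of_pow_eq_one (H.Q_exp z (H.Z_le_Q hzZ))
  exact mul_inv_eq_iff_eq_mul.1 (mul_inv_eq_one.1 hz1)

/-- An element of order five of `L₀` fixes only `Z`. -/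
theorem Hyp.eq_Z_of_five {f : G} (hf : f ∈ L₀) (h5 : orderOf f = 5) {W : Subgroup G} (hW : W ≤ Q)
    (hWf : ∀ x ∈ W, Commute f x) : W ≤ Z := by
  haveI : Fact (Nat.Prime 5) := ⟨Nat.prime_five⟩
  set C := Q ⊓ centralizer ({f} : Set G) with hC
  have hCQ : C ≤ Q := inf_le_left
  suffices hCZ : C ≤ Z by
    exact fun x hx => hCZ ⟨hW hx, mem_centralizer_singleton_iff.2 (hWf x hx).symm.eq⟩
  have hZC : Z ≤ C := le_inf H.Z_le_Q fun z hz =>
    mem_centralizer_singleton_iff.2 (mem_centralizer_iff.1 (H.L_le_cent hf) z hz)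
  -- `|C| ≡ |Q| [MOD 5]`
  have hfn := H.L_le_normalizer_Q hf
  have hF : IsPGroup 5 ↥(zpowers f) := IsPGroup.of_card (n := 1) (by rw [Nat.card_zpowers, h5, pow_one])
  letI : MulAction ↥(zpowers f) ↥Q :=
    { smul := fun a q => ⟨(a : G) * q * (a : G)⁻¹,
        (mem_normalizer_iff.1 (zpowers_le.2 hfn a.2) _).1 q.2⟩
      one_smul := fun q => Subtype.ext (show (1 : G) * (q : G) * (1 : G)⁻¹ = q by group)
      mul_smul := fun a b q => Subtype.ext (show (a : G) * b * q * ((a : G) * b)⁻¹ =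
        (a : G) * ((b : G) * q * (b : G)⁻¹) * (a : G)⁻¹ by group) }
  have hfixc : Nat.card ↥(MulAction.fixedPoints ↥(zpowers f) ↥Q) = Nat.card ↥C := by
    refine Nat.card_congr
      { toFun := fun q => ⟨((q : ↥Q) : G), (q : ↥Q).2, mem_centralizer_singleton_iff.2 ?_⟩
        invFun := fun c => ⟨⟨c, c.2.1⟩, fun a => ?_⟩
        left_inv := fun q => rfl
        right_inv := fun c => rfl }
    · have h := congrArg Subtype.val (q.2 ⟨f, mem_zpowers f⟩)
      exact (mul_inv_eq_iff_eq_mul.1 (h : f * ((q : ↥Q) : G) * f⁻¹ = ((q : ↥Q) : G))).symm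
    · refine Subtype.ext ?_
      show (a : G) * (c : G) * (a : G)⁻¹ = c
      obtain ⟨i, hi⟩ := mem_zpowers_iff.1 a.2
      rw [← hi, ((show Commute f (c : G) from (mem_centralizer_singleton_iff.1 c.2.2).symm).zpow_left i).eq,
        mul_inv_cancel_right]
  have hmod := hF.card_modEq_card_fixedPoints ↥Q
  rw [hfixc, H.Q_card] at hmod
  obtain ⟨j, hj, hje⟩ := (Nat.dvd_prime_pow Nat.prime_three).1
    (show Nat.card ↥C ∣ 3 ^ 5 from by
      have := card_dvd_of_le hCQ; rwa [H.Q_card, show (243 : ℕ) = 3 ^ 5 by norm_num] at this)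
  rw [hje] at hmod
  have h3 : 3 ≤ 3 ^ j := by rw [← hje]; exact H.card_Z.ge.trans (card_le_of_le hZC)
  interval_cases j
  · norm_num at h3
  · exact (eq_of_le_of_card_ge hZC (by rw [hje, H.card_Z]; norm_num)).ge
  · exact absurd hmod (by decide)
  · exact absurd hmod (by decide)
  · exact absurd hmod (by decide)
  · exfalso
    have hCeq : C = Q := eq_of_le_of_card_ge hCQ (by rw [hje, H.Q_card]; norm_num)
    have hfZ : f ∈ Z := H.cent_Q (mem_centralizer_iff.2 fun q hq =>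
      mem_centralizer_singleton_iff.1 ((hCeq.ge hq : q ∈ C)).2)
    have h53 := orderOf_dvd_natCard Z hfZ
    rw [h5, H.card_Z] at h53
    norm_num at h53

variable {π : ↥L₀ →* SL5} {t f : G} (F : Frame Q L₀ π t f)
include F

/-- The involution fixes only `Z`. -/
theorem Hyp.eq_Z_of_t {x : G} (hx : x ∈ Q) (hxt : Commute t x) : x ∈ Z := by
  set W := Q ⊓ centralizer ({t} : Set G)
  suffices hW : W ≤ Z from hW ⟨hx, mem_centralizer_singleton_iff.2 hxt.symm.eq⟩
  haveI : Fact (Nat.Prime 5) := ⟨Nat.prime_five⟩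
  have hfW : f ∈ normalizer (W : Set G) := Subgroup.mem_normalizer_fintype fun w hw =>
    ⟨(mem_normalizer_iff.1 (H.L_le_normalizer_Q F.f_mem) _).1 hw.1, mem_centralizer_singleton_iff.2
      ((F.f_t.mul_left (mem_centralizer_singleton_iff.1 hw.2 : Commute w t)).mul_left F.f_t.inv_left).eq⟩
  have hF : IsPGroup 5 ↥(zpowers f) := IsPGroup.of_card (n := 1) (by rw [Nat.card_zpowers, F.f_five, pow_one])
  letI : MulAction ↥(zpowers f) ↥W :=
    { smul := fun a q => ⟨(a : G) * q * (a : G)⁻¹,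
        (mem_normalizer_iff.1 (zpowers_le.2 hfW a.2) _).1 q.2⟩
      one_smul := fun q => Subtype.ext (show (1 : G) * (q : G) * (1 : G)⁻¹ = q by group)
      mul_smul := fun a b q => Subtype.ext (show (a : G) * b * q * ((a : G) * b)⁻¹ =
        (a : G) * ((b : G) * q * (b : G)⁻¹) * (a : G)⁻¹ by group) }
  have hfixc : Nat.card ↥(MulAction.fixedPoints ↥(zpowers f) ↥W) ≤ 3 := by
    rw [← H.card_Z]
    refine Nat.card_le_card_of_injective (fun q => (⟨((q : ↥W) : G),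
      H.eq_Z_of_five F.f_mem F.f_five (W := Q ⊓ centralizer ({f} : Set G)) inf_le_left
        (fun y hy => (mem_centralizer_singleton_iff.1 hy.2).symm)
        ⟨(q : ↥W).2.1, mem_centralizer_singleton_iff.2 (mul_inv_eq_iff_eq_mul.1
          (congrArg Subtype.val (q.2 ⟨f, mem_zpowers f⟩) : f * ((q : ↥W) : G) * f⁻¹ = ((q : ↥W) : G))).symm⟩⟩ : ↥Z))
      fun a b e => Subtype.ext (Subtype.ext (congrArg (fun z : ↥Z => (z : G)) e))
  have hZW : Z ≤ W := le_inf H.Z_le_Q fun z hz =>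
    mem_centralizer_singleton_iff.2 (mem_centralizer_iff.1 (H.L_le_cent F.t_mem) z hz)
  have hfix3 : 3 ≤ Nat.card ↥(MulAction.fixedPoints ↥(zpowers f) ↥W) := by
    rw [← H.card_Z]
    refine Nat.card_le_card_of_injective (fun z => (⟨⟨(z : G), hZW z.2⟩, fun a => Subtype.ext ?_⟩ :
      ↥(MulAction.fixedPoints ↥(zpowers f) ↥W))) fun a b e =>
        Subtype.ext (congrArg (fun q : ↥(MulAction.fixedPoints ↥(zpowers f) ↥W) => ((q : ↥W) : G)) e)
    show (a : G) * (z : G) * (a : G)⁻¹ = z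
    have ha : (a : G) ∈ L₀ := zpowers_le.2 F.f_mem a.2
    rw [← mem_centralizer_iff.1 (H.L_le_cent ha) z z.2, mul_inv_cancel_right]
  have hmod := hF.card_modEq_card_fixedPoints ↥W
  rw [show Nat.card ↥(MulAction.fixedPoints ↥(zpowers f) ↥W) = 3 by omega] at hmod
  obtain ⟨j, hj, hje⟩ := (Nat.dvd_prime_pow Nat.prime_three).1
    (show Nat.card ↥W ∣ 3 ^ 5 from by
      have := card_dvd_of_le (inf_le_left : W ≤ Q); rwa [H.Q_card, show (243 : ℕ) = 3 ^ 5 by norm_num] at this)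
  rw [hje] at hmod
  interval_cases j
  · exact absurd hmod (by decide)
  · exact (eq_of_le_of_card_ge hZW (by rw [hje, H.card_Z]; norm_num)).ge
  · exact absurd hmod (by decide)
  · exact absurd hmod (by decide)
  · exact absurd hmod (by decide)
  · exfalso
    have hWeq : W = Q := eq_of_le_of_card_ge (inf_le_left : W ≤ Q) (by rw [hje, H.Q_card]; norm_num)
    have htZ : t ∈ Z := H.cent_Q (mem_centralizer_iff.2 fun q hq =>
      mem_centralizer_singleton_iff.1 ((hWeq.ge hq : q ∈ W)).2)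
    have h23 := orderOf_dvd_natCard Z htZ
    rw [F.t_two, H.card_Z] at h23
    norm_num at h23

/-- An element of order three modulo `Q` fixes at most nine points of `Q/Z`. -/
theorem Hyp.card_fix_three {s : G} (hs : s ∈ L₀) (hsQ : s ∉ Q) (hs3 : π ⟨s, hs⟩ ^ 3 = 1) :
    Nat.card ↥(H.fix hs) ≤ 27 := by
  by_contra hlt
  set σ := π ⟨s, hs⟩ with hσ
  have hσ1 : σ ≠ 1 := fun e => hsQ ((F.ker _).1 e)
  obtain ⟨τ, h5, h1⟩ := exists_five_gen σ (by rw [← pow_two, ← pow_succ]; exact hs3) hσ1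
  obtain ⟨c, hc⟩ := F.surj τ
  set s' : G := (c : G) * s * (c : G)⁻¹ with hs'
  have hs'L : s' ∈ L₀ := mul_mem (mul_mem c.2 hs) (inv_mem c.2)
  set K := H.fix hs
  set K' := H.fix hs'L
  have hcn : (c : G) ∈ normalizer (Q : Set G) := H.L_le_normalizer_Q c.2
  have hK' : Nat.card ↥K ≤ Nat.card ↥K' := by
    refine Nat.card_le_card_of_injective (fun x => (⟨(c : G) * x * (c : G)⁻¹,
      (mem_normalizer_iff.1 hcn _).1 x.2.1, ?_⟩ : ↥K'))
      fun a b e => Subtype.ext (mul_left_cancel (mul_right_cancel (congrArg Subtype.val e)))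
    rw [hs', show (c : G) * s * (c : G)⁻¹ * ((c : G) * x * (c : G)⁻¹) * ((c : G) * s * (c : G)⁻¹)⁻¹ *
      ((c : G) * x * (c : G)⁻¹)⁻¹ = (c : G) * (s * x * s⁻¹ * (x : G)⁻¹) * (c : G)⁻¹ by group,
      ← mem_centralizer_iff.1 (H.L_le_cent c.2) _ x.2.2, mul_inv_cancel_right]
    exact x.2.2
  -- an element of order five fixes the intersection
  set W := K ⊓ K'
  obtain ⟨g, hg⟩ : ∃ g : ↥L₀, g = ⟨s, hs⟩ * ⟨s', hs'L⟩ := ⟨_, rfl⟩
  have hgπ : π g = σ * (τ * σ * τ⁻¹) := by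
    rw [hg, map_mul, show (⟨s', hs'L⟩ : ↥L₀) = c * ⟨s, hs⟩ * c⁻¹ from Subtype.ext (by simp [hs']), map_mul,
      map_mul, map_inv, hc]
  haveI : Fact (Nat.Prime 5) := ⟨Nat.prime_five⟩
  set e := ((g ^ 6 : ↥L₀) : G) with he
  have he5 : orderOf e = 5 := by
    refine orderOf_eq_prime ?_ fun e1 => h1 ?_
    · rw [he, Subgroup.coe_pow, ← pow_mul, show 6 * 5 = 10 * 3 by norm_num,
        H.orderOf_of_ker F.ker g (n := 10) (by rw [hgπ, h5])]
    · have h := congrArg π (show (g ^ 6 : ↥L₀) = 1 from Subtype.ext e1)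
      rwa [map_pow, hgπ, map_one] at h
  have hWfix : W ≤ H.fix (g ^ 6 : ↥L₀).2 := by
    intro x hx
    have key : ∀ {a b : G}, a ∈ L₀ → a * x * a⁻¹ * x⁻¹ ∈ Z → b * x * b⁻¹ * x⁻¹ ∈ Z →
        a * b * x * (a * b)⁻¹ * x⁻¹ ∈ Z := by
      intro a b ha h1 h2
      rw [show a * b * x * (a * b)⁻¹ * x⁻¹ = a * (b * x * b⁻¹ * x⁻¹) * a⁻¹ * (a * x * a⁻¹ * x⁻¹) by group,
        ← mem_centralizer_iff.1 (H.L_le_cent ha) _ h2, mul_inv_cancel_right]
      exact mul_mem h2 h1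
    refine ⟨hx.1.1, ?_⟩
    have hgx : (g : G) * x * (g : G)⁻¹ * x⁻¹ ∈ Z := by
      rw [hg]; exact key hs hx.1.2 hx.2.2
    have : ∀ i : ℕ, ((g : G) ^ i) * x * ((g : G) ^ i)⁻¹ * x⁻¹ ∈ Z := by
      intro i
      induction i with
      | zero => simp
      | succ i ih => rw [pow_succ']; exact key g.2 hgx ih
    rw [Subgroup.coe_pow]
    exact this 6
  have hWZ : W ≤ Z := H.eq_Z_of_five (g ^ 6).2 he5 (W := W) (fun x hx => hx.1.1)
    fun x hx => H.commute_of_fix _ (hWfix hx) (by rw [he5]; norm_num)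
  -- the intersection is too large
  have hc3 : Nat.card ↥W ≤ 3 := H.card_Z ▸ card_le_of_le hWZ
  have hprod : Nat.card ↥K * Nat.card ↥K' ≤ 243 * Nat.card ↥W := by
    rw [← Hall.card_mul_inf K K', ← H.Q_card]
    refine Nat.mul_le_mul_right _ ?_
    exact Nat.card_mono (Set.toFinite _) (by
      rintro _ ⟨a, ha, b, hb, rfl⟩
      exact mul_mem ha.1 hb.1)
  have : 28 * 28 ≤ Nat.card ↥K * Nat.card ↥K' := Nat.mul_le_mul (by omega) (by omega)
  omega

end Cfsg.Agent.McLThree
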