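import Cfsg.Agent.Lib.McLThree.Sylow

/-!
# The normalizer of `J` controls fusion in `J`

`J` is self-centralizing, it is the only abelian subgroup of order 81 of each 3-subgroup containing it,
`N(J) = M₀ (N(S) ∩ N(J))`, and elements of `J` conjugate in `G` are conjugate in `N(J)`.
-/

set_option autoImplicit false
set_option linter.unusedSectionVars false
set_option linter.style.haveILetI false

namespace Cfsg.Agent.McLThree

open Subgroup

universe u

variable {G : Type u} [Group G] [Finite G] {S : Sylow 3 G} {Z J M₀ L₀ Q : Subgroup G}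
  (H : Hyp S Z J M₀ L₀ Q) {π : ↥L₀ →* SL5} {t f : G} (F : Frame Q L₀ π t f)
include H

theorem Hyp.M_le : M₀ ≤ normalizer (J : Set G) := by
  rw [H.M_eq, Subgroup.closure_le]
  exact fun g hg => hg.1

theorem Hyp.mem_L_of_three {g : G} (hg : g ∈ normalizer (Z : Set G)) {k : ℕ} (hk : orderOf g = 3 ^ k) :
    g ∈ L₀ := by
  rw [H.L_eq]; exact Subgroup.subset_closure ⟨hg, k, hk⟩

/-- `M₀` is normal in `N(J)`. -/
theorem Hyp.conj_mem_M {g : G} (hg : g ∈ normalizer (J : Set G)) {m : G} (hm : m ∈ M₀) :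
    g * m * g⁻¹ ∈ M₀ := by
  suffices h : M₀ ≤ M₀.comap (MulAut.conj g).toMonoidHom from h hm
  conv_lhs => rw [H.M_eq]
  rw [Subgroup.closure_le]
  rintro a ⟨ha, k, hk⟩
  show g * a * g⁻¹ ∈ M₀
  rw [H.M_eq]
  refine Subgroup.subset_closure ⟨mul_mem (mul_mem hg ha) (inv_mem hg), k, ?_⟩
  rw [← hk]
  exact (MulAut.conj g).orderOf_eq a

include F

theorem Hyp.S_le_normalizer_J : (S : Subgroup G) ≤ normalizer (J : Set G) :=
  le_normalizer.trans (H.normalizer_S_le F)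

theorem Hyp.S_le_M : (S : Subgroup G) ≤ M₀ := fun g hg => by
  obtain ⟨k, hk⟩ := IsPGroup.iff_orderOf.1 S.2 ⟨g, hg⟩
  rw [H.M_eq]
  exact Subgroup.subset_closure ⟨H.S_le_normalizer_J F hg, k, by rw [← hk, orderOf_mk]⟩

theorem Hyp.J_le_M : J ≤ M₀ := H.J_le.trans (H.S_le_M F)

theorem Hyp.Q_le_M : Q ≤ M₀ := H.Q_le_S.trans (H.S_le_M F)

/-- An abelian subgroup of order 81 is the only one in each 3-subgroup containing it. -/
theorem Hyp.J_unique_in {P : Subgroup G} (hP : IsPGroup 3 ↥P) {g : G}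
    (hgP : ∀ x ∈ J, g * x * g⁻¹ ∈ P) {A : Subgroup G} (hA : A ≤ P)
    (hc : ∀ a ∈ A, ∀ b ∈ A, a * b = b * a) (hcard : Nat.card ↥A = 81) :
    A = J.map (MulAut.conj g).toMonoidHom := by
  haveI : Fact (Nat.Prime 3) := ⟨Nat.prime_three⟩
  obtain ⟨T, hT⟩ := hP.exists_le_sylow
  obtain ⟨h, hh⟩ := MulAction.exists_smul_eq G T S
  have hconj : ∀ x ∈ P, h * x * h⁻¹ ∈ (S : Subgroup G) := fun x hx => by
    rw [← hh]
    exact Subgroup.mem_map_of_mem (MulAut.conj h).toMonoidHom (hT hx)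
  have e1 := H.J_unique F (A := A.map (MulAut.conj h).toMonoidHom)
    (by rintro _ ⟨a, ha, rfl⟩; exact hconj a (hA ha))
    (by rintro _ ⟨a, ha, rfl⟩ _ ⟨b, hb, rfl⟩; rw [← map_mul, ← map_mul, hc a ha b hb])
    (by rw [card_map_of_injective (MulEquiv.injective _), hcard])
  have e2 := H.J_unique F (A := (J.map (MulAut.conj g).toMonoidHom).map (MulAut.conj h).toMonoidHom)
    (by rintro _ ⟨_, ⟨x, hx, rfl⟩, rfl⟩; exact hconj _ (hgP x hx))
    (by
      rintro _ ⟨_, ⟨a, ha, rfl⟩, rfl⟩ _ ⟨_, ⟨b, hb, rfl⟩, rfl⟩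
      rw [← map_mul, ← map_mul, ← map_mul, ← map_mul, H.J_comm a ha b hb])
    (by rw [card_map_of_injective (MulEquiv.injective _), card_map_of_injective (MulEquiv.injective _), H.J_card])
  exact map_injective (MulEquiv.injective (MulAut.conj h)) (e1.trans e2.symm)

/-- A 3-subgroup containing `J` normalizes it. -/
theorem Hyp.le_normalizer_J {P : Subgroup G} (hP : IsPGroup 3 ↥P) (hJP : J ≤ P) :
    P ≤ normalizer (J : Set G) := by
  intro p hp
  refine Subgroup.mem_normalizer_fintype fun x hx => ?_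
  have e := H.J_unique_in F hP (g := p) (fun y hy => mul_mem (mul_mem hp (hJP hy)) (inv_mem hp)) hJP
    H.J_comm H.J_card
  exact e ▸ (⟨x, hx, rfl⟩ : p * x * p⁻¹ ∈ J.map (MulAut.conj p).toMonoidHom)

/-- Elements of `J` conjugate in `G` are conjugate in `N(J)`. -/
theorem Hyp.fusion_J {x g : G} (hx : x ∈ J) (hgx : g * x * g⁻¹ ∈ J) :
    ∃ n ∈ normalizer (J : Set G), n * x * n⁻¹ = g * x * g⁻¹ := by
  haveI : Fact (Nat.Prime 3) := ⟨Nat.prime_three⟩
  set y := g * x * g⁻¹ with hy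
  set C := centralizer ({y} : Set G) with hC
  set A := J.map (MulAut.conj g).toMonoidHom with hA
  have hAC : A ≤ C := by
    rintro _ ⟨a, ha, rfl⟩
    refine mem_centralizer_singleton_iff.2 ?_
    show g * a * g⁻¹ * (g * x * g⁻¹) = g * x * g⁻¹ * (g * a * g⁻¹)
    rw [show g * a * g⁻¹ * (g * x * g⁻¹) = g * (a * x) * g⁻¹ by group, H.J_comm a ha x hx]
    group
  have hJC : J ≤ C := fun a ha => mem_centralizer_singleton_iff.2 (H.J_comm a ha y hgx)
  have hJp : IsPGroup 3 ↥J := IsPGroup.of_card (n := 4) (by rw [H.J_card]; norm_num)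
  have hAp : IsPGroup 3 ↥A := hJp.map _
  obtain ⟨T, hT⟩ := (hJp.comap_of_injective C.subtype C.subtype_injective).exists_le_sylow
  obtain ⟨T', hT'⟩ := (hAp.comap_of_injective C.subtype C.subtype_injective).exists_le_sylow
  obtain ⟨c, hc⟩ := MulAction.exists_smul_eq ↥C T' T
  have hP : IsPGroup 3 ↥((T : Subgroup ↥C).map C.subtype) := T.2.map _
  have hJT : ∀ a ∈ J, (1 : G) * a * (1 : G)⁻¹ ∈ (T : Subgroup ↥C).map C.subtype := fun a ha =>
    ⟨⟨a, hJC ha⟩, hT ha, by simp⟩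
  have hAT : A.map (MulAut.conj (c : G)).toMonoidHom ≤ (T : Subgroup ↥C).map C.subtype := by
    rintro _ ⟨a, ha, rfl⟩
    refine ⟨c * ⟨a, hAC ha⟩ * c⁻¹, ?_, rfl⟩
    rw [← hc]
    exact Subgroup.mem_map_of_mem (MulAut.conj c).toMonoidHom (hT' ha : (⟨a, hAC ha⟩ : ↥C) ∈ (T' : Subgroup ↥C))
  have e := H.J_unique_in F hP hJT hAT
    (by
      rintro _ ⟨_, ⟨a, ha, rfl⟩, rfl⟩ _ ⟨_, ⟨b, hb, rfl⟩, rfl⟩
      rw [← map_mul, ← map_mul, ← map_mul, ← map_mul, H.J_comm a ha b hb])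
    (by rw [hA, card_map_of_injective (MulEquiv.injective _), card_map_of_injective (MulEquiv.injective _), H.J_card])
  refine ⟨(c : G) * g, Subgroup.mem_normalizer_fintype fun a ha => ?_, ?_⟩
  · have hm : (MulAut.conj (c : G)).toMonoidHom ((MulAut.conj g).toMonoidHom a) ∈
        A.map (MulAut.conj (c : G)).toMonoidHom := ⟨_, ⟨a, ha, rfl⟩, rfl⟩
    rw [e] at hm
    obtain ⟨b, hb, hbe⟩ := hm
    have hb' : b = (c : G) * (g * a * g⁻¹) * (c : G)⁻¹ := by simpa using hbe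
    rw [show (c : G) * g * a * ((c : G) * g)⁻¹ = (c : G) * (g * a * g⁻¹) * (c : G)⁻¹ by group, ← hb']
    exact hb
  · rw [show (c : G) * g * x * ((c : G) * g)⁻¹ = (c : G) * y * (c : G)⁻¹ by rw [hy]; group,
      mem_centralizer_singleton_iff.1 c.2, mul_inv_cancel_right]

/-- The centralizer of `J ⊓ Q` in `Q` is `J ⊓ Q`. -/
theorem Hyp.cent_R {q : G} (hq : q ∈ Q) (hc : ∀ r ∈ J ⊓ Q, r * q = q * r) : q ∈ J ⊓ Q := by
  by_contra hqJ
  set B := (J ⊓ Q) ⊔ zpowers q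
  have hBQ : B ≤ Q := sup_le inf_le_right (zpowers_le.2 hq)
  have hgen : ∀ r ∈ J ⊓ Q, B ≤ centralizer ({r} : Set G) := fun r hr => sup_le
    (fun r' hr' => mem_centralizer_singleton_iff.2 (H.J_comm r' hr'.1 r hr.1))
    (zpowers_le.2 (mem_centralizer_singleton_iff.2 (hc r hr).symm))
  have hgenq : B ≤ centralizer ({q} : Set G) := sup_le
    (fun r' hr' => mem_centralizer_singleton_iff.2 (hc r' hr'))
    (zpowers_le.2 (mem_centralizer_singleton_iff.2 rfl))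
  have hcen : B ≤ centralizer (B : Set G) := by
    refine sup_le (fun r hr => mem_centralizer_iff.2 fun y hy =>
      mem_centralizer_singleton_iff.1 (hgen r hr hy)) (zpowers_le.2 (mem_centralizer_iff.2 fun y hy =>
      mem_centralizer_singleton_iff.1 (hgenq hy)))
  have h27 := H.abelian_Q hBQ fun a ha b hb => (mem_centralizer_iff.1 (hcen ha) b hb).symm
  exact hqJ ((eq_of_le_of_card_ge (le_sup_left : J ⊓ Q ≤ B) (by rw [H.card_J_inf_Q F]; exact h27)).ge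
    (mem_sup_right (mem_zpowers q)))

/-- `J` is self-centralizing. -/
theorem Hyp.cent_J : centralizer (J : Set G) ≤ J := by
  haveI : Fact (Nat.Prime 3) := ⟨Nat.prime_three⟩
  intro c hc
  have hcJ : ∀ a ∈ J, a * c = c * a := fun a ha => mem_centralizer_iff.1 hc a ha
  have hcZ : c ∈ centralizer (Z : Set G) :=
    Subgroup.centralizer_le (SetLike.coe_subset_coe.2 (H.Z_le_J F)) hc
  have hcN : c ∈ normalizer (Q : Set G) := H.normalizer_le (H.cent_le hcZ)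
  have hd : ∀ q ∈ Q, c * q * c⁻¹ * q⁻¹ ∈ J ⊓ Q := by
    intro q hq
    have hq' : c * q * c⁻¹ ∈ Q := (mem_normalizer_iff.1 hcN q).1 hq
    refine H.cent_R F (mul_mem hq' (inv_mem hq)) fun r hr => ?_
    have hz := H.comm_Q hr.2 hq
    have hzc : c * (r * q * r⁻¹ * q⁻¹) * c⁻¹ = r * q * r⁻¹ * q⁻¹ := by
      rw [← mem_centralizer_iff.1 hcZ _ hz, mul_inv_cancel_right]
    have e1 : c * r * c⁻¹ = r := by rw [← hcJ r hr.1, mul_inv_cancel_right]
    have e2 : r * (c * q * c⁻¹) * r⁻¹ = r * q * r⁻¹ * q⁻¹ * (c * q * c⁻¹) := by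
      calc r * (c * q * c⁻¹) * r⁻¹ = (c * r * c⁻¹) * (c * q * c⁻¹) * (c * r * c⁻¹)⁻¹ := by rw [e1]
        _ = c * (r * q * r⁻¹ * q⁻¹) * c⁻¹ * (c * q * c⁻¹) := by group
        _ = _ := by rw [hzc]
    have e3 : r * (c * q * c⁻¹ * q⁻¹) * r⁻¹ = c * q * c⁻¹ * q⁻¹ := by
      calc r * (c * q * c⁻¹ * q⁻¹) * r⁻¹ = r * (c * q * c⁻¹) * r⁻¹ * (r * q * r⁻¹)⁻¹ := by group
        _ = r * q * r⁻¹ * q⁻¹ * (c * q * c⁻¹) * (r * q * r⁻¹)⁻¹ := by rw [e2]
        _ = (r * q * r⁻¹ * q⁻¹) * (c * q * c⁻¹ * q⁻¹) * (r * q * r⁻¹ * q⁻¹)⁻¹ := by group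
        _ = _ := by
          rw [← H.Z_comm hz (H.Q_le_S (mul_mem hq' (inv_mem hq))), mul_inv_cancel_right]
    exact mul_inv_eq_iff_eq_mul.1 e3
  have h3 : c ^ 3 ∈ Z := H.cent_Q (mem_centralizer_iff.2 fun q hq => by
    have h := hd q hq
    set d := c * q * c⁻¹ * q⁻¹ with hdd
    have e : c * q * c⁻¹ = d * q := by rw [hdd]; group
    have hdc : c * d * c⁻¹ = d := by rw [← hcJ d h.1, mul_inv_cancel_right]
    have e3 : c ^ 3 * q * (c ^ 3)⁻¹ = q := by
      calc c ^ 3 * q * (c ^ 3)⁻¹ = c * (c * (c * q * c⁻¹) * c⁻¹) * c⁻¹ := by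
            simp only [pow_succ, pow_zero, one_mul, mul_inv_rev, mul_assoc]
        _ = c * (c * (d * q) * c⁻¹) * c⁻¹ := by rw [e]
        _ = c * (c * d * c⁻¹ * (c * q * c⁻¹)) * c⁻¹ := by group
        _ = c * (d * (d * q)) * c⁻¹ := by rw [hdc, e]
        _ = c * d * c⁻¹ * (c * d * c⁻¹) * (c * q * c⁻¹) := by group
        _ = d ^ 3 * q := by rw [hdc, e, pow_succ, pow_two]; group
        _ = q := by rw [H.J_exp d h.1, one_mul]
    exact (mul_inv_eq_iff_eq_mul.1 e3).symm)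
  have h9 : c ^ 9 = 1 := by
    rw [show 9 = 3 * 3 by norm_num, pow_mul]
    exact H.Q_exp _ (H.Z_le_Q h3)
  set K := J ⊔ zpowers c with hK
  have hcp : IsPGroup 3 ↥(zpowers c) := by
    obtain ⟨i, -, hi⟩ := (Nat.dvd_prime_pow Nat.prime_three).1
      (show orderOf c ∣ 3 ^ 2 from orderOf_dvd_of_pow_eq_one (by norm_num [h9]))
    exact IsPGroup.of_card (n := i) (by rw [Nat.card_zpowers, hi])
  have hJp : IsPGroup 3 ↥J := IsPGroup.of_card (n := 4) (by rw [H.J_card]; norm_num)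
  have hKp : IsPGroup 3 ↥K := IsPGroup.to_sup_of_normal_left' hJp hcp
    (zpowers_le.2 (Subgroup.centralizer_le_normalizer _ hc))
  obtain ⟨T, hT⟩ := hKp.exists_le_sylow
  obtain ⟨h, hh⟩ := MulAction.exists_smul_eq G T S
  have hKS : ∀ x ∈ K, h * x * h⁻¹ ∈ (S : Subgroup G) := fun x hx => by
    rw [← hh]
    exact Subgroup.mem_map_of_mem (MulAut.conj h).toMonoidHom (hT hx)
  have e := H.J_unique F (A := J.map (MulAut.conj h).toMonoidHom)
    (by rintro _ ⟨a, ha, rfl⟩; exact hKS a (mem_sup_left ha))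
    (by rintro _ ⟨a, ha, rfl⟩ _ ⟨b, hb, rfl⟩; rw [← map_mul, ← map_mul, H.J_comm a ha b hb])
    (by rw [card_map_of_injective (MulEquiv.injective _), H.J_card])
  have hc' : h * c * h⁻¹ ∈ (S : Subgroup G) := hKS c (mem_sup_right (mem_zpowers c))
  have hcom : ∀ b ∈ J, b * (h * c * h⁻¹) = h * c * h⁻¹ * b := by
    intro b hb
    rw [← e] at hb
    obtain ⟨a, ha, rfl⟩ := hb
    show h * a * h⁻¹ * (h * c * h⁻¹) = h * c * h⁻¹ * (h * a * h⁻¹)
    rw [show h * a * h⁻¹ * (h * c * h⁻¹) = h * (a * c) * h⁻¹ by group, hcJ a ha]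
    group
  obtain ⟨a, ha, q, hq, hq'⟩ := H.exists_mul F hc'
  have hqR : q ∈ J ⊓ Q := H.cent_R F hq fun r hr => by
    have h1 := hcom r hr.1
    rw [hq', ← mul_assoc, H.J_comm r hr.1 a ha, mul_assoc, mul_assoc] at h1
    exact mul_left_cancel h1
  have hm : h * c * h⁻¹ ∈ J.map (MulAut.conj h).toMonoidHom := by
    rw [e, hq']; exact mul_mem ha hqR.1
  obtain ⟨b, hb, hbe⟩ := hm
  have hbc : b = c := (MulAut.conj h).injective hbe
  exact hbc ▸ hb

/-- `N(J) = M₀ (N(S) ∩ N(J))`. -/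
theorem Hyp.exists_factor {n : G} (hn : n ∈ normalizer (J : Set G)) :
    ∃ m ∈ M₀, ∃ x ∈ normalizer ((S : Subgroup G) : Set G), n = m * x := by
  haveI : Fact (Nat.Prime 3) := ⟨Nat.prime_three⟩
  have hSM := H.S_le_M F
  have hle : ((n • S : Sylow 3 G) : Subgroup G) ≤ M₀ := by
    intro x hx
    obtain ⟨y, hy, rfl⟩ := hx
    exact H.conj_mem_M hn (hSM hy)
  obtain ⟨m, hm⟩ := MulAction.exists_smul_eq ↥M₀ ((n • S).subtype hle) (S.subtype hSM)
  rw [Sylow.smul_subtype] at hm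
  have e : ((m : G) • (n • S) : Sylow 3 G) = S := Sylow.subtype_injective hm
  refine ⟨(m : G)⁻¹, inv_mem m.2, (m : G) * n, ?_, by group⟩
  exact Sylow.smul_eq_iff_mem_normalizer.1 ((mul_smul _ _ _).trans e)

end Cfsg.Agent.McLThree
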