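import Cfsg.Agent.Lib.McLThree.Coord

/-!
# The action of `N(J)` on `J`

Every element acts as a similitude whose determinant equals its multiplier, and an element of order
four of `L₀` over `t` fixes `z` and inverts `z'`.
-/

set_option autoImplicit false
set_option linter.unusedSectionVars false
set_option linter.style.haveILetI false
set_option synthInstance.maxSize 2000
set_option synthInstance.maxHeartbeats 200000

namespace Cfsg.Agent.McLThree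

open Subgroup
open Model

universe u

/-- The multiplier of a similitude. -/
def mult (m : Mat) : ZMod 3 := bil m.1 m.2.2.2

/-- The coordinates of a vector. -/
def crd (v : V) : Fin 4 → ZMod 3 := ![v.1, v.2.1, v.2.2.1, v.2.2.2]

/-- The matrix with given columns. -/
def toM (m : Mat) : Matrix (Fin 4) (Fin 4) (ZMod 3) :=
  Matrix.of fun i j => crd (![m.1, m.2.1, m.2.2.1, m.2.2.2] j) i

/-- The determinant. -/
def det4 (m : Mat) : ZMod 3 := (toM m).det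

theorem det4_comp (m n : Mat) : det4 (comp m n) = det4 m * det4 n := by
  rw [det4, det4, det4, ← Matrix.det_mul]
  congr 1
  ext i j
  fin_cases i <;> fin_cases j <;>
    simp [toM, crd, comp, app, sc, Matrix.mul_apply, Fin.sum_univ_four, Prod.fst_add, Prod.snd_add] <;> ring

/-- A matrix fixing `vz`, scaling `vz'` and preserving the plane between them. -/
def blk (a b : ZMod 3 × ZMod 3) (ε : ZMod 3) : Mat :=
  (vz, (0, a.1, a.2, 0), (0, b.1, b.2, 0), (0, 0, 0, ε))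

theorem det4_blk (a b : ZMod 3 × ZMod 3) (ε : ZMod 3) :
    det4 (blk a b ε) = (a.1 * b.2 - a.2 * b.1) * ε := by
  simp [det4, toM, crd, blk, vz, Matrix.det_succ_row_zero, Fin.sum_univ_succ, Fin.succAbove]
  ring

theorem det4_one : det4 one = 1 ∧ mult one = 1 := by
  refine ⟨?_, by decide⟩
  have : toM one = 1 := by decide +kernel
  rw [det4, this, Matrix.det_one]

theorem det4_uni : ∀ a b : ZMod 3, det4 (uni a b) = 1 ∧ mult (uni a b) = 1 := by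
  intro a b
  refine ⟨?_, (show ∀ a b : ZMod 3, mult (uni a b) = 1 by decide +kernel) a b⟩
  simp [det4, toM, crd, uni, vz, Matrix.det_succ_row_zero, Fin.sum_univ_succ, Fin.succAbove]

/-- The finite fact behind the determinant formula. -/
theorem plane_det : ∀ a b : ZMod 3 × ZMod 3, ∀ c d : ZMod 3 × ZMod 3, ∀ ε : ZMod 3,
    c.1 * c.1 + c.2 * c.2 = -1 → d.1 * d.1 + d.2 * d.2 = -1 →
    c.1 * c.1 + d.1 * c.2 = -1 → c.2 * c.1 + d.2 * c.2 = 0 →
    c.1 * d.1 + d.1 * d.2 = 0 → c.2 * d.1 + d.2 * d.2 = -1 →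
    a.1 * a.1 + a.2 * a.2 = ε → b.1 * b.1 + b.2 * b.2 = ε → a.1 * b.1 + a.2 * b.2 = 0 → ε ≠ 0 →
    ((a.1 * c.1 + b.1 * c.2 = c.1 * a.1 + d.1 * a.2 ∧ a.2 * c.1 + b.2 * c.2 = c.2 * a.1 + d.2 * a.2 ∧
      a.1 * d.1 + b.1 * d.2 = c.1 * b.1 + d.1 * b.2 ∧ a.2 * d.1 + b.2 * d.2 = c.2 * b.1 + d.2 * b.2) ∨
    (a.1 * c.1 + b.1 * c.2 = -(c.1 * a.1 + d.1 * a.2) ∧ a.2 * c.1 + b.2 * c.2 = -(c.2 * a.1 + d.2 * a.2) ∧
      a.1 * d.1 + b.1 * d.2 = -(c.1 * b.1 + d.1 * b.2) ∧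
      a.2 * d.1 + b.2 * d.2 = -(c.2 * b.1 + d.2 * b.2))) →
    (a.1 * b.2 - a.2 * b.1) = 1 := by
  decide +kernel

theorem five_inverter : ∀ σ : SL5, σ * σ * σ = 1 → σ ≠ 1 →
    (∃ τ : SL5, τ * τ = neg5 ∧ τ * σ * τ⁻¹ = σ⁻¹) ∧
    ∀ δ : SL5, δ * σ = σ * δ → ∃ i : Fin 3, δ = σ ^ (i : ℕ) ∨ δ = σ ^ (i : ℕ) * neg5 := by
  decide +kernel

variable {G : Type u} [Group G] [Finite G] {S : Sylow 3 G} {Z J M₀ L₀ Q : Subgroup G}
  (H : Hyp S Z J M₀ L₀ Q) {π : ↥L₀ →* SL5} {t f : G} (F : Frame Q L₀ π t f)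
  {ρ : ↥M₀ →* Six.A6} {u w : G} (B : Base S J M₀ t ρ u w)
  {z x y : G} (C : Coord Z J Q t w z x y)

/-- `n` acts on `J` as the matrix `m`. -/
def Acts (z z' x y : G) (n : G) (m : Mat) : Prop :=
  ∀ v : V, n * emb z z' x y v * n⁻¹ = emb z z' x y (app m v)

omit [Finite G] in
theorem Acts.mul {z z' x y n n' : G} {m m' : Mat} (h : Acts z z' x y n m) (h' : Acts z z' x y n' m') :
    Acts z z' x y (n * n') (comp m m') := fun v => by
  rw [app_comp, ← h, ← h']; group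

omit [Finite G] in
theorem Acts.one_one (z z' x y : G) : Acts z z' x y 1 Model.one := fun v => by
  rw [uni_steps.2.2]; group

include H F B C

local notation "zz" => w * z * w⁻¹

theorem Hyp.mems : z ∈ J ∧ zz ∈ J ∧ x ∈ J ∧ y ∈ J :=
  ⟨H.Z_le_J F C.z_mem, (H.w_Z_Ej F B C.z_mem).1, C.x_mem, C.y_mem⟩

theorem Hyp.emb_J (v : V) : emb z zz x y v ∈ J :=
  H.emb_mem (H.Z_le_J F C.z_mem) (H.w_Z_Ej F B C.z_mem).1 C.x_mem C.y_mem v

theorem Hyp.emb_mul (v v' : V) : emb z zz x y (v + v') = emb z zz x y v * emb z zz x y v' :=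
  H.emb_add (H.Z_le_J F C.z_mem) (H.w_Z_Ej F B C.z_mem).1 C.x_mem C.y_mem v v'

theorem Hyp.emb_pow (c : ZMod 3) (v : V) : emb z zz x y (sc c v) = emb z zz x y v ^ c.val :=
  H.emb_sc (H.Z_le_J F C.z_mem) (H.w_Z_Ej F B C.z_mem).1 C.x_mem C.y_mem c v

theorem Hyp.emb_eq_one {v : V} : emb z zz x y v = 1 ↔ v = 0 :=
  ⟨fun h => C.inj (h.trans (emb_basis z zz x y).1.symm), fun h => h ▸ (emb_basis z zz x y).1⟩

theorem Hyp.mem_Z_iff {a : G} : a ∈ Z ↔ ∃ c, a = emb z zz x y (sc c vz) := by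
  constructor
  · intro ha
    obtain ⟨c, rfl⟩ := H.zp_Z C.z_mem C.z_ne ha
    exact ⟨c, by rw [H.emb_pow F B C, (emb_basis z zz x y).2.1]; rfl⟩
  · rintro ⟨c, rfl⟩
    rw [H.emb_pow F B C, (emb_basis z zz x y).2.1]
    exact pow_mem C.z_mem _

theorem Hyp.mem_Ej_iff {v : V} : emb z zz x y v ∈ Ej J t ↔ v.2.1 = 0 ∧ v.2.2.1 = 0 := by
  obtain ⟨hz, hz', hx, hy⟩ := H.mems F B C
  have ht : t * emb z zz x y v * t⁻¹ = emb z zz x y (v.1, -v.2.1, -v.2.2.1, v.2.2.2) := by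
    have h1 : t * z * t⁻¹ = z := by
      rw [← mem_centralizer_iff.1 (H.L_le_cent F.t_mem) z C.z_mem, mul_inv_cancel_right]
    have h2 : t * zz * t⁻¹ = zz := by
      rw [← mem_centralizer_singleton_iff.1 (H.w_Z_Ej F B C.z_mem).2, mul_inv_cancel_right]
    simp only [emb]
    rw [zp_neg (H.J_exp x hx), zp_neg (H.J_exp y hy),
      show t * (zp z v.1 * (zp x v.2.1 * (zp y v.2.2.1 * zp zz v.2.2.2))) * t⁻¹ =
        t * zp z v.1 * t⁻¹ * (t * zp x v.2.1 * t⁻¹ * (t * zp y v.2.2.1 * t⁻¹ * (t * zp zz v.2.2.2 * t⁻¹))) by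
        group, conj_zp, conj_zp, conj_zp, conj_zp, h1, h2, C.x_t, C.y_t]
    simp only [zp, inv_pow]
  constructor
  · intro h
    have e : t * emb z zz x y v * t⁻¹ = emb z zz x y v := by
      rw [← mem_centralizer_singleton_iff.1 h.2, mul_inv_cancel_right]
    rw [ht] at e
    have e' := C.inj e
    simp only [Prod.ext_iff] at e'
    exact ⟨(show ∀ a : ZMod 3, -a = a → a = 0 by decide) _ e'.2.1,
      (show ∀ a : ZMod 3, -a = a → a = 0 by decide) _ e'.2.2.1⟩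
  · rintro ⟨h1, h2⟩
    refine ⟨H.emb_J F B C v, mem_centralizer_singleton_iff.2 ?_⟩
    refine (mul_inv_eq_iff_eq_mul.1 ?_).symm
    rw [ht]
    obtain ⟨v1, v2, v3, v4⟩ := v
    simp only at h1 h2 ⊢
    rw [h1, h2, neg_zero]

theorem Hyp.R_coord {v : V} (h : emb z zz x y v ∈ J ⊓ Q) : v.2.2.2 = 0 := by
  obtain ⟨hz, hz', hx, hy⟩ := H.mems F B C
  have hxQ : x ∈ J ⊓ Q := H.Wj_le F ⟨C.x_mem, C.x_t⟩
  have hyQ : y ∈ J ⊓ Q := H.Wj_le F ⟨C.y_mem, C.y_t⟩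
  by_contra h4
  have hq : zp zz v.2.2.2 ∈ Q := by
    have e : zp zz v.2.2.2 = (zp z v.1 * (zp x v.2.1 * zp y v.2.2.1))⁻¹ * emb z zz x y v := by
      simp only [emb]; group
    rw [e]
    exact mul_mem (inv_mem (mul_mem (zp_mem (H.Z_le_Q C.z_mem) _)
      (mul_mem (zp_mem hxQ.2 _) (zp_mem hyQ.2 _)))) h.2
  have hE : zp zz v.2.2.2 ∈ Z := H.Ej_inf_Q F (zp_mem (H.w_Z_Ej F B C.z_mem) _) hq
  refine H.w_Z_not_Z F B C.z_mem C.z_ne ?_
  rcases three_facts.2.2.1 _ h4 with h5 | h5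
  · rwa [h5, zp_one] at hE
  · have h2 := mul_mem hE hE
    rwa [← zp_add (H.J_exp zz hz'), h5, three_facts.2.2.2.1, zp_one] at h2

/-- The action of an element of `Q` on `z'`. -/
theorem Hyp.Q_image {q : G} (hq : q ∈ Q) :
    ∃ a b : ZMod 3, q * zz * q⁻¹ = emb z zz x y (app (uni a b) vz') := by
  obtain ⟨hz, hz', hx, hy⟩ := H.mems F B C
  obtain ⟨v, hv⟩ := C.onto _ ((mem_normalizer_iff.1 (H.S_le_normalizer_J F (H.Q_le_S hq)) zz).1 hz')
  have he := (emb_basis z zz x y).2.2.2.2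
  have hR := H.trans_mem_R F B C.z_mem hq
  have e : q * zz * q⁻¹ * zz⁻¹ = emb z zz x y (v - vz') := by
    have h2 := H.emb_mul F B C (v - vz') vz'
    rw [sub_add_cancel, hv, he] at h2
    rw [h2, mul_inv_cancel_right]
  rw [e] at hR
  have h4 : v.2.2.2 = 1 := by
    have h := H.R_coord F B C hR
    simpa [vz', sub_eq_zero] using h
  obtain ⟨q', hq', hact⟩ := C.trans v.2.1 v.2.2.1
  have hd : q * zz * q⁻¹ = q' * zz * q'⁻¹ * emb z zz x y
      (sc (v.1 - (v.2.1 * v.2.1 + v.2.2.1 * v.2.2.1)) vz) := by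
    have h1 := hact vz'
    rw [he] at h1
    rw [← hv, h1, ← H.emb_mul F B C]
    congr 1
    simp [app, uni, sc, vz, vz', Prod.ext_iff, h4]
  set a0 := emb z zz x y (sc (v.1 - (v.2.1 * v.2.1 + v.2.2.1 * v.2.2.1)) vz) with ha0
  have haZ : a0 ∈ Z := (H.mem_Z_iff F B C).2 ⟨_, rfl⟩
  have h2 : q'⁻¹ * q * zz * (q'⁻¹ * q)⁻¹ = zz * a0 := by
    calc q'⁻¹ * q * zz * (q'⁻¹ * q)⁻¹ = q'⁻¹ * (q * zz * q⁻¹) * q' := by group
      _ = zz * (q'⁻¹ * (a0 * q')) := by rw [hd]; group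
      _ = _ := by rw [← H.Z_comm haZ (H.Q_le_S hq'), inv_mul_cancel_left]
  have h3 : q'⁻¹ * q ∈ J ⊓ Q := H.mem_R_of_trans F B C.z_mem C.z_ne (mul_mem (inv_mem hq') hq) (by
    rw [h2, H.Z_comm haZ (H.J_le hz'), mul_inv_cancel_right]
    exact haZ)
  rw [H.J_comm _ h3.1 zz hz', mul_inv_cancel_right] at h2
  refine ⟨v.2.1, v.2.2.1, ?_⟩
  have h5 := hact vz'
  rw [he] at h5
  rw [hd, left_eq_mul.1 h2, mul_one, h5]

/-- The conjugates of `Z` in `J` are the singular points. -/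
theorem Hyp.sing_iff {v : V} (hv : v ≠ 0) : (∃ g : G, g * emb z zz x y v * g⁻¹ ∈ Z) ↔ qf v = 0 := by
  obtain ⟨hz, hz', hx, hy⟩ := H.mems F B C
  obtain ⟨e0, ez, ew1, ew2, ez'⟩ := emb_basis z zz x y
  have hzero : ∀ c : ZMod 3, qf (sc c vz) = 0 ∧ ∀ a b : ZMod 3, qf (app (uni a b) (sc c vz')) = 0 := by
    decide +kernel
  constructor
  · rintro ⟨g, hg⟩
    set z0 := g * emb z zz x y v * g⁻¹ with hz0
    have e : g⁻¹ * z0 * g⁻¹⁻¹ = emb z zz x y v := by rw [hz0]; group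
    rcases H.sing_cases F B hg (e ▸ H.emb_J F B C v) with h | ⟨s, hs, z'', hz'', h⟩
    · rw [e] at h
      obtain ⟨c, hc⟩ := (H.mem_Z_iff F B C).1 h
      rw [C.inj hc]
      exact (hzero c).1
    · rw [e] at h
      obtain ⟨a, ha, q, hq, rfl⟩ := H.exists_mul F hs
      obtain ⟨c, rfl⟩ := H.zp_Z C.z_mem C.z_ne hz''
      obtain ⟨a', b', hq'⟩ := H.Q_image F B C hq
      have h1 : q * (w * zp z c * w⁻¹) * q⁻¹ = emb z zz x y (app (uni a' b') (sc c vz')) := by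
        rw [conj_zp, conj_zp, hq', zp, ← H.emb_pow F B C]
        congr 1
        simp [app, sc, vz', Prod.ext_iff]
      have h2 : emb z zz x y v = emb z zz x y (app (uni a' b') (sc c vz')) := by
        rw [h, show a * q * (w * zp z c * w⁻¹) * (a * q)⁻¹ = a * (q * (w * zp z c * w⁻¹) * q⁻¹) * a⁻¹ by group,
          h1, H.J_comm a ha _ (H.emb_J F B C _), mul_inv_cancel_right]
      rw [C.inj h2]
      exact (hzero c).2 a' b'
  · intro h
    by_cases hz0 : ∃ c, v = sc c vz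
    · obtain ⟨c, rfl⟩ := hz0
      exact ⟨1, by
        rw [one_mul, inv_one, mul_one]
        exact (H.mem_Z_iff F B C).2 ⟨c, rfl⟩⟩
    · push Not at hz0
      obtain ⟨a, b, c, e⟩ := uni_facts.2 v h hv hz0
      obtain ⟨q, -, hq⟩ := C.trans a b
      refine ⟨(q * w)⁻¹, ?_⟩
      rw [← e, ← hq, H.emb_pow F B C, ez',
        show (q * w)⁻¹ * (q * zz ^ c.val * q⁻¹) * (q * w)⁻¹⁻¹ = w⁻¹ * zz ^ c.val * w by group, conj_pow,
        show w⁻¹ * (w * z ^ c.val * w⁻¹) * w = z ^ c.val by group]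
      exact pow_mem C.z_mem _

/-- Every element of `N(J)` acts as a similitude. -/
theorem Hyp.exists_acts {n : G} (hn : n ∈ normalizer (J : Set G)) :
    ∃ m, Acts z zz x y n m ∧ mult m ≠ 0 ∧ ∀ v, qf (app m v) = mult m * qf v := by
  obtain ⟨hz, hz', hx, hy⟩ := H.mems F B C
  obtain ⟨e0, ez, ew1, ew2, ez'⟩ := emb_basis z zz x y
  have hc : ∀ a ∈ J, ∃ v, emb z zz x y v = n * a * n⁻¹ := fun a ha =>
    C.onto _ ((mem_normalizer_iff.1 hn a).1 ha)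
  obtain ⟨m1, h1⟩ := hc z hz
  obtain ⟨m2, h2⟩ := hc x hx
  obtain ⟨m3, h3⟩ := hc y hy
  obtain ⟨m4, h4⟩ := hc zz hz'
  have hact : Acts z zz x y n (m1, m2, m3, m4) := by
    intro v
    conv_lhs => rw [emb]
    rw [show n * (zp z v.1 * (zp x v.2.1 * (zp y v.2.2.1 * zp zz v.2.2.2))) * n⁻¹ =
      n * zp z v.1 * n⁻¹ * (n * zp x v.2.1 * n⁻¹ * (n * zp y v.2.2.1 * n⁻¹ * (n * zp zz v.2.2.2 * n⁻¹))) by group,
      conj_zp, conj_zp, conj_zp, conj_zp, ← h1, ← h2, ← h3, ← h4]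
    simp only [zp, ← H.emb_pow F B C, ← H.emb_mul F B C]
    congr 1
    simp only [app]; abel
  set m : Mat := (m1, m2, m3, m4)
  have hsim : ∀ v : V, qf v = 0 → qf (app m v) = 0 := by
    intro v hv
    by_cases hv0 : v = 0
    · subst hv0; simp [app, sc, qf]
    · obtain ⟨g, hg⟩ := (H.sing_iff F B C hv0).2 hv
      refine (H.sing_iff F B C fun h => hv0 ?_).1 ⟨g * n⁻¹, ?_⟩
      · have := hact v
        rw [h, e0] at this
        exact (H.emb_eq_one F B C).1 (_root_.conj_eq_one_iff.1 this)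
      · rw [← hact]
        simpa [mul_assoc] using hg
  refine ⟨m, hact, fun hμ => ?_, similitude hsim⟩
  obtain ⟨v, hv⟩ := C.onto _ ((mem_normalizer_iff''.1 hn _).1 (H.emb_J F B C vy))
  have h := hact v
  rw [hv, show n * (n⁻¹ * emb z zz x y vy * n) * n⁻¹ = emb z zz x y vy by group] at h
  have h0 := similitude hsim v
  rw [show bil m.1 m.2.2.2 = 0 from hμ, zero_mul, ← C.inj h] at h0
  exact absurd h0 (by decide)

theorem Hyp.acts_unique {n : G} {m m' : Mat} (h : Acts z zz x y n m) (h' : Acts z zz x y n m') : m = m' := by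
  have e : ∀ v, app m v = app m' v := fun v => C.inj ((h v).symm.trans (h' v))
  have hb : ∀ m : Mat, app m vz = m.1 ∧ app m vw1 = m.2.1 ∧ app m vw2 = m.2.2.1 ∧ app m vz' = m.2.2.2 := by
    intro m; simp [app, sc, vz, vw1, vw2, vz', Prod.ext_iff]
  obtain ⟨a1, a2, a3, a4⟩ := hb m
  obtain ⟨b1, b2, b3, b4⟩ := hb m'
  ext1; · rw [← a1, ← b1, e]
  ext1; · rw [← a2, ← b2, e]
  ext1; · rw [← a3, ← b3, e]
  rw [← a4, ← b4, e]

/-- An element of `L₀` of order four over `t` fixing `z` and inverting `z'`. -/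
theorem Hyp.exists_g : ∃ g, g ∈ L₀ ∧ Commute g t ∧ g * g = t ∧ g ∈ normalizer (J : Set G) ∧
    g * z * g⁻¹ = z ∧ g * zz * g⁻¹ = zz⁻¹ := by
  obtain ⟨hz, hz', hx, hy⟩ := H.mems F B C
  have hzzL : zz ∈ L₀ := H.S_le_L (H.J_le hz')
  have hzzQ : zz ∉ Q := fun h => H.w_Z_not_Z F B C.z_mem C.z_ne (H.Ej_inf_Q F (H.w_Z_Ej F B C.z_mem) h)
  set σ := π ⟨zz, hzzL⟩ with hσ
  have hσ3 : σ * σ * σ = 1 := by
    rw [hσ, ← map_mul, ← map_mul, ← map_one π]; congr 1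
    apply Subtype.ext
    show zz * zz * zz = 1
    rw [← pow_two, ← pow_succ]; exact H.J_exp zz hz'
  obtain ⟨⟨τ, hτ, hτσ⟩, -⟩ := five_inverter σ hσ3 fun h => hzzQ ((F.ker _).1 h)
  obtain ⟨c, hc, hct⟩ := F.lift τ
  have htt : t * t = 1 := by rw [← pow_two, ← F.t_two, pow_orderOf_eq_one]
  obtain ⟨n2, n1, -, -, -, -⟩ := neg5_facts
  -- remove the central part of the square
  have hsq : ((c * c : ↥L₀) : G) * t ∈ Z := by
    refine H.eq_Z_of_t F ?_ ?_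
    · refine (F.ker ((c * c) * ⟨t, F.t_mem⟩)).1 ?_
      rw [map_mul, map_mul, hc, hτ, F.t_val, n2]
    · show Commute t ((c : G) * c * t)
      exact ((hct.symm.mul_right hct.symm).mul_right (Commute.refl t))
  set a := ((c * c : ↥L₀) : G) * t with ha
  have hca : Commute (c : G) a := (mem_centralizer_iff.1 (H.L_le_cent c.2) a hsq).symm
  have hcc : (c : G) * c = a * t := by
    rw [ha, Subgroup.coe_mul, mul_assoc, htt, mul_one]
  have hgL : a * (c : G) ∈ L₀ := mul_mem (H.Q_L (H.Z_le_Q hsq)) c.2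
  have hta : Commute a t := (mem_centralizer_iff.1 (H.L_le_cent F.t_mem) a hsq)
  have hπ : π ⟨a * (c : G), hgL⟩ = τ := by
    rw [show (⟨a * (c : G), hgL⟩ : ↥L₀) = ⟨a, H.Q_L (H.Z_le_Q hsq)⟩ * c from rfl, map_mul,
      (F.ker ⟨a, _⟩).2 (H.Z_le_Q hsq), one_mul, hc]
  set g := a * (c : G) with hg
  have hgg : g * g = t := by
    calc g * g = a * ((c : G) * a) * c := by rw [hg]; group
      _ = a * (a * (c : G)) * c := by rw [hca.eq]
      _ = a * a * ((c : G) * c) := by group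
      _ = a ^ 3 * t := by rw [hcc]; simp only [pow_succ, pow_zero, one_mul, mul_assoc]
      _ = t := by rw [H.Q_exp a (H.Z_le_Q hsq), one_mul]
  have hgt : Commute g t := hta.mul_left hct
  have hgz : g * z * g⁻¹ = z := by
    rw [← mem_centralizer_iff.1 (H.L_le_cent hgL) z C.z_mem, mul_inv_cancel_right]
  have hinv : g * zz * g⁻¹ * zz ∈ Q := by
    refine (F.ker (⟨g, hgL⟩ * ⟨zz, hzzL⟩ * ⟨g, hgL⟩⁻¹ * ⟨zz, hzzL⟩)).1 ?_
    rw [map_mul, map_mul, map_mul, map_inv, hπ, ← hσ, hτσ, inv_mul_cancel]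
  -- `g` normalizes `S = Q J`
  have hgS : g ∈ normalizer ((S : Subgroup G) : Set G) := by
    refine Subgroup.mem_normalizer_fintype fun s hs => ?_
    obtain ⟨b, hb, q, hq, rfl⟩ := H.exists_mul F hs
    have hgQ := H.L_le_normalizer_Q hgL
    obtain ⟨v, rfl⟩ := C.onto b hb
    have hgx : ∀ r ∈ J ⊓ Q, g * r * g⁻¹ ∈ (S : Subgroup G) := fun r hr =>
      H.Q_le_S ((mem_normalizer_iff.1 hgQ r).1 hr.2)
    have hgzz : g * zz * g⁻¹ ∈ (S : Subgroup G) := by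
      rw [show g * zz * g⁻¹ = g * zz * g⁻¹ * zz * zz⁻¹ by group]
      exact mul_mem (H.Q_le_S hinv) (inv_mem (H.J_le hz'))
    have hzR : z ∈ J ⊓ Q := ⟨hz, H.Z_le_Q C.z_mem⟩
    rw [show g * (emb z zz x y v * q) * g⁻¹ = g * emb z zz x y v * g⁻¹ * (g * q * g⁻¹) by group]
    refine mul_mem ?_ (H.Q_le_S ((mem_normalizer_iff.1 hgQ q).1 hq))
    rw [emb, show g * (zp z v.1 * (zp x v.2.1 * (zp y v.2.2.1 * zp zz v.2.2.2))) * g⁻¹ =
      g * zp z v.1 * g⁻¹ * (g * zp x v.2.1 * g⁻¹ * (g * zp y v.2.2.1 * g⁻¹ * (g * zp zz v.2.2.2 * g⁻¹))) by group,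
      conj_zp, conj_zp, conj_zp, conj_zp]
    exact mul_mem (zp_mem (hgx z hzR) _) (mul_mem (zp_mem (hgx x (H.Wj_le F ⟨hx, C.x_t⟩)) _)
      (mul_mem (zp_mem (hgx y (H.Wj_le F ⟨hy, C.y_t⟩)) _) (zp_mem hgzz _)))
  have hgJ := H.normalizer_S_le F hgS
  obtain ⟨v, hv⟩ := C.onto _ ((mem_normalizer_iff.1 hgJ zz).1 hz')
  have hvE : emb z zz x y v ∈ Ej J t := by
    rw [hv]
    refine ⟨(mem_normalizer_iff.1 hgJ zz).1 hz', mem_centralizer_singleton_iff.2 ?_⟩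
    exact ((hgt.mul_left (mem_centralizer_singleton_iff.1 (H.w_Z_Ej F B C.z_mem).2 : Commute zz t)).mul_left
      hgt.inv_left).eq
  obtain ⟨h2, h3⟩ := (H.mem_Ej_iff F B C).1 hvE
  have hv0 : v ≠ 0 := by
    rintro rfl
    rw [(emb_basis z zz x y).1] at hv
    exact C.z_ne (_root_.conj_eq_one_iff.1 (_root_.conj_eq_one_iff.1 hv.symm))
  have hq0 : qf v = 0 := (H.sing_iff F B C hv0).1 ⟨(g * w)⁻¹, by
    rw [hv, show (g * w)⁻¹ * (g * zz * g⁻¹) * (g * w)⁻¹⁻¹ = z by group]; exact C.z_mem⟩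
  have hsum : (v + vz').2.2.2 = 0 := H.R_coord F B C (by
    rw [H.emb_mul F B C, hv, (emb_basis z zz x y).2.2.2.2]
    exact ⟨mul_mem ((mem_normalizer_iff.1 hgJ zz).1 hz') hz', hinv⟩)
  have hv' : v = -vz' := (show ∀ v : V, qf v = 0 → v.2.1 = 0 → v.2.2.1 = 0 → (v + vz').2.2.2 = 0 → v = -vz' by
    decide +kernel) v hq0 h2 h3 hsum
  refine ⟨g, hgL, hgt, hgg, hgJ, hgz, ?_⟩
  rw [← hv, hv']
  have h0 := H.emb_mul F B C (-vz') vz'
  rw [neg_add_cancel, (emb_basis z zz x y).1, (emb_basis z zz x y).2.2.2.2] at h0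
  exact eq_inv_of_mul_eq_one_left h0.symm

end Cfsg.Agent.McLThree
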