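import Cfsg.Agent.Lib.McLThree.Sylow

/-!
# The elements of `C(Z)` centralising `L₀` modulo `Q`

Such an element that fixes `t` lies in `Z⟨t⟩`: the symmetric form it would give on `Q/Z` has a number of
zeros that an element of order five does not allow.
-/

set_option autoImplicit false
set_option linter.unusedSectionVars false
set_option linter.style.haveILetI false
set_option maxRecDepth 100000

namespace Cfsg.Agent.McLThree

open Subgroup
open scoped Pointwise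

universe u

variable {G : Type u} [Group G] [Finite G] {S : Sylow 3 G} {Z J M₀ L₀ Q : Subgroup G}
  (H : Hyp S Z J M₀ L₀ Q)
include H

theorem Hyp.Q_le_cent : Q ≤ centralizer (Z : Set G) := H.Q_L.trans H.L_le_cent

theorem Hyp.conj_Q {g : G} (hg : g ∈ centralizer (Z : Set G)) {x : G} (hx : x ∈ Q) : g * x * g⁻¹ ∈ Q :=
  (mem_normalizer_iff.1 (H.normalizer_le (H.cent_le hg)) x).1 hx

theorem Hyp.conj_Z {g : G} (hg : g ∈ centralizer (Z : Set G)) {z : G} (hz : z ∈ Z) : g * z * g⁻¹ = z := by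
  rw [← mem_centralizer_iff.1 hg z hz, mul_inv_cancel_right]

theorem Hyp.Z_central {q z : G} (hq : q ∈ Q) (hz : z ∈ Z) : Commute q z := H.Z_comm hz (H.Q_le_S hq)

/-- The elements fixed modulo `Z` by an element of `C(Z)`. -/
def Hyp.fixC {g : G} (hg : g ∈ centralizer (Z : Set G)) : Subgroup G where
  carrier := {x | x ∈ Q ∧ g * x * g⁻¹ * x⁻¹ ∈ Z}
  one_mem' := ⟨one_mem _, by simp⟩
  mul_mem' := fun {x y} hx hy => by
    refine ⟨mul_mem hx.1 hy.1, ?_⟩
    rw [show g * (x * y) * g⁻¹ * (x * y)⁻¹ = g * x * g⁻¹ * x⁻¹ * (x * (g * y * g⁻¹ * y⁻¹) * x⁻¹) by group,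
      (H.Z_central hx.1 hy.2).eq, mul_inv_cancel_right]
    exact mul_mem hx.2 hy.2
  inv_mem' := fun {x} hx => by
    refine ⟨inv_mem hx.1, ?_⟩
    rw [show g * x⁻¹ * g⁻¹ * x⁻¹⁻¹ = x⁻¹ * (g * x * g⁻¹ * x⁻¹)⁻¹ * x⁻¹⁻¹ by group,
      (H.Z_central (inv_mem hx.1) (inv_mem hx.2)).eq, mul_inv_cancel_right]
    exact inv_mem hx.2

/-- An element of `C(Z)` of order prime to three fixing `x` modulo `Z` fixes `x`. -/
theorem Hyp.commute_of_fixC {g : G} (hg : g ∈ centralizer (Z : Set G)) {x : G} (hx : x ∈ H.fixC hg)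
    (h3 : ¬ 3 ∣ orderOf g) : Commute g x := by
  set z := g * x * g⁻¹ * x⁻¹ with hz
  have hzZ : z ∈ Z := hx.2
  have hcz : Commute g z := (mem_centralizer_iff.1 hg z hzZ).symm
  have h0 : g * x * g⁻¹ = z * x := (inv_mul_cancel_right (g * x * g⁻¹) x).symm
  have h1 : ∀ i : ℕ, g ^ i * x * (g ^ i)⁻¹ = z ^ i * x := by
    intro i
    induction i with
    | zero => simp
    | succ i ih =>
      rw [pow_succ' g, show g * g ^ i * x * (g * g ^ i)⁻¹ = g * (g ^ i * x * (g ^ i)⁻¹) * g⁻¹ by group, ih,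
        show g * (z ^ i * x) * g⁻¹ = g * z ^ i * g⁻¹ * (g * x * g⁻¹) by group, (hcz.pow_right i).eq,
        mul_inv_cancel_right]
      exact (congrArg (z ^ i * ·) h0).trans ((mul_assoc _ _ _).symm.trans (by rw [← pow_succ]))
  have h2 : z ^ orderOf g = 1 := by
    have h := h1 (orderOf g)
    rw [pow_orderOf_eq_one, one_mul, inv_one, mul_one] at h
    exact right_eq_mul.1 h
  have hz1 : z = 1 := by
    refine orderOf_eq_one_iff.1 (Nat.eq_one_of_dvd_coprimes ((Nat.prime_three.coprime_iff_not_dvd).2 h3) ?_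
      (orderOf_dvd_of_pow_eq_one h2))
    exact orderOf_dvd_of_pow_eq_one (H.Q_exp z (H.Z_le_Q hzZ))
  exact mul_inv_eq_iff_eq_mul.1 (mul_inv_eq_one.1 hz1)

/-- An element of `C(Z)` fixing every point of `Q/Z` lies in `Q`. -/
theorem Hyp.mem_Q_of_fixC {g : G} (hg : g ∈ centralizer (Z : Set G)) (hfix : Q ≤ H.fixC hg) : g ∈ Q := by
  haveI : Fact (Nat.Prime 3) := ⟨Nat.prime_three⟩
  set C := centralizer (Z : Set G)
  let K : Subgroup ↥C :=
    { carrier := {h | ∀ x ∈ Q, (h : G) * x * (h : G)⁻¹ * x⁻¹ ∈ Z}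
      one_mem' := fun x _ => by simp
      mul_mem' := fun {a b} ha hb x hx => by
        show (a : G) * b * x * ((a : G) * b)⁻¹ * x⁻¹ ∈ Z
        rw [show (a : G) * b * x * ((a : G) * b)⁻¹ * x⁻¹ =
          (a : G) * ((b : G) * x * (b : G)⁻¹ * x⁻¹) * (a : G)⁻¹ * ((a : G) * x * (a : G)⁻¹ * x⁻¹) by group,
          H.conj_Z a.2 (hb x hx)]
        exact mul_mem (hb x hx) (ha x hx)
      inv_mem' := fun {a} ha x hx => by
        show (a : G)⁻¹ * x * (a : G)⁻¹⁻¹ * x⁻¹ ∈ Z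
        rw [show (a : G)⁻¹ * x * (a : G)⁻¹⁻¹ * x⁻¹ =
          (a : G)⁻¹ * ((a : G) * x * (a : G)⁻¹ * x⁻¹)⁻¹ * (a : G)⁻¹⁻¹ by group,
          H.conj_Z (inv_mem a.2) (inv_mem (ha x hx))]
        exact inv_mem (ha x hx) }
  haveI : K.Normal := ⟨fun a ha c x hx => by
    show (c : G) * a * (c : G)⁻¹ * x * ((c : G) * a * (c : G)⁻¹)⁻¹ * x⁻¹ ∈ Z
    set y := (c : G)⁻¹ * x * (c : G)⁻¹⁻¹
    have hy : y ∈ Q := H.conj_Q (inv_mem c.2) hx
    rw [show (c : G) * a * (c : G)⁻¹ * x * ((c : G) * a * (c : G)⁻¹)⁻¹ * x⁻¹ =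
      (c : G) * ((a : G) * y * (a : G)⁻¹ * y⁻¹) * (c : G)⁻¹ by simp only [y]; group, H.conj_Z c.2 (ha y hy)]
    exact ha y hy⟩
  have hp : IsPGroup 3 ↥K := fun a => by
    set n := orderOf (((a : ↥C) : G)) with hn
    refine ⟨n.factorization 3 + 1, Subtype.ext (Subtype.ext ?_)⟩
    show (((a : ↥C) : G)) ^ 3 ^ (n.factorization 3 + 1) = 1
    set h := (((a : ↥C) : G)) ^ 3 ^ n.factorization 3 with hh
    have hho : ¬ 3 ∣ orderOf h := by
      rw [hh, orderOf_pow, ← hn, Nat.gcd_eq_right (Nat.ordProj_dvd n 3)]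
      exact Nat.not_dvd_ordCompl Nat.prime_three (orderOf_pos _).ne'
    have hhK : (⟨h, pow_mem (a : ↥C).2 _⟩ : ↥C) ∈ K := pow_mem a.2 _
    have hhZ : h ∈ Z := H.cent_Q (mem_centralizer_iff.2 fun x hx =>
      (H.commute_of_fixC (pow_mem (a : ↥C).2 _) (⟨hx, hhK x hx⟩ : x ∈ H.fixC _) hho).symm.eq)
    rw [pow_succ, pow_mul, ← hh]
    exact H.Q_exp h (H.Z_le_Q hhZ)
  have hmem : (⟨g, hg⟩ : ↥C) ∈ Cfsg.pCore 3 ↥C := PLocal.Cores.le_pCore hp fun x hx => (hfix hx).2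
  rw [← H.core_cent]
  exact ⟨_, hmem, rfl⟩

variable {π : ↥L₀ →* SL5} {t f : G} (F : Frame Q L₀ π t f)
include F

/-- A subgroup between `Z` and `Q` invariant under the element of order five is `Z` or `Q`. -/
theorem Hyp.eq_Z_or_eq_Q {W : Subgroup G} (hZW : Z ≤ W) (hWQ : W ≤ Q) (hfW : f ∈ normalizer (W : Set G)) :
    W = Z ∨ W = Q := by
  haveI : Fact (Nat.Prime 5) := ⟨Nat.prime_five⟩
  have hF : IsPGroup 5 ↥(zpowers f) := IsPGroup.of_card (n := 1) (by rw [Nat.card_zpowers, F.f_five, pow_one])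
  letI : MulAction ↥(zpowers f) ↥W :=
    { smul := fun a q => ⟨(a : G) * q * (a : G)⁻¹,
        (mem_normalizer_iff.1 (zpowers_le.2 hfW a.2) _).1 q.2⟩
      one_smul := fun q => Subtype.ext (show (1 : G) * (q : G) * (1 : G)⁻¹ = q by group)
      mul_smul := fun a b q => Subtype.ext (show (a : G) * b * q * ((a : G) * b)⁻¹ =
        (a : G) * ((b : G) * q * (b : G)⁻¹) * (a : G)⁻¹ by group) }
  have hfix : Nat.card ↥(MulAction.fixedPoints ↥(zpowers f) ↥W) = 3 := by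
    rw [← H.card_Z]
    refine Nat.card_congr
      { toFun := fun q => ⟨((q : ↥W) : G), H.eq_Z_of_five F.f_mem F.f_five (W := Q ⊓ centralizer ({f} : Set G))
          inf_le_left (fun y hy => (mem_centralizer_singleton_iff.1 hy.2).symm)
          ⟨hWQ (q : ↥W).2, mem_centralizer_singleton_iff.2 (mul_inv_eq_iff_eq_mul.1
            (congrArg Subtype.val (q.2 ⟨f, mem_zpowers f⟩) : f * ((q : ↥W) : G) * f⁻¹ = ((q : ↥W) : G))).symm⟩⟩
        invFun := fun z => ⟨⟨z, hZW z.2⟩, fun a => Subtype.ext ?_⟩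
        left_inv := fun q => rfl
        right_inv := fun z => rfl }
    show (a : G) * (z : G) * (a : G)⁻¹ = z
    exact H.conj_Z (H.L_le_cent (zpowers_le.2 F.f_mem a.2)) z.2
  have hmod := hF.card_modEq_card_fixedPoints ↥W
  rw [hfix] at hmod
  obtain ⟨j, hj, hje⟩ := (Nat.dvd_prime_pow Nat.prime_three).1
    (show Nat.card ↥W ∣ 3 ^ 5 from by
      have := card_dvd_of_le hWQ; rwa [H.Q_card, show (243 : ℕ) = 3 ^ 5 by norm_num] at this)
  rw [hje] at hmod
  interval_cases j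
  · exact absurd hmod (by decide)
  · exact Or.inl (eq_of_le_of_card_ge hZW (by rw [hje, H.card_Z]; norm_num)).symm
  · exact absurd hmod (by decide)
  · exact absurd hmod (by decide)
  · exact absurd hmod (by decide)
  · exact Or.inr (eq_of_le_of_card_ge hWQ (by rw [hje, H.Q_card]; norm_num))

/-- `t` inverts `Q` modulo `Z`. -/
theorem Hyp.t_inverts {x : G} (hx : x ∈ Q) : t * x * t⁻¹ * x ∈ Z := by
  have htC := H.L_le_cent F.t_mem
  have hx' : t * x * t⁻¹ ∈ Q := H.conj_Q htC hx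
  set y := t * x * t⁻¹ * x
  have hy : y ∈ Q := mul_mem hx' hx
  have hti : t⁻¹ = t := inv_eq_of_mul_eq_one_right (by rw [← pow_two, ← F.t_two, pow_orderOf_eq_one])
  have htt : t * t = 1 := by rw [← pow_two, ← F.t_two, pow_orderOf_eq_one]
  have hyfix : y ∈ H.fixC htC := by
    refine ⟨hy, ?_⟩
    have e : t * y * t⁻¹ * y⁻¹ = x * (t * x * t⁻¹) * x⁻¹ * (t * x * t⁻¹)⁻¹ := by
      simp only [y, hti]
      calc t * (t * x * t * x) * t * (t * x * t * x)⁻¹
          = (t * t) * x * (t * x * t) * (x⁻¹ * (t * x * t)⁻¹) := by group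
        _ = x * (t * x * t) * x⁻¹ * (t * x * t)⁻¹ := by rw [htt]; group
    rw [e]
    exact H.comm_Q hx hx'
  exact H.eq_Z_of_t F hy (H.commute_of_fixC htC hyfix (by rw [F.t_two]; norm_num))

/-- An element centralising `L₀` modulo `Q`, outside `Z`, fixes no point of `Q/Z` outside `1`. -/
theorem Hyp.free {g : G} (hg : g ∈ centralizer (Z : Set G)) (hgt : Commute g t)
    (hgL : ∀ c ∈ L₀, g * c * g⁻¹ * c⁻¹ ∈ Q) (hgZ : g ∉ Z) {x : G} (hx : x ∈ H.fixC hg) : x ∈ Z := by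
  have hfn : f ∈ normalizer (H.fixC hg : Set G) := by
    refine Subgroup.mem_normalizer_fintype fun y hy => ⟨H.conj_Q (H.L_le_cent F.f_mem) hy.1, ?_⟩
    have hq : g * f * g⁻¹ * f⁻¹ ∈ Q := hgL f F.f_mem
    set q := g * f * g⁻¹ * f⁻¹
    set w := g * y * g⁻¹
    have hw : w ∈ Q := H.conj_Q hg hy.1
    have hfw : f * w * f⁻¹ ∈ Q := H.conj_Q (H.L_le_cent F.f_mem) hw
    have hfy : f * (w * y⁻¹) * f⁻¹ ∈ Z := by rw [H.conj_Z (H.L_le_cent F.f_mem) hy.2]; exact hy.2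
    rw [show g * (f * y * f⁻¹) * g⁻¹ * (f * y * f⁻¹)⁻¹ =
      (q * (f * w * f⁻¹) * q⁻¹ * (f * w * f⁻¹)⁻¹) * (f * (w * y⁻¹) * f⁻¹) by simp only [q, w]; group]
    exact mul_mem (H.comm_Q hq hfw) hfy
  rcases H.eq_Z_or_eq_Q F (W := H.fixC hg) (fun z hz => ⟨H.Z_le_Q hz, by rw [H.conj_Z hg hz, mul_inv_cancel]; exact one_mem _⟩)
    (fun y hy => hy.1) hfn with h | h
  · exact h ▸ hx
  · exact absurd (H.eq_Z_of_t F (H.mem_Q_of_fixC hg h.ge) hgt.symm) hgZ

/-- An element fixing `t` whose square lies in `Z` and which centralises `L₀` modulo `Q` lies in `Z⟨t⟩`. -/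
theorem Hyp.invol_kernel {g : G} (hg : g ∈ centralizer (Z : Set G)) (hgt : Commute g t)
    (hgL : ∀ c ∈ L₀, g * c * g⁻¹ * c⁻¹ ∈ Q) (hg2 : g * g ∈ Z) : g ∈ Z ∨ g * t ∈ Z := by
  by_cases hgZ : g ∈ Z
  · exact Or.inl hgZ
  refine Or.inr ?_
  have htC := H.L_le_cent F.t_mem
  have hgtC : g * t ∈ centralizer (Z : Set G) := mul_mem hg htC
  refine H.eq_Z_of_t F (H.mem_Q_of_fixC hgtC fun x hx => ⟨hx, ?_⟩) (hgt.symm.mul_right (Commute.refl t))
  -- `g` inverts modulo `Z`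
  have hinv : g * x * g⁻¹ * x ∈ Z := by
    have hgx : g * x * g⁻¹ ∈ Q := H.conj_Q hg hx
    refine H.free F hg hgt hgL hgZ ⟨mul_mem hgx hx, ?_⟩
    have h2 : g * (g * x * g⁻¹) * g⁻¹ = x := by
      rw [show g * (g * x * g⁻¹) * g⁻¹ = g * g * x * (g * g)⁻¹ by group, ← (H.Z_central hx hg2).eq,
        mul_inv_cancel_right]
    rw [show g * (g * x * g⁻¹ * x) * g⁻¹ = g * (g * x * g⁻¹) * g⁻¹ * (g * x * g⁻¹) by group, h2,
      show x * (g * x * g⁻¹) * (g * x * g⁻¹ * x)⁻¹ = x * (g * x * g⁻¹) * x⁻¹ * (g * x * g⁻¹)⁻¹ by group]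
    exact H.comm_Q hx hgx
  have h1 := H.t_inverts F hx
  have hgx : g * x * g⁻¹ ∈ Q := H.conj_Q hg hx
  set u := t * x * t⁻¹ * x
  have hu : g * t * x * (g * t)⁻¹ * x⁻¹ = u * ((g * x * g⁻¹)⁻¹ * x⁻¹) := by
    rw [show g * t * x * (g * t)⁻¹ * x⁻¹ = g * u * g⁻¹ * ((g * x * g⁻¹)⁻¹ * x⁻¹) by simp only [u]; group,
      H.conj_Z hg h1]
  rw [hu]
  refine mul_mem h1 ?_
  have e : (g * x * g⁻¹)⁻¹ * x⁻¹ =
      (g * x * g⁻¹)⁻¹ * x⁻¹ * (g * x * g⁻¹)⁻¹⁻¹ * x⁻¹⁻¹ * (g * x * g⁻¹ * x)⁻¹ := by group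
  rw [e]
  exact mul_mem (H.comm_Q (inv_mem hgx) (inv_mem hx)) (inv_mem hinv)

/-- The set where the form of `g` vanishes. -/
def zeroSet (Q : Subgroup G) (g : G) : Set G :=
  {x | x ∈ Q ∧ g * x * g⁻¹ * x * (g * x * g⁻¹)⁻¹ * x⁻¹ = 1}

/-- No element squares to `t` modulo `Z`. -/
theorem Hyp.false_of_sq {g : G} (hg : g ∈ centralizer (Z : Set G)) (hgt : Commute g t)
    (hgL : ∀ c ∈ L₀, g * c * g⁻¹ * c⁻¹ ∈ Q) (hg2 : g * g * t⁻¹ ∈ Z) : False := by
  classical
  haveI : Fact (Nat.Prime 5) := ⟨Nat.prime_five⟩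
  haveI : Fact (Nat.Prime 3) := ⟨Nat.prime_three⟩
  have hZcomm : ∀ {a b z z' : G}, a ∈ Q → b ∈ Q → z ∈ Z → z' ∈ Z →
      (z * a) * (z' * b) * (z * a)⁻¹ * (z' * b)⁻¹ = a * b * a⁻¹ * b⁻¹ := by
    intro a b z z' ha hb hz hz'
    have h1 := (H.Z_central ha hz').eq
    have h2 := (H.Z_central (mul_mem (mul_mem ha hb) (inv_mem ha)) hz).eq
    calc z * a * (z' * b) * (z * a)⁻¹ * (z' * b)⁻¹
        = z * (a * z') * b * a⁻¹ * z⁻¹ * b⁻¹ * z'⁻¹ := by group
      _ = z' * (z * (a * b * a⁻¹)) * z⁻¹ * b⁻¹ * z'⁻¹ := by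
          rw [h1, show z * (z' * a) * b * a⁻¹ = z' * (z * (a * b * a⁻¹)) by
            rw [show z' * (z * (a * b * a⁻¹)) = z' * z * a * b * a⁻¹ by group,
              H.Z_comm hz (H.Q_le_S (H.Z_le_Q hz'))]
            group]
      _ = z' * (a * b * a⁻¹ * b⁻¹) * z'⁻¹ := by rw [← h2]; group
      _ = a * b * a⁻¹ * b⁻¹ := by
          rw [← (H.Z_central (H.Z_le_Q hz') (H.comm_Q ha hb)).symm.eq, mul_inv_cancel_right]
  set R := J ⊓ Q with hR
  obtain ⟨a, haJ, haQ⟩ := SetLike.not_le_iff_exists.1 (H.abelian_facts F H.J_le H.J_comm H.J_card).1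
  have hgR : ∀ r ∈ R, g * r * g⁻¹ ∈ R := by
    intro r hr
    have hrq : r ∈ H.fix (H.S_le_L (H.J_le haJ)) := by rw [H.fix_eq F (H.J_le haJ) haQ]; exact hr
    rw [hR, ← H.fix_eq F (H.J_le haJ) haQ]
    refine ⟨H.conj_Q hg hrq.1, ?_⟩
    have hq : g * a * g⁻¹ * a⁻¹ ∈ Q := hgL a (H.S_le_L (H.J_le haJ))
    set q := g * a * g⁻¹ * a⁻¹
    have hgz : g * (a * r * a⁻¹ * r⁻¹) * g⁻¹ ∈ Z := by rw [H.conj_Z hg hrq.2]; exact hrq.2
    have har : a * (g * r * g⁻¹) * a⁻¹ ∈ Q := H.conj_Q (H.L_le_cent (H.S_le_L (H.J_le haJ))) (H.conj_Q hg hrq.1)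
    rw [show a * (g * r * g⁻¹) * a⁻¹ * (g * r * g⁻¹)⁻¹ =
      (q⁻¹ * (g * (a * r * a⁻¹ * r⁻¹) * g⁻¹) * q) * (q⁻¹ * (g * r * g⁻¹) * q * (g * r * g⁻¹)⁻¹) by
        simp only [q]; group]
    refine mul_mem ?_ ?_
    · rw [(H.Z_central (inv_mem hq) hgz).eq, inv_mul_cancel_right]; exact hgz
    · simpa using H.comm_Q (inv_mem hq) (H.conj_Q hg hrq.1)
  have hRc : ∀ r ∈ R, ∀ r' ∈ R, r * r' * r⁻¹ * r'⁻¹ = 1 := fun r hr r' hr' => by
    rw [H.J_comm r hr.1 r' hr'.1, mul_inv_cancel_right, mul_inv_cancel]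
  set Zs := zeroSet Q g with hZs
  have hZsQ : Zs ⊆ (Q : Set G) := fun x hx => hx.1
  -- the commutators as homomorphisms on `R`
  let B : G → G → G := fun a b => a * b * a⁻¹ * b⁻¹
  have hBl : ∀ {a a' b : G}, a ∈ Q → a' ∈ Q → b ∈ Q → B (a * a') b = B a b * B a' b := by
    intro a a' b ha ha' hb
    show a * a' * b * (a * a')⁻¹ * b⁻¹ = a * b * a⁻¹ * b⁻¹ * (a' * b * a'⁻¹ * b⁻¹)
    have hz := H.comm_Q ha' hb
    rw [show a * a' * b * (a * a')⁻¹ * b⁻¹ = a * (a' * b * a'⁻¹ * b⁻¹) * a⁻¹ * (a * b * a⁻¹ * b⁻¹) by group,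
      (H.Z_central ha hz).eq, mul_inv_cancel_right, (H.Z_central (H.Z_le_Q (H.comm_Q ha hb)) hz).eq]
  have hBr : ∀ {a b b' : G}, a ∈ Q → b ∈ Q → b' ∈ Q → B a (b * b') = B a b * B a b' := by
    intro a b b' ha hb hb'
    show a * (b * b') * a⁻¹ * (b * b')⁻¹ = a * b * a⁻¹ * b⁻¹ * (a * b' * a⁻¹ * b'⁻¹)
    have hz := H.comm_Q ha hb'
    rw [show a * (b * b') * a⁻¹ * (b * b')⁻¹ = a * b * a⁻¹ * b⁻¹ * (b * (a * b' * a⁻¹ * b'⁻¹) * b⁻¹) by group,
      (H.Z_central hb hz).eq, mul_inv_cancel_right]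
  have hBinv : ∀ {a b : G}, a ∈ Q → b ∈ Q → B a b = (B b a)⁻¹ := fun {a b} _ _ => by
    show a * b * a⁻¹ * b⁻¹ = (b * a * b⁻¹ * a⁻¹)⁻¹
    group
  -- the conjugation of commutators by `g`
  have hsym : ∀ {r w : G}, r ∈ Q → w ∈ Q → B (g * w * g⁻¹) r = B (g * r * g⁻¹) w := by
    intro r w hr hw
    have hgw := H.conj_Q hg hw
    have hgr := H.conj_Q hg hr
    have hz := H.comm_Q hgw hr
    have h1 : B (g * w * g⁻¹) r = B (g * (g * w * g⁻¹) * g⁻¹) (g * r * g⁻¹) := by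
      show _ = g * (g * w * g⁻¹) * g⁻¹ * (g * r * g⁻¹) * (g * (g * w * g⁻¹) * g⁻¹)⁻¹ * (g * r * g⁻¹)⁻¹
      rw [show g * (g * w * g⁻¹) * g⁻¹ * (g * r * g⁻¹) * (g * (g * w * g⁻¹) * g⁻¹)⁻¹ * (g * r * g⁻¹)⁻¹ =
        g * B (g * w * g⁻¹) r * g⁻¹ by simp only [B]; group, H.conj_Z hg hz]
    set z := g * g * t⁻¹ with hz0
    have h2 : g * (g * w * g⁻¹) * g⁻¹ = (t * w * t⁻¹ * w) * w⁻¹ := by
      rw [show g * (g * w * g⁻¹) * g⁻¹ = z * (t * w * t⁻¹) * z⁻¹ by simp only [hz0]; group,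
        ← (H.Z_central (H.conj_Q (H.L_le_cent F.t_mem) hw) hg2).eq, mul_inv_cancel_right, mul_inv_cancel_right]
    rw [h1, h2]
    calc B (t * w * t⁻¹ * w * w⁻¹) (g * r * g⁻¹) = B w⁻¹ (g * r * g⁻¹) := by
          have := hZcomm (a := w⁻¹) (b := g * r * g⁻¹) (z := t * w * t⁻¹ * w) (z' := 1) (inv_mem hw) hgr
            (H.t_inverts F hw) (one_mem _)
          simpa [B] using this
      _ = (B w (g * r * g⁻¹))⁻¹ := by
          refine eq_inv_of_mul_eq_one_left ?_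
          rw [← hBl (inv_mem hw) hw hgr, inv_mul_cancel]
          show (1 : G) * (g * r * g⁻¹) * (1 : G)⁻¹ * (g * r * g⁻¹)⁻¹ = 1
          group
      _ = B (g * r * g⁻¹) w := by rw [hBinv hw hgr, inv_inv]
  -- the fibres over `Q/R`
  have hfib : ∀ w ∈ Q, Nat.card {r : ↥R // (r : G) * w ∈ Zs} = if w ∈ R then 27 else 9 := by
    intro w hw
    split_ifs with hwR
    · rw [← H.card_J_inf_Q F]
      refine Nat.card_congr (Equiv.subtypeUnivEquiv fun r => ⟨mul_mem r.2.2 hw, ?_⟩)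
      exact hRc _ (hgR _ (mul_mem r.2 hwR)) _ (mul_mem r.2 hwR)
    · set gw := g * w * g⁻¹
      have hgw : gw ∈ Q := H.conj_Q hg hw
      let lamR : ↥R →* ↥Z :=
        { toFun := fun r => ⟨B (g * (r : G) * g⁻¹) w * B (g * (r : G) * g⁻¹) w,
            mul_mem (H.comm_Q (H.conj_Q hg r.2.2) hw) (H.comm_Q (H.conj_Q hg r.2.2) hw)⟩
          map_one' := Subtype.ext (by simp [B])
          map_mul' := fun r r' => Subtype.ext (by
            have h1 := H.comm_Q (H.conj_Q hg r'.2.2) hw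
            have h2 := H.comm_Q (H.conj_Q hg r.2.2) hw
            have hc := (H.Z_central (H.Z_le_Q h1) h2).eq
            show B (g * ((r : G) * r') * g⁻¹) w * B (g * ((r : G) * r') * g⁻¹) w = _
            rw [show g * ((r : G) * r') * g⁻¹ = g * r * g⁻¹ * (g * r' * g⁻¹) by group,
              hBl (H.conj_Q hg r.2.2) (H.conj_Q hg r'.2.2) hw]
            show B (g * r * g⁻¹) w * B (g * r' * g⁻¹) w * (B (g * r * g⁻¹) w * B (g * r' * g⁻¹) w) =
              B (g * r * g⁻¹) w * B (g * r * g⁻¹) w * (B (g * r' * g⁻¹) w * B (g * r' * g⁻¹) w)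
            simp only [B] at hc ⊢
            rw [mul_assoc, ← mul_assoc (g * r' * g⁻¹ * w * (g * r' * g⁻¹)⁻¹ * w⁻¹), hc]
            group) }
      -- surjectivity
      have hne : lamR.range ≠ ⊥ := by
        intro he
        have hcen : w ∈ centralizer (R : Set G) := by
          refine mem_centralizer_iff.2 fun r hr => ?_
          have hr' : g⁻¹ * r * g ∈ R := by
            -- `R` is finite and invariant
            have hsub : R.map (MulAut.conj g).toMonoidHom = R := eq_of_le_of_card_ge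
              (by rintro _ ⟨y, hy, rfl⟩; exact hgR y hy) (card_map_of_injective (MulEquiv.injective _)).ge
            obtain ⟨y, hy, hye⟩ := hsub.ge hr
            rw [← hye]
            simpa [MulAut.conj_apply, mul_assoc] using hy
          have h1 : B (g * (g⁻¹ * r * g) * g⁻¹) w * B (g * (g⁻¹ * r * g) * g⁻¹) w = 1 := by
            have := congrArg Subtype.val (MonoidHom.range_eq_bot_iff.1 he ▸ rfl : lamR ⟨_, hr'⟩ = 1)
            exact this
          rw [show g * (g⁻¹ * r * g) * g⁻¹ = r by group] at h1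
          have h3 : B r w ^ 3 = 1 := H.Q_exp _ (H.Z_le_Q (H.comm_Q hr.2 hw))
          have h4 : B r w = 1 := by
            rw [pow_succ, pow_two, h1, one_mul] at h3
            exact h3
          exact mul_inv_eq_iff_eq_mul.1 (mul_inv_eq_one.1 h4)
        refine hwR ?_
        set A := R ⊔ zpowers w
        have hAQ : A ≤ Q := sup_le inf_le_right (zpowers_le.2 hw)
        have hAc : ∀ a ∈ A, ∀ b ∈ A, a * b = b * a := by
          have hle : A ≤ centralizer (A : Set G) := by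
            refine sup_le (fun r hr => ?_) (zpowers_le.2 ?_) <;> rw [mem_centralizer_iff] <;> intro y hy
            · exact mem_centralizer_singleton_iff.1 ((sup_le
                (fun r' hr' => mem_centralizer_singleton_iff.2 (H.J_comm r' hr'.1 r hr.1))
                (zpowers_le.2 (mem_centralizer_singleton_iff.2 (mem_centralizer_iff.1 hcen r hr).symm)) :
                  A ≤ centralizer ({r} : Set G)) hy)
            · exact mem_centralizer_singleton_iff.1 ((sup_le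
                (fun r' hr' => mem_centralizer_singleton_iff.2 (mem_centralizer_iff.1 hcen r' hr'))
                (zpowers_le.2 (mem_centralizer_singleton_iff.2 rfl)) : A ≤ centralizer ({w} : Set G)) hy)
          exact fun a ha b hb => (mem_centralizer_iff.1 (hle ha) b hb).symm
        have heq : R = A := eq_of_le_of_card_ge le_sup_left (by rw [H.card_J_inf_Q F]; exact H.abelian_Q hAQ hAc)
        exact heq ▸ mem_sup_right (mem_zpowers w)
      have htop : lamR.range = ⊤ := by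
        rcases (Nat.dvd_prime Nat.prime_three).1 (H.card_Z ▸ lamR.range.card_subgroup_dvd_card) with h | h
        · exact absurd (Subgroup.eq_bot_of_card_eq _ h) hne
        · exact eq_top_of_card_eq _ (by rw [h, H.card_Z])
      obtain ⟨r₀, hr₀⟩ := (htop ▸ mem_top _ : (⟨(B gw w)⁻¹, inv_mem (H.comm_Q hgw hw)⟩ : ↥Z) ∈ lamR.range)
      have hker : Nat.card ↥lamR.ker = 9 := by
        have h := lamR.ker.card_mul_index
        rw [index_ker, htop, card_top, H.card_Z, H.card_J_inf_Q F] at h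
        omega
      rw [← hker]
      have hchar : ∀ r : ↥R, (r : G) * w ∈ Zs ↔ ((lamR r : ↥Z) : G) * B gw w = 1 := by
        intro r
        have hgr := H.conj_Q hg r.2.2
        have e : B (g * ((r : G) * w) * g⁻¹) ((r : G) * w) = ((lamR r : ↥Z) : G) * B gw w := by
          show _ = B (g * (r : G) * g⁻¹) w * B (g * (r : G) * g⁻¹) w * B gw w
          rw [show g * ((r : G) * w) * g⁻¹ = g * r * g⁻¹ * gw by simp only [gw]; group,
            hBl hgr hgw (mul_mem r.2.2 hw), hBr hgr r.2.2 hw, hBr hgw r.2.2 hw,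
            show B (g * (r : G) * g⁻¹) r = 1 from hRc _ (hgR _ r.2) _ r.2, one_mul,
            show B gw r = B (g * (r : G) * g⁻¹) w from hsym r.2.2 hw]
          group
        rw [← e]
        exact ⟨fun h => h.2, fun h => ⟨mul_mem r.2.2 hw, h⟩⟩
      refine Nat.card_congr
        { toFun := fun r => ⟨(r : ↥R) * r₀⁻¹, ?_⟩
          invFun := fun k => ⟨(k : ↥R) * r₀, ?_⟩
          left_inv := fun r => Subtype.ext (inv_mul_cancel_right _ _)
          right_inv := fun k => Subtype.ext (mul_inv_cancel_right _ _) }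
      · rw [MonoidHom.mem_ker, map_mul, map_inv, hr₀, mul_inv_eq_one]
        refine Subtype.ext ?_
        exact eq_inv_of_mul_eq_one_left ((hchar r).1 r.2)
      · rw [hchar, map_mul, MonoidHom.mem_ker.1 k.2, one_mul, hr₀]
        exact inv_mul_cancel _
  -- counting
  set R' := R.subgroupOf Q
  have hRQ : R ≤ Q := inf_le_right
  letI : Fintype (↥Q ⧸ R') := Fintype.ofFinite _
  have hidx : Fintype.card (↥Q ⧸ R') = 9 := by
    have h := R'.card_eq_card_quotient_mul_card_subgroup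
    rw [H.Q_card, Nat.card_congr (subgroupOfEquivOfLe hRQ).toEquiv, H.card_J_inf_Q F, Nat.card_eq_fintype_card] at h
    omega
  have hout : ∀ c : ↥Q ⧸ R', ((c.out : ↥Q) : G) ∈ Q := fun c => c.out.2
  have hnorm : ∀ {w : G}, w ∈ Q → ∀ {r : G}, r ∈ R → w * r * w⁻¹ ∈ R := by
    intro w hw r hr
    have hz := H.comm_Q hw hr.2
    rw [show w * r * w⁻¹ = w * r * w⁻¹ * r⁻¹ * r by group]
    exact mul_mem ⟨H.Z_le_J F hz, H.Z_le_Q hz⟩ hr
  have hequiv : {x : ↥Q // (x : G) ∈ Zs} ≃ Σ c : ↥Q ⧸ R', {r : ↥R // (r : G) * ((c.out : ↥Q) : G) ∈ Zs} :=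
    { toFun := fun x => by
        refine ⟨(x : ↥Q), ⟨⟨((x : ↥Q) : G) * ((((x : ↥Q) : ↥Q ⧸ R').out : ↥Q) : G)⁻¹, ?_⟩, ?_⟩⟩
        · have h := QuotientGroup.eq.1 (((x : ↥Q) : ↥Q ⧸ R').out_eq')
          have h' := hnorm (hout ((x : ↥Q) : ↥Q ⧸ R')) (mem_subgroupOf.1 h)
          simpa [mul_assoc] using h'
        · show ((x : ↥Q) : G) * _ * _ ∈ Zs
          rw [inv_mul_cancel_right]; exact x.2
      invFun := fun p => ⟨⟨(p.2 : ↥R) * ((p.1.out : ↥Q) : G), mul_mem (p.2 : ↥R).2.2 (hout p.1)⟩, p.2.2⟩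
      left_inv := fun x => Subtype.ext (Subtype.ext (inv_mul_cancel_right _ _))
      right_inv := fun ⟨c, r, hr⟩ => by
        have hc : (((⟨(r : G) * ((c.out : ↥Q) : G), mul_mem r.2.2 (hout c)⟩ : ↥Q)) : ↥Q ⧸ R') = c := by
          conv_rhs => rw [← c.out_eq']
          refine QuotientGroup.eq.2 (mem_subgroupOf.2 ?_)
          show ((r : G) * ((c.out : ↥Q) : G))⁻¹ * ((c.out : ↥Q) : G) ∈ R
          have h := hnorm (inv_mem (hout c)) (inv_mem r.2)
          simpa [mul_assoc] using h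
        refine Sigma.subtype_ext hc (Subtype.ext ?_)
        show (r : G) * ((c.out : ↥Q) : G) * _⁻¹ = r
        rw [hc, mul_inv_cancel_right] }
  have hcount : Nat.card {x : ↥Q // (x : G) ∈ Zs} = 99 := by
    rw [Nat.card_congr hequiv, Nat.card_sigma, Finset.sum_congr rfl fun c _ => hfib _ (hout c), Finset.sum_ite]
    have h1 : (Finset.univ.filter fun c : ↥Q ⧸ R' => ((c.out : ↥Q) : G) ∈ R) = {((1 : ↥Q) : ↥Q ⧸ R')} := by
      ext c
      rw [Finset.mem_filter, Finset.mem_singleton]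
      constructor
      · rintro ⟨-, hc⟩
        rw [← c.out_eq']
        refine QuotientGroup.eq.2 (mem_subgroupOf.2 ?_)
        simpa using inv_mem hc
      · rintro rfl
        refine ⟨Finset.mem_univ _, ?_⟩
        have h := QuotientGroup.eq.1 (((1 : ↥Q) : ↥Q ⧸ R').out_eq')
        simpa [mem_subgroupOf] using inv_mem (mem_subgroupOf.1 h)
    rw [Finset.filter_not, h1]
    simp [Finset.card_univ_sdiff, hidx]
  -- the element of order five preserves the zero set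
  have hF : IsPGroup 5 ↥(zpowers f) := IsPGroup.of_card (n := 1) (by rw [Nat.card_zpowers, F.f_five, pow_one])
  have hfZ : ∀ a ∈ zpowers f, ∀ x ∈ Zs, a * x * a⁻¹ ∈ Zs := by
    intro a ha x hx
    have haC := H.L_le_cent (zpowers_le.2 F.f_mem ha)
    have hxQ := hZsQ hx
    refine ⟨H.conj_Q haC hxQ, ?_⟩
    have hq : g * a * g⁻¹ * a⁻¹ ∈ Q := hgL a (zpowers_le.2 F.f_mem ha)
    set q := g * a * g⁻¹ * a⁻¹
    set w := a * (g * x * g⁻¹) * a⁻¹
    have hw : w ∈ Q := H.conj_Q haC (H.conj_Q hg hxQ)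
    have hax := H.conj_Q haC hxQ
    have he : g * (a * x * a⁻¹) * g⁻¹ = (q * w * q⁻¹ * w⁻¹) * w := by simp only [q, w]; group
    show B (g * (a * x * a⁻¹) * g⁻¹) (a * x * a⁻¹) = 1
    rw [he]
    have h1 := hZcomm (z := q * w * q⁻¹ * w⁻¹) (z' := 1) hw hax (H.comm_Q hq hw) (one_mem _)
    simp only [one_mul] at h1
    show q * w * q⁻¹ * w⁻¹ * w * (a * x * a⁻¹) * (q * w * q⁻¹ * w⁻¹ * w)⁻¹ * (a * x * a⁻¹)⁻¹ = 1
    rw [h1, show w * (a * x * a⁻¹) * w⁻¹ * (a * x * a⁻¹)⁻¹ =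
      a * (g * x * g⁻¹ * x * (g * x * g⁻¹)⁻¹ * x⁻¹) * a⁻¹ by simp only [w]; group, hx.2, mul_one, mul_inv_cancel]
  letI : MulAction ↥(zpowers f) {x : ↥Q // (x : G) ∈ Zs} :=
    { smul := fun a x => ⟨⟨(a : G) * ((x : ↥Q) : G) * (a : G)⁻¹,
        H.conj_Q (H.L_le_cent (zpowers_le.2 F.f_mem a.2)) (x : ↥Q).2⟩, hfZ a a.2 _ x.2⟩
      one_smul := fun q => Subtype.ext (Subtype.ext
        (show (1 : G) * ((q : ↥Q) : G) * (1 : G)⁻¹ = ((q : ↥Q) : G) by group))
      mul_smul := fun a b q => Subtype.ext (Subtype.ext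
        (show (a : G) * b * ((q : ↥Q) : G) * ((a : G) * b)⁻¹ =
        (a : G) * ((b : G) * ((q : ↥Q) : G) * (b : G)⁻¹) * (a : G)⁻¹ by group)) }
  have hfix : Nat.card ↥(MulAction.fixedPoints ↥(zpowers f) {x : ↥Q // (x : G) ∈ Zs}) = 3 := by
    rw [← H.card_Z]
    refine Nat.card_congr
      { toFun := fun q => ⟨(((q : {x : ↥Q // (x : G) ∈ Zs}) : ↥Q) : G),
          H.eq_Z_of_five F.f_mem F.f_five (W := Q ⊓ centralizer ({f} : Set G))
          inf_le_left (fun y hy => (mem_centralizer_singleton_iff.1 hy.2).symm)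
          ⟨((q : {x : ↥Q // (x : G) ∈ Zs}) : ↥Q).2, mem_centralizer_singleton_iff.2 (mul_inv_eq_iff_eq_mul.1
            (congrArg (fun y : {x : ↥Q // (x : G) ∈ Zs} => ((y : ↥Q) : G)) (q.2 ⟨f, mem_zpowers f⟩))).symm⟩⟩
        invFun := fun z => ⟨⟨⟨z, H.Z_le_Q z.2⟩, H.Z_le_Q z.2, ?_⟩, fun a => Subtype.ext (Subtype.ext ?_)⟩
        left_inv := fun q => rfl
        right_inv := fun z => rfl }
    · rw [H.conj_Z hg z.2, mul_inv_cancel_right, mul_inv_cancel]
    · show (a : G) * (z : G) * (a : G)⁻¹ = z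
      exact H.conj_Z (H.L_le_cent (zpowers_le.2 F.f_mem a.2)) z.2
  have hmod := hF.card_modEq_card_fixedPoints {x : ↥Q // (x : G) ∈ Zs}
  rw [hfix, hcount] at hmod
  exact absurd hmod (by decide)

/-- An element of `C(Z) ∩ C(t)` centralising `L₀` modulo `Q` lies in `Z⟨t⟩`. -/
theorem Hyp.kernel_eq {g : G} (hg : g ∈ centralizer (Z : Set G)) (hgt : Commute g t)
    (hgL : ∀ c ∈ L₀, g * c * g⁻¹ * c⁻¹ ∈ Q) : g ∈ Z ∨ g * t ∈ Z := by
  classical
  have hpowL : ∀ (n : ℕ) (h : G), h ∈ centralizer (Z : Set G) → (∀ c ∈ L₀, h * c * h⁻¹ * c⁻¹ ∈ Q) →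
      ∀ c ∈ L₀, h ^ n * c * (h ^ n)⁻¹ * c⁻¹ ∈ Q := by
    intro n h hh hhL
    induction n with
    | zero => intro c _; simp
    | succ n ih =>
      intro c hc
      rw [pow_succ', show h * h ^ n * c * (h * h ^ n)⁻¹ * c⁻¹ =
        h * (h ^ n * c * (h ^ n)⁻¹ * c⁻¹) * h⁻¹ * (h * c * h⁻¹ * c⁻¹) by group]
      exact mul_mem (H.conj_Q hh (ih c hc)) (hhL c hc)
  -- no element has odd prime order modulo `Z`
  obtain ⟨a, haJ, haQ⟩ := SetLike.not_le_iff_exists.1 (H.abelian_facts F H.J_le H.J_comm H.J_card).1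
  set R := J ⊓ Q
  have hodd : ∀ (p : ℕ), p.Prime → p ≠ 2 → ∀ h : G, h ∈ centralizer (Z : Set G) → Commute h t →
      (∀ c ∈ L₀, h * c * h⁻¹ * c⁻¹ ∈ Q) → h ^ p ∈ Z → h ∈ Z := by
    intro p hp hp2 h hh hht hhL hhp
    by_contra hhZ
    haveI := Fact.mk hp
    have hRn : ∀ r ∈ R, h * r * h⁻¹ ∈ R := by
      intro r hr
      have hrq : r ∈ H.fix (H.S_le_L (H.J_le haJ)) := by rw [H.fix_eq F (H.J_le haJ) haQ]; exact hr
      show h * r * h⁻¹ ∈ J ⊓ Q
      rw [← H.fix_eq F (H.J_le haJ) haQ]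
      refine ⟨H.conj_Q hh hrq.1, ?_⟩
      have hq : h * a * h⁻¹ * a⁻¹ ∈ Q := hhL a (H.S_le_L (H.J_le haJ))
      set q := h * a * h⁻¹ * a⁻¹
      have hgz : h * (a * r * a⁻¹ * r⁻¹) * h⁻¹ ∈ Z := by rw [H.conj_Z hh hrq.2]; exact hrq.2
      rw [show a * (h * r * h⁻¹) * a⁻¹ * (h * r * h⁻¹)⁻¹ =
        (q⁻¹ * (h * (a * r * a⁻¹ * r⁻¹) * h⁻¹) * q) * (q⁻¹ * (h * r * h⁻¹) * q * (h * r * h⁻¹)⁻¹) by
          simp only [q]; group]
      refine mul_mem ?_ ?_
      · rw [(H.Z_central (inv_mem hq) hgz).eq, inv_mul_cancel_right]; exact hgz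
      · simpa using H.comm_Q (inv_mem hq) (H.conj_Q hh hrq.1)
    have hRn' : h ∈ normalizer (R : Set G) := Subgroup.mem_normalizer_fintype hRn
    set Zr := Z.subgroupOf R
    haveI : Zr.Normal := ⟨fun z hz r => by
      refine mem_subgroupOf.2 ?_
      show (r : G) * z * (r : G)⁻¹ ∈ Z
      rw [(H.Z_central r.2.2 (mem_subgroupOf.1 hz)).eq, mul_inv_cancel_right]
      exact mem_subgroupOf.1 hz⟩
    have hq9 : Nat.card (↥R ⧸ Zr) = 9 := by
      have h := Zr.card_eq_card_quotient_mul_card_subgroup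
      rw [H.card_J_inf_Q F, Nat.card_congr (subgroupOfEquivOfLe (le_inf (H.Z_le_J F) H.Z_le_Q)).toEquiv, H.card_Z] at h
      omega
    let φ : ↥R →* ↥R :=
      { toFun := fun r => ⟨h * r * h⁻¹, hRn r r.2⟩
        map_one' := Subtype.ext (by simp)
        map_mul' := fun r r' => Subtype.ext (by
          show h * ((r : G) * r') * h⁻¹ = h * r * h⁻¹ * (h * r' * h⁻¹)
          group) }
    let ψ : ↥R ⧸ Zr →* ↥R ⧸ Zr := QuotientGroup.map Zr Zr φ fun z hz => mem_subgroupOf.2 (by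
      show h * z * h⁻¹ ∈ Z
      rw [H.conj_Z hh (mem_subgroupOf.1 hz)]
      exact mem_subgroupOf.1 hz)
    have hψ : ∀ r : ↥R, ψ (QuotientGroup.mk' Zr r) = QuotientGroup.mk' Zr (φ r) := fun r => rfl
    have hψp : ∀ q, ψ^[p] q = q := by
      intro q
      obtain ⟨r, rfl⟩ := QuotientGroup.mk'_surjective Zr q
      have hi : ∀ i : ℕ, ∃ r' : ↥R, ψ^[i] (QuotientGroup.mk' Zr r) = QuotientGroup.mk' Zr r' ∧
          (r' : G) = h ^ i * r * (h ^ i)⁻¹ := by
        intro i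
        induction i with
        | zero => exact ⟨r, rfl, by simp⟩
        | succ i ih =>
          obtain ⟨r', hr', hr'e⟩ := ih
          refine ⟨φ r', by rw [Function.iterate_succ_apply', hr', hψ], ?_⟩
          show h * (r' : G) * h⁻¹ = _
          rw [hr'e, pow_succ']; group
      obtain ⟨r', hr', hr'e⟩ := hi p
      rw [hr']
      congr 1
      refine Subtype.ext ?_
      rw [hr'e, ← (H.Z_central r.2.2 hhp).eq, mul_inv_cancel_right]
    -- the permutation of the nine points has a single fixed point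
    have hbij : Function.Bijective ψ := by
      refine ⟨Function.LeftInverse.injective (g := ψ^[p - 1]) fun q => ?_,
        fun q => ⟨ψ^[p - 1] q, ?_⟩⟩
      · show ψ^[p - 1] (ψ q) = q
        rw [← Function.iterate_succ_apply, show Nat.succ (p - 1) = p by have := hp.pos; omega, hψp]
      · show ψ (ψ^[p - 1] q) = q
        rw [← Function.iterate_succ_apply' ψ (p - 1) q, show Nat.succ (p - 1) = p by have := hp.pos; omega, hψp]
    letI : Fintype (↥R ⧸ Zr) := Fintype.ofFinite _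
    set e : Equiv.Perm (↥R ⧸ Zr) := Equiv.ofBijective ψ hbij
    have hep : e ^ p = 1 := Equiv.ext fun q => by
      rw [Equiv.Perm.coe_pow, Equiv.Perm.one_apply]; exact hψp q
    have hfix : ∀ q, e q = q → q = 1 := by
      intro q hq
      obtain ⟨r, rfl⟩ := QuotientGroup.mk'_surjective Zr q
      have h1 : QuotientGroup.mk' Zr (φ r) = QuotientGroup.mk' Zr r := hq
      have h2 := mem_subgroupOf.1 (QuotientGroup.eq.1 h1.symm)
      have h3 : r.1 ∈ H.fixC hh := by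
        refine ⟨r.2.2, ?_⟩
        have h4 : (r : G)⁻¹ * (h * r * h⁻¹) ∈ Z := h2
        rw [show h * (r : G) * h⁻¹ * (r : G)⁻¹ = (r : G) * ((r : G)⁻¹ * (h * r * h⁻¹)) * (r : G)⁻¹ by group,
          (H.Z_central r.2.2 h4).eq, mul_inv_cancel_right]
        exact h4
      exact (QuotientGroup.eq_one_iff r).2 (mem_subgroupOf.2 (H.free F hh hht hhL hhZ h3))
    have hsupp : e.support.card = 8 := by
      have : e.support = Finset.univ.erase 1 := by
        ext q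
        rw [Equiv.Perm.mem_support, Finset.mem_erase]
        exact ⟨fun h1 => ⟨fun hq => h1 (by rw [hq]; exact map_one ψ), Finset.mem_univ _⟩,
          fun h1 h2 => h1.1 (hfix q h2)⟩
      rw [this, Finset.card_erase_of_mem (Finset.mem_univ _), Finset.card_univ, ← Nat.card_eq_fintype_card, hq9]
    have hne : e ≠ 1 := fun he => by rw [he, Equiv.Perm.support_one, Finset.card_empty] at hsupp; omega
    have hpz : p ∣ e.support.card := by
      have hord : orderOf e = p := orderOf_eq_prime hep hne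
      have hmem : ∀ n ∈ e.cycleType, n = p := fun n hn => by
        rcases (Nat.dvd_prime hp).1 (hord ▸ Equiv.Perm.dvd_of_mem_cycleType hn) with h | h
        · exact absurd h (Nat.ne_of_gt (Equiv.Perm.one_lt_of_mem_cycleType hn))
        · exact h
      rw [← Equiv.Perm.sum_cycleType, Multiset.eq_replicate_of_mem hmem, Multiset.sum_replicate, smul_eq_mul]
      exact dvd_mul_left p _
    rw [hsupp, show (8 : ℕ) = 2 ^ 3 by norm_num] at hpz
    exact hp2 ((Nat.prime_dvd_prime_iff_eq hp Nat.prime_two).1 (hp.dvd_of_dvd_pow hpz))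
  -- induction on the order modulo `Z`
  set n := orderOf g with hn
  have hgn : g ^ n ∈ Z := by rw [hn, pow_orderOf_eq_one]; exact one_mem _
  have hn0 : n ≠ 0 := (orderOf_pos g).ne'
  suffices hall : ∀ m : ℕ, m ≠ 0 → ∀ h : G, h ∈ centralizer (Z : Set G) → Commute h t →
      (∀ c ∈ L₀, h * c * h⁻¹ * c⁻¹ ∈ Q) → h ^ m ∈ Z → h ∈ Z ∨ h * t ∈ Z from hall n hn0 g hg hgt hgL hgn
  intro m
  induction m using Nat.strong_induction_on with
  | _ m ih =>
    intro hm0 h hh hht hhL hhm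
    by_cases hm1 : m = 1
    · rw [hm1, pow_one] at hhm
      exact Or.inl hhm
    obtain ⟨p, hp, k, hk⟩ := Nat.exists_prime_and_dvd hm1
    have hk0 : k ≠ 0 := fun e => hm0 (by rw [hk, e, mul_zero])
    have hkm : k < m := by
      rw [hk]
      exact lt_mul_left (Nat.pos_of_ne_zero hk0) hp.one_lt
    rw [hk, pow_mul] at hhm
    rcases ih k hkm hk0 (h ^ p) (pow_mem hh p) (hht.pow_left p) (hpowL p h hh hhL) hhm with h1 | h1
    · by_cases hp2 : p = 2
      · rw [hp2, pow_two] at h1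
        exact H.invol_kernel F hh hht hhL h1
      · exact Or.inl (hodd p hp hp2 h hh hht hhL h1)
    · have htt : t⁻¹ = t := inv_eq_of_mul_eq_one_right (by rw [← pow_two, ← F.t_two, pow_orderOf_eq_one])
      by_cases hp2 : p = 2
      · rw [hp2, pow_two] at h1
        exact (H.false_of_sq F hh hht hhL (by rwa [htt])).elim
      · -- `(h t) ^ p` lies in `Z`
        obtain ⟨j, hj⟩ := hp.odd_of_ne_two hp2
        have htp : t ^ p = t := by
          rw [hj, pow_succ, pow_mul, ← F.t_two, pow_orderOf_eq_one, one_pow, one_mul]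
        have hhtL : ∀ c ∈ L₀, h * t * c * (h * t)⁻¹ * c⁻¹ ∈ Q := by
          intro c hc
          have htc : t * c * t⁻¹ * c⁻¹ ∈ Q := by
            have hm : t * c * t⁻¹ * c⁻¹ = ((⟨t, F.t_mem⟩ * ⟨c, hc⟩ * ⟨t, F.t_mem⟩⁻¹ * ⟨c, hc⟩⁻¹ : ↥L₀) : G) := rfl
            rw [hm, ← F.ker, map_mul, map_mul, map_mul, map_inv, map_inv, F.t_val, ← neg5_facts.2.2.1,
              mul_inv_cancel_right, mul_inv_cancel]
          rw [show h * t * c * (h * t)⁻¹ * c⁻¹ = h * (t * c * t⁻¹ * c⁻¹) * h⁻¹ * (h * c * h⁻¹ * c⁻¹) by group]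
          exact mul_mem (H.conj_Q hh htc) (hhL c hc)
        exact Or.inr (hodd p hp hp2 (h * t) (mul_mem hh (H.L_le_cent F.t_mem))
          (hht.mul_left (Commute.refl t)) hhtL (by rw [hht.mul_pow, htp]; exact h1))

end Cfsg.Agent.McLThree
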