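import Cfsg.Agent.Lib.McLThree.BarIso
import Cfsg.Agent.Lib.McLThree.Fusion

/-!
# Elements of `E` conjugate to `z` or to `z z'`
-/

set_option autoImplicit false
set_option linter.unusedSectionVars false
set_option linter.style.haveILetI false

namespace Cfsg.Agent.McLThree

open Subgroup
open scoped Pointwise

universe u

variable {G : Type u} [Group G] [Finite G] {S : Sylow 3 G} {Z J M₀ L₀ Q : Subgroup G}
  (H : Hyp S Z J M₀ L₀ Q) {π : ↥L₀ →* SL5} {t f : G} (F : Frame Q L₀ π t f)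
  {s z z' : G} (K : JSide Z J L₀ t s z z')
include H F K

/-- A conjugate of `z` in `J` has centralizer outside `N(J)`. -/
theorem Hyp.cent_conj_z {g x : G} (hx : x ∈ J) (h : g * z * g⁻¹ = x ∨ g * z * g⁻¹ = x⁻¹) :
    ¬ centralizer ({x} : Set G) ≤ normalizer (J : Set G) := by
  intro hle
  have hzJ := H.Z_le_J F K.z_mem
  have hgJ : g * z * g⁻¹ ∈ J := by rcases h with e | e <;> rw [e]; exacts [hx, inv_mem hx]
  obtain ⟨n, hn, hne⟩ := H.fusion_J F hzJ hgJ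
  refine H.cent_not_le F fun c hc => ?_
  have hcz : c * z = z * c := (mem_centralizer_iff.1 hc z K.z_mem).symm
  have hm : n * c * n⁻¹ ∈ normalizer (J : Set G) := by
    refine hle (mem_centralizer_singleton_iff.2 ?_)
    have hcomm : n * c * n⁻¹ * (n * z * n⁻¹) = n * z * n⁻¹ * (n * c * n⁻¹) := by
      calc n * c * n⁻¹ * (n * z * n⁻¹) = n * (c * z) * n⁻¹ := by group
        _ = n * (z * c) * n⁻¹ := by rw [hcz]
        _ = _ := by group
    rw [hne] at hcomm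
    rcases h with e | e <;> rw [e] at hcomm
    · exact hcomm
    · exact (by simpa using (Commute.inv_right (show Commute (n * c * n⁻¹) x⁻¹ from hcomm)).eq)
  have := mul_mem (mul_mem (inv_mem hn) hm) hn
  rwa [show n⁻¹ * (n * c * n⁻¹) * n = c by group] at this

/-- An element of order three of `C(t)` is conjugate into `E` in `C(t)`. -/
theorem Hyp.conj_into_Ej {x : G} (hxt : Commute x t) (hx3 : x ^ 3 = 1) :
    ∃ c : G, Commute c t ∧ c * x * c⁻¹ ∈ Ej J t := by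
  haveI : Fact (Nat.Prime 3) := ⟨Nat.prime_three⟩
  obtain ⟨P, hP⟩ := H.barE_sylow F K
  set xC : ↥(centralizer ({t} : Set G)) := ⟨x, mem_centralizer_singleton_iff.2 hxt.eq⟩
  have hp : IsPGroup 3 ↥(zpowers (barMap t xC)) := by
    obtain ⟨i, -, hi⟩ := (Nat.dvd_prime_pow Nat.prime_three).1 (show orderOf (barMap t xC) ∣ 3 ^ 1 from
      orderOf_dvd_of_pow_eq_one (by rw [pow_one, ← map_pow, show xC ^ 3 = 1 from Subtype.ext hx3, map_one]))
    exact IsPGroup.of_card (n := i) (by rw [Nat.card_zpowers, hi])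
  obtain ⟨T, hT⟩ := hp.exists_le_sylow
  obtain ⟨g, hg⟩ := MulAction.exists_smul_eq (Bar t) T P
  obtain ⟨c, rfl⟩ := QuotientGroup.mk'_surjective (tSub t) g
  have hm : barMap t (c * xC * c⁻¹) ∈ bar t (Ej J t) := by
    rw [← hP, ← hg, map_mul, map_mul, map_inv]
    exact Subgroup.mem_map_of_mem (MulAut.conj (barMap t c)).toMonoidHom (hT (mem_zpowers _))
  obtain ⟨e, he, hee⟩ := mem_bar.1 hm
  refine ⟨c, mem_centralizer_singleton_iff.1 c.2, ?_⟩
  have h := eq_of_three F.t_two (H.Ej_exp F K _ he) (y := (c : G) * x * (c : G)⁻¹)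
    (by rw [conj_pow, hx3, mul_one, mul_inv_cancel]) (mem_centralizer_singleton_iff.1 e.2)
    ((barMap_eq_iff (H.tt F K) e _).1 hee)
  rw [h]; exact he

theorem Hyp.inverts_both : ∃ a : G, a ∈ NE J t ∧ a * z * a⁻¹ = z⁻¹ ∧ a * z' * a⁻¹ = z'⁻¹ := by
  obtain ⟨c, -, -, -, hcN, hcz, hcz'⟩ := H.exists_c F K
  obtain ⟨b, -, -, -, hbN, hbz, hbz'⟩ := H.exists_b F K
  refine ⟨b * c, mul_mem hbN hcN, ?_, ?_⟩
  · rw [show b * c * z * (b * c)⁻¹ = b * (c * z * c⁻¹) * b⁻¹ by group, hcz, hbz]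
  · rw [show b * c * z' * (b * c)⁻¹ = b * (c * z' * c⁻¹) * b⁻¹ by group, hcz', ← conj_inv, hbz']

/-- A conjugate of `t` commuting with `z z'` is conjugate to `t` by an element of `N(J)`. -/
theorem Hyp.conj_in_NJ {i g : G} (hi : g * t * g⁻¹ = i) (hiy : Commute i (z * z')) :
    ∃ n ∈ normalizer (J : Set G), n * t * n⁻¹ = i := by
  set y := z * z' with hy
  have hyE : y ∈ Ej J t := mul_mem (H.Z_le_Ej F K.z_mem) K.z'_mem
  have hxt : Commute (g⁻¹ * y * g) t := by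
    show g⁻¹ * y * g * t = t * (g⁻¹ * y * g)
    calc g⁻¹ * y * g * t = g⁻¹ * (y * (g * t * g⁻¹)) * g := by group
      _ = g⁻¹ * ((g * t * g⁻¹) * y) * g := by rw [hi, hiy.eq]
      _ = _ := by group
  obtain ⟨c, hct, hcE⟩ := H.conj_into_Ej F K hxt (by
    rw [show g⁻¹ * y * g = g⁻¹ * y * g⁻¹⁻¹ by rw [inv_inv], conj_pow, H.J_exp y hyE.1, mul_one, mul_inv_cancel])
  set e := c * (g⁻¹ * y * g) * c⁻¹ with he
  set g' := g * c⁻¹
  have hg't : g' * t * g'⁻¹ = i := by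
    rw [← hi, show g * c⁻¹ * t * (g * c⁻¹)⁻¹ = g * (c⁻¹ * t * c) * g⁻¹ by group, mul_assoc c⁻¹,
      ← hct.eq, inv_mul_cancel_left]
  have hg'e : g' * e * g'⁻¹ = y := by simp only [g', e]; group
  -- `e` is not a point
  have hnot : ∀ k : G, Commute k t → (k * z * k⁻¹ = e ∨ k * z * k⁻¹ = e⁻¹) → False := fun k _ hk => by
    refine H.cent_conj_z F K (g := g' * k) hyE.1 ?_ (K.cent_y y (Or.inl rfl))
    rcases hk with h | h
    · left; rw [show g' * k * z * (g' * k)⁻¹ = g' * (k * z * k⁻¹) * g'⁻¹ by group, h, hg'e]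
    · right; rw [show g' * k * z * (g' * k)⁻¹ = g' * (k * z * k⁻¹) * g'⁻¹ by group, h, ← conj_inv, hg'e]
  have hy1 : e ≠ 1 := fun h => by
    rw [h, mul_one, mul_inv_cancel] at hg'e
    refine K.z'_not ?_
    rw [show z' = z⁻¹ from eq_inv_of_mul_eq_one_right hg'e.symm]
    exact inv_mem K.z_mem
  obtain ⟨a, haN, haz, haz'⟩ := H.inverts_both F K
  obtain ⟨c₁, -, hc₁t, -, hc₁N, hc₁z, hc₁z'⟩ := H.exists_c F K
  have hat : Commute a t := mem_centralizer_singleton_iff.1 haN.2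
  have hc : Commute z z' := H.J_comm z (H.Z_le_J F K.z_mem) z' K.z'_mem.1
  have hay : a * y * a⁻¹ = y⁻¹ := by
    rw [hy, show a * (z * z') * a⁻¹ = a * z * a⁻¹ * (a * z' * a⁻¹) by group, haz, haz', hc.eq, mul_inv_rev]
  have hy' : c₁ * (z * z'⁻¹) * c₁⁻¹ = y := by
    rw [show c₁ * (z * z'⁻¹) * c₁⁻¹ = c₁ * z * c₁⁻¹ * (c₁ * z' * c₁⁻¹)⁻¹ by group, hc₁z, hc₁z', inv_inv]
  obtain ⟨k, hkt, hky⟩ : ∃ k : G, Commute k t ∧ k * y * k⁻¹ = e := by
    rcases H.Ej_cases F K hcE with h | h | h | h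
    · exfalso
      rw [← H.Z_eq_zpowers F K] at h
      obtain ⟨m, hm⟩ := mem_zpowers_iff.1 h
      rcases order_three (H.z_cube F K) m with e' | e' | e' <;> rw [e'] at hm
      · exact hy1 hm.symm
      · exact hnot 1 (Commute.one_left t) (Or.inl (by simpa using hm))
      · exact hnot 1 (Commute.one_left t) (Or.inr (by rw [← inv_inj, inv_inv]; simpa using hm))
    · exfalso
      obtain ⟨m, hm⟩ := mem_zpowers_iff.1 h
      rcases order_three (H.z'_cube F K) m with e' | e' | e' <;> rw [e'] at hm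
      · exact hy1 hm.symm
      · exact hnot s K.s_t (Or.inl (K.s_z.trans hm))
      · exact hnot s K.s_t (Or.inr (by rw [K.s_z, ← inv_inv z', hm]))
    · rcases h with h | h
      · exact ⟨1, Commute.one_left t, by rw [one_mul, inv_one, mul_one]; exact h.symm⟩
      · refine ⟨c₁⁻¹, hc₁t.inv_left, ?_⟩
        rw [← hy', show c₁⁻¹ * (c₁ * (z * z'⁻¹) * c₁⁻¹) * c₁⁻¹⁻¹ = z * z'⁻¹ by group]
        exact h.symm
    · rcases h with h | h
      · exact ⟨a, hat, by rw [hay, show y = e⁻¹ from h.symm, inv_inv]⟩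
      · refine ⟨c₁⁻¹ * a, hc₁t.inv_left.mul_left hat, ?_⟩
        rw [show c₁⁻¹ * a * y * (c₁⁻¹ * a)⁻¹ = c₁⁻¹ * (a * y * a⁻¹) * c₁ by group, hay, ← hy',
          show c₁⁻¹ * (c₁ * (z * z'⁻¹) * c₁⁻¹)⁻¹ * c₁ = (z * z'⁻¹)⁻¹ by group, ← h, inv_inv]
  refine ⟨g' * k, K.cent_y y (Or.inl rfl) (mem_centralizer_singleton_iff.2 ?_), ?_⟩
  · refine mul_inv_eq_iff_eq_mul.1 ?_
    rw [show g' * k * y * (g' * k)⁻¹ = g' * (k * y * k⁻¹) * g'⁻¹ by group, hky, hg'e]
  · rw [show g' * k * t * (g' * k)⁻¹ = g' * (k * t * k⁻¹) * g'⁻¹ by group, hkt.eq, mul_inv_cancel_right, hg't]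

/-- An element of `C(t) ∩ C(z)` conjugate to `t` is `t`. -/
theorem Hyp.eq_t_of_conj {d g : G} (hd : g * t * g⁻¹ = d) (hdt : Commute d t)
    (hdz : Commute d z) : d = t := by
  have hxt : Commute (g⁻¹ * z * g) t := by
    show g⁻¹ * z * g * t = t * (g⁻¹ * z * g)
    calc g⁻¹ * z * g * t = g⁻¹ * (z * (g * t * g⁻¹)) * g := by group
      _ = g⁻¹ * ((g * t * g⁻¹) * z) * g := by rw [hd, hdz.eq]
      _ = _ := by group
  obtain ⟨c, hct, hcE⟩ := H.conj_into_Ej F K hxt (by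
    rw [show g⁻¹ * z * g = g⁻¹ * z * g⁻¹⁻¹ by rw [inv_inv], conj_pow, H.z_cube F K, mul_one, mul_inv_cancel])
  set e := c * (g⁻¹ * z * g) * c⁻¹ with he
  set g' := g * c⁻¹
  have hg't : g' * t * g'⁻¹ = d := by
    rw [← hd, show g * c⁻¹ * t * (g * c⁻¹)⁻¹ = g * (c⁻¹ * t * c) * g⁻¹ by group, mul_assoc c⁻¹,
      ← hct.eq, inv_mul_cancel_left]
  have hg'e : g'⁻¹ * z * g'⁻¹⁻¹ = e := by simp only [g', e]; group
  -- move `e` to `Z`
  obtain ⟨k, hkt, hkz⟩ : ∃ k : G, Commute k t ∧ k⁻¹ * e * k ∈ Z := by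
    rcases H.Ej_cases F K hcE with h | h | h | h
    · exact ⟨1, Commute.one_left t, by simpa using h⟩
    · obtain ⟨m, hm⟩ := mem_zpowers_iff.1 h
      refine ⟨s, K.s_t, ?_⟩
      rw [← hm, ← K.s_z, conj_zpow, show s⁻¹ * (s * z ^ m * s⁻¹) * s = z ^ m by group]
      exact zpow_mem K.z_mem m
    · exact absurd (K.cent_y e h) (H.cent_conj_z F K hcE.1 (Or.inl hg'e))
    · have h1 : centralizer ({e} : Set G) ≤ normalizer (J : Set G) := fun w hw =>
        K.cent_y e⁻¹ h (mem_centralizer_singleton_iff.2 (Commute.inv_right (mem_centralizer_singleton_iff.1 hw)).eq)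
      exact absurd h1 (H.cent_conj_z F K hcE.1 (Or.inl hg'e))
  set n := g' * k
  have hnt : n * t * n⁻¹ = d := by
    rw [show n * t * n⁻¹ = g' * (k * t * k⁻¹) * g'⁻¹ by simp only [n]; group, hkt.eq, mul_inv_cancel_right, hg't]
  have hnz : n⁻¹ * z * n ∈ Z := by
    rw [show n⁻¹ * z * n = k⁻¹ * (g'⁻¹ * z * g'⁻¹⁻¹) * k by simp only [n]; group, hg'e]; exact hkz
  have hnN : n ∈ normalizer (Z : Set G) := by
    refine inv_mem_iff.1 (Subgroup.mem_normalizer_fintype fun w hw => ?_)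
    rw [SetLike.mem_coe, ← H.Z_eq_zpowers F K] at hw ⊢
    obtain ⟨m, rfl⟩ := mem_zpowers_iff.1 hw
    rw [← conj_zpow]
    refine zpow_mem ?_ m
    rw [inv_inv, H.Z_eq_zpowers F K]; exact hnz
  obtain ⟨q, hq, c', -, hc't, hqc⟩ := H.exists_commute F hnN
  have hdQ : d * t ∈ Q := by
    rw [← hnt, hqc, show q * c' * t * (q * c')⁻¹ * t = q * (c' * t * c'⁻¹ * q⁻¹ * t) by group, hc't.eq,
      mul_inv_cancel_right]
    refine mul_mem hq ?_
    have := H.conj_Q (H.L_le_cent F.t_mem) (inv_mem hq)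
    rwa [show t⁻¹ = t from inv_eq_of_mul_eq_one_right (H.tt F K)] at this
  have hdZ : d * t ∈ Z := H.eq_Z_of_t F hdQ ((hdt.mul_left (Commute.refl t))).symm
  have hd2 : d * d = 1 := by rw [← hd, show g * t * g⁻¹ * (g * t * g⁻¹) = g * (t * t) * g⁻¹ by group, H.tt F K]; group
  have h2 : (d * t) ^ 2 = 1 := by rw [hdt.mul_pow, pow_two, pow_two, hd2, H.tt F K, one_mul]
  have h3 := H.Q_exp _ hdQ
  have h1 : d * t = 1 := by rwa [pow_succ, h2, one_mul] at h3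
  rw [eq_inv_of_mul_eq_one_left h1, inv_eq_of_mul_eq_one_right (H.tt F K)]

end Cfsg.Agent.McLThree
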