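import Cfsg.Agent.Lib.McLThree.PermEight

/-!
# Double covers of `Sym 8` in which the lifts of double transpositions have order four

The lifts of disjoint transpositions anticommute; hence the square of a lift, and what a lift of a
transposition does to the lifts of the other involutions.
-/

set_option autoImplicit false
set_option linter.unusedSectionVars false

namespace Cfsg.Agent.McLThree

open Equiv Equiv.Perm

universe u

/-- A double cover of `Sym 8` with a lift of a double transposition of order four. -/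
structure Spin {C : Type u} [Group C] (τ : C) (ξ : C →* P8) : Prop where
  two : τ * τ = 1
  ne : τ ≠ 1
  central : ∀ x : C, Commute x τ
  surj : Function.Surjective ξ
  ker : ∀ x : C, ξ x = 1 ↔ x = 1 ∨ x = τ
  double : ∃ c : C, c * c = τ ∧ ξ c * ξ c = 1 ∧ (ξ c).support.card = 4

variable {C : Type u} [Group C] {τ : C} {ξ : C →* P8} (P : Spin τ ξ)
include P

theorem Spin.pow_eq (n : ℕ) : τ ^ n = if Even n then 1 else τ := by
  rcases Nat.even_or_odd n with ⟨k, rfl⟩ | ⟨k, rfl⟩
  · rw [if_pos ⟨k, rfl⟩, ← two_mul, pow_mul, pow_two, P.two, one_pow]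
  · rw [if_neg (Nat.not_even_iff_odd.2 ⟨k, rfl⟩), pow_succ, pow_mul, pow_two, P.two, one_pow, one_mul]

theorem Spin.fibre {x y : C} (h : ξ x = ξ y) : y = x ∨ y = x * τ := by
  rcases (P.ker (x⁻¹ * y)).1 (by rw [map_mul, map_inv, h, inv_mul_cancel]) with e | e
  · exact Or.inl (inv_mul_eq_one.1 e).symm
  · exact Or.inr (inv_mul_eq_iff_eq_mul.1 e)

theorem Spin.sq {x : C} (h : ξ x * ξ x = 1) : x * x = 1 ∨ x * x = τ :=
  (P.ker _).1 (by rw [map_mul, h])

theorem Spin.sq_conj {x y : C} (hx : ξ x * ξ x = 1) (σ : P8) (h : σ * ξ x * σ⁻¹ = ξ y) : y * y = x * x := by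
  obtain ⟨g, rfl⟩ := P.surj σ
  have hf := P.fibre (x := g * x * g⁻¹) (y := y) (by rw [map_mul, map_mul, map_inv, h])
  have hc : g * (x * x) * g⁻¹ = x * x := by
    rcases P.sq hx with e | e <;> rw [e]
    · group
    · rw [(P.central g).eq, mul_inv_cancel_right]
  rcases hf with rfl | rfl
  · rw [show g * x * g⁻¹ * (g * x * g⁻¹) = g * (x * x) * g⁻¹ by group, hc]
  · rw [show g * x * g⁻¹ * τ * (g * x * g⁻¹ * τ) = g * x * g⁻¹ * (τ * (g * x * g⁻¹)) * τ by group,
      ← (P.central (g * x * g⁻¹)).eq, show g * x * g⁻¹ * (g * x * g⁻¹ * τ) * τ = g * (x * x) * g⁻¹ * (τ * τ) by group,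
      P.two, mul_one, hc]

/-- Lifts of double transpositions square to the central involution. -/
theorem Spin.sq_four {x : C} (hx : ξ x * ξ x = 1) (h4 : (ξ x).support.card = 4) : x * x = τ := by
  obtain ⟨c, hc, hc2, hc4⟩ := P.double
  obtain ⟨k, hk, -, hkt, -⟩ := sign_invol hx
  obtain ⟨l, hl, -, hlt, -⟩ := sign_invol hc2
  obtain ⟨σ, hσ⟩ := isConj_iff.1 ((isConj_iff_cycleType_eq).2 (by rw [hlt, hkt, show k = l by omega]) :
    IsConj (ξ c) (ξ x))
  rw [P.sq_conj hc2 σ hσ, hc]

theorem Spin.swap_mul_self {A : C} (hA : (ξ A).IsSwap) : ξ A * ξ A = 1 := by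
  obtain ⟨a, b, -, h⟩ := hA
  rw [h, Equiv.swap_mul_self]

/-- All lifts of transpositions have the same square. -/
theorem Spin.sq_swap {A B : C} (hA : (ξ A).IsSwap) (hB : (ξ B).IsSwap) : B * B = A * A := by
  obtain ⟨σ, hσ⟩ := isConj_iff.1 ((isConj_iff_cycleType_eq).2 (by
    rw [hA.isCycle.cycleType, hB.isCycle.cycleType, card_support_eq_two.2 hA, card_support_eq_two.2 hB]) :
    IsConj (ξ A) (ξ B))
  exact P.sq_conj (P.swap_mul_self hA) σ hσ

/-- Lifts of disjoint transpositions anticommute. -/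
theorem Spin.anti {A B : C} (hA : (ξ A).IsSwap) (hB : (ξ B).IsSwap)
    (hd : _root_.Disjoint (ξ A).support (ξ B).support) : A * B = B * A * τ := by
  have hdis : Equiv.Perm.Disjoint (ξ A) (ξ B) := disjoint_iff_disjoint_support.2 hd
  have hcomm : ξ A * ξ B = ξ B * ξ A := hdis.commute.eq
  have hab : ξ (A * B) * ξ (A * B) = 1 := by
    rw [map_mul, show ξ A * ξ B * (ξ A * ξ B) = ξ A * (ξ B * ξ A) * ξ B by group, ← hcomm,
      show ξ A * (ξ A * ξ B) * ξ B = ξ A * ξ A * (ξ B * ξ B) by group, P.swap_mul_self hA, P.swap_mul_self hB,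
      one_mul]
  have h4 : (ξ (A * B)).support.card = 4 := by
    rw [map_mul, hdis.card_support_mul, card_support_eq_two.2 hA, card_support_eq_two.2 hB]
  have hsq := P.sq_four hab h4
  have hB2 : B * B = A * A := P.sq_swap hA hB
  rcases P.sq (P.swap_mul_self hA) with e | e
  · have eB : B * B = 1 := hB2.trans e
    calc A * B = A * B * (A * B) * (B⁻¹ * A⁻¹) := by group
      _ = τ * (B * A) := by rw [hsq, inv_eq_of_mul_eq_one_right eB, inv_eq_of_mul_eq_one_right e]
      _ = B * A * τ := (P.central (B * A)).symm.eq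
  · have eB : B * B = τ := hB2.trans e
    have hiA : A⁻¹ = A * τ := inv_eq_of_mul_eq_one_right (by rw [← mul_assoc, e, P.two])
    have hiB : B⁻¹ = B * τ := inv_eq_of_mul_eq_one_right (by rw [← mul_assoc, eB, P.two])
    calc A * B = A * B * (A * B) * (B⁻¹ * A⁻¹) := by group
      _ = τ * (B * τ * (A * τ)) := by rw [hsq, hiA, hiB]
      _ = τ * (B * (τ * A) * τ) := by group
      _ = τ * (B * A * (τ * τ)) := by rw [← (P.central A).eq]; group
      _ = B * A * τ := by rw [P.two, mul_one, (P.central (B * A)).eq]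

/-- Moving the lift of a transposition past the lift of a disjoint involution. -/
theorem Spin.comm_gen : ∀ (m : ℕ) {A X : C}, (ξ A).IsSwap → ξ X * ξ X = 1 → (ξ X).support.card = 2 * m →
    _root_.Disjoint (ξ A).support (ξ X).support → A * X = X * A * τ ^ m := by
  intro m
  induction m with
  | zero =>
    intro A X _ _ h0 _
    rcases (P.ker X).1 (support_eq_empty_iff.1 (Finset.card_eq_zero.1 h0)) with rfl | rfl
    · simp
    · simp [(P.central A).eq]
  | succ m ih =>
    intro A X hA hX hm hd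
    obtain ⟨a, ha⟩ : (ξ X).support.Nonempty := Finset.card_pos.1 (by omega)
    obtain ⟨hs, hq, -, hcard⟩ := split_swap hX (mem_support.1 ha)
    obtain ⟨B, hB⟩ := P.surj (Equiv.swap a (ξ X a))
    have hX' : ξ (B⁻¹ * X) = Equiv.swap a (ξ X a) * ξ X := by rw [map_mul, map_inv, hB, Equiv.swap_inv]
    have hsub : (Equiv.swap a (ξ X a)).support ⊆ (ξ X).support := by
      intro y hy
      rw [support_swap (fun e => mem_support.1 ha e.symm), Finset.mem_insert, Finset.mem_singleton] at hy
      rcases hy with rfl | rfl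
      · exact ha
      · exact apply_mem_support.2 ha
    have hsub' : (Equiv.swap a (ξ X a) * ξ X).support ⊆ (ξ X).support :=
      (support_mul_le _ _).trans (Finset.union_subset hsub subset_rfl)
    have h1 := P.anti hA (hB ▸ hs : (ξ B).IsSwap) (hB ▸ hd.mono_right hsub)
    have h2 := ih hA (hX' ▸ hq) (by rw [hX']; omega) (hX' ▸ hd.mono_right hsub')
    calc A * X = A * B * (B⁻¹ * X) := by group
      _ = B * A * τ * (B⁻¹ * X) := by rw [h1]
      _ = B * A * (τ * (B⁻¹ * X)) := by group
      _ = B * (A * (B⁻¹ * X)) * τ := by rw [← (P.central (B⁻¹ * X)).eq]; group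
      _ = B * (B⁻¹ * X * A * τ ^ m) * τ := by rw [h2]
      _ = X * A * (τ ^ m * τ) := by group
      _ = X * A * τ ^ (m + 1) := by rw [pow_succ]

/-- A lift of an involution moving six points commutes with a lift of one of its transpositions, and the
product of their squares is the central involution. -/
theorem Spin.six {X : C} (hX : ξ X * ξ X = 1) (h6 : (ξ X).support.card = 6) :
    ∃ A : C, (ξ A).IsSwap ∧ Commute A X ∧ (A * A) * (X * X) = τ := by
  obtain ⟨a, ha⟩ : (ξ X).support.Nonempty := Finset.card_pos.1 (by omega)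
  obtain ⟨hs, hq, hd, hcard⟩ := split_swap hX (mem_support.1 ha)
  obtain ⟨A, hA⟩ := P.surj (Equiv.swap a (ξ X a))
  have hA' : (ξ A).IsSwap := hA ▸ hs
  set Y := A⁻¹ * X
  have hY : ξ Y = Equiv.swap a (ξ X a) * ξ X := by rw [map_mul, map_inv, hA, Equiv.swap_inv]
  have hc : Commute A Y := by
    have h := P.comm_gen 2 hA' (hY ▸ hq) (by rw [hY]; omega) (by rw [hY, hA]; exact hd)
    rwa [P.pow_eq, if_pos even_two, mul_one] at h
  have hYY := P.sq_four (x := Y) (hY ▸ hq) (by rw [hY]; omega)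
  have hXe : X = A * Y := by simp [Y]
  have hAA : A * A * (A * A) = 1 := by
    rcases P.sq (P.swap_mul_self hA') with e | e <;> rw [e]
    · rw [one_mul]
    · exact P.two
  refine ⟨A, hA', hXe ▸ (Commute.refl A).mul_right hc, ?_⟩
  rw [hXe, show A * Y * (A * Y) = A * (Y * A) * Y by group, ← hc.eq,
    show A * A * (A * (A * Y) * Y) = A * A * (A * A) * (Y * Y) by group, hAA, hYY, one_mul]

/-- A lift of an involution moving eight points is conjugate to its product with the central involution. -/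
theorem Spin.eight {X : C} (hX : ξ X * ξ X = 1) (h8 : (ξ X).support.card = 8) :
    ∃ A : C, A * X * A⁻¹ = X * τ ∧ ξ A * ξ X = ξ X * ξ A := by
  obtain ⟨a, ha⟩ : (ξ X).support.Nonempty := Finset.card_pos.1 (by omega)
  obtain ⟨hs, hq, hd, hcard⟩ := split_swap hX (mem_support.1 ha)
  obtain ⟨A, hA⟩ := P.surj (Equiv.swap a (ξ X a))
  set Y := A⁻¹ * X
  have hY : ξ Y = Equiv.swap a (ξ X a) * ξ X := by rw [map_mul, map_inv, hA, Equiv.swap_inv]
  have h := P.comm_gen 3 (hA ▸ hs : (ξ A).IsSwap) (hY ▸ hq) (by rw [hY]; omega) (by rw [hY, hA]; exact hd)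
  rw [P.pow_eq, if_neg (by decide)] at h
  have hXe : X = A * Y := by simp [Y]
  have he : A * X * A⁻¹ = X * τ := by
    rw [mul_inv_eq_iff_eq_mul, mul_assoc X τ A, ← (P.central A).eq, ← mul_assoc, hXe,
      show A * Y * A * τ = A * (Y * A * τ) by group, ← h]
  refine ⟨A, he, mul_inv_eq_iff_eq_mul.1 ?_⟩
  have h' := congrArg ξ he
  rwa [map_mul, map_mul, map_inv, map_mul, (P.ker τ).2 (Or.inr rfl), mul_one] at h'

end Cfsg.Agent.McLThree
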