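import Cfsg.Agent.Lib.McLThree.Cover
import Cfsg.Agent.Lib.McLThree.Points
import Cfsg.Agent.Lib.McLThree.Spin

/-!
# `C(t)` as a double cover of `Sym 8`
-/

set_option autoImplicit false
set_option linter.unusedSectionVars false
set_option linter.style.haveILetI false

namespace Cfsg.Agent.McLThree

open Subgroup Cfsg

universe u

/-- The cover of `Sym 8` with the images of the two points and the transposition fixing both. -/
structure Eight {G : Type u} [Group G] (J : Subgroup G) (t z z' : G)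
    (ξ : ↥(centralizer ({t} : Set G)) →* P8) (zc wc d : ↥(centralizer ({t} : Set G))) : Prop where
  spin : Spin (tC t) ξ
  z_eq : (zc : G) = z
  w_eq : (wc : G) = z'
  z_card : (ξ zc).support.card = 3
  w_card : (ξ wc).support.card = 3
  disj : _root_.Disjoint (ξ zc).support (ξ wc).support
  d_CE : (d : G) ∈ CE J t
  d_swap : (ξ d).IsSwap
  d_fix : ∀ x ∈ (ξ zc).support ∪ (ξ wc).support, ξ d x = x
  d_unique : ∀ σ : P8, σ ≠ 1 → (∀ x ∈ (ξ zc).support ∪ (ξ wc).support, σ x = x) → σ = ξ d

theorem disjoint_of_six {p q : P8} (hp : p.support.card = 3) (hq : q.support.card = 3)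
    (h : (p * q).support.card = 6) : _root_.Disjoint p.support q.support := by
  have h1 := Finset.card_le_card (Equiv.Perm.support_mul_le p q)
  have h2 := Finset.card_union_add_card_inter p.support q.support
  rw [Finset.disjoint_iff_inter_eq_empty, ← Finset.card_eq_zero]
  change (p * q).support.card ≤ (p.support ∪ q.support).card at h1
  omega

variable {G : Type u} [Group G] [Finite G] {S : Sylow 3 G} {Z J M₀ L₀ Q : Subgroup G}
  (H : Hyp S Z J M₀ L₀ Q) {π : ↥L₀ →* SL5} {t f : G} (F : Frame Q L₀ π t f)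
  {s z z' : G} (K : JSide Z J L₀ t s z z')
include H F K

/-- With outer automorphisms on `L₀/Q`, `C(t)` covers `Sym 8`. -/
theorem Hyp.exists_eight (hc : Nat.card ↥(centZt Z t) = 720) :
    ∃ ξ zc wc d, Eight J t z z' ξ zc wc d := by
  classical
  obtain ⟨e⟩ : Nonempty (Bar t ≃* P8) := (H.bar_sym_or F K hc).resolve_right fun ⟨N, hN, _, hi, _, hx, hs⟩ =>
    H.no_exception F K ⟨N, hN, hi, hx, hs⟩
  set ξ : ↥(centralizer ({t} : Set G)) →* P8 := e.toMonoidHom.comp (barMap t) with hξ
  obtain ⟨hne, h2, hcomm⟩ := H.tC_facts F K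
  have hsurj : Function.Surjective ξ := e.surjective.comp (QuotientGroup.mk'_surjective _)
  have hker : ∀ x, ξ x = 1 ↔ x = 1 ∨ x = tC t := fun x => by
    rw [hξ, MonoidHom.comp_apply, MulEquiv.coe_toMonoidHom, MulEquiv.map_eq_one_iff, H.barMap_eq_one F K]
  have hcent : ∀ x, Nat.card ↥(centralizer ({ξ x} : Set P8)) =
      Nat.card ↥(centralizer ({barMap t x} : Set (Bar t))) := fun x => by
    refine (Nat.card_congr (Equiv.subtypeEquiv e.toEquiv fun g => ?_)).symm
    rw [mem_centralizer_singleton_iff, mem_centralizer_singleton_iff]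
    show _ ↔ e g * e (barMap t x) = e (barMap t x) * e g
    rw [← map_mul, ← map_mul, e.injective.eq_iff]
  have hthree : ∀ x : ↥(centralizer ({t} : Set G)), (x : G) ^ 3 = 1 → (x : G) ≠ 1 → ξ x ^ 3 = 1 ∧ ξ x ≠ 1 := by
    refine fun x hx hx1 => ⟨by rw [← map_pow, show x ^ 3 = 1 from Subtype.ext hx, map_one], fun h => ?_⟩
    rcases (hker x).1 h with e' | e'
    · exact hx1 (congrArg Subtype.val e')
    · have h' : (x : G) = t := congrArg Subtype.val e'
      have hd := orderOf_dvd_of_pow_eq_one hx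
      rw [h', F.t_two] at hd
      norm_num at hd
  set zc := H.zC F K
  set wc : ↥(centralizer ({t} : Set G)) := ⟨z', K.z'_mem.2⟩
  have hcJ : Commute z z' := H.J_comm z (H.Z_le_J F K.z_mem) z' K.z'_mem.1
  have hz'1 : z' ≠ 1 := fun h => K.z'_not (h ▸ one_mem Z)
  obtain ⟨hz3, hz1⟩ := hthree zc (H.z_cube F K) (H.z_ne F K)
  obtain ⟨hw3, hw1⟩ := hthree wc (H.z'_cube F K) hz'1
  have hyne : z * z' ≠ 1 := fun h => K.z'_not (by rw [eq_inv_of_mul_eq_one_right h]; exact inv_mem K.z_mem)
  obtain ⟨hy3, hy1⟩ := hthree (H.yC F K) (H.J_exp _ (mul_mem (H.Z_le_J F K.z_mem) K.z'_mem.1)) hyne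
  have hcz : (ξ zc).support.card = 3 := (support_of_card_cent hz3 hz1).1 (by
    rw [hcent]; have h := H.bar_card_z F K; change 2 * Nat.card ↥(centralizer ({barMap t zc} : Set (Bar t))) = _ at h; omega)
  have hcy : (ξ zc * ξ wc).support.card = 6 := by
    rw [← map_mul, show zc * wc = H.yC F K from rfl]
    exact (support_of_card_cent hy3 hy1).2 (by rw [hcent, H.bar_card_y F K, (H.card_CE F K).2 hc])
  have hsC : s ∈ centralizer ({t} : Set G) := mem_centralizer_singleton_iff.2 K.s_t.eq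
  have hcw : (ξ wc).support.card = 3 := by
    rw [show wc = ⟨s, hsC⟩ * zc * ⟨s, hsC⟩⁻¹ from Subtype.ext K.s_z.symm, map_mul, map_mul, map_inv,
      Equiv.Perm.card_support_conj]
    exact hcz
  have hdisj := disjoint_of_six hcz hcw hcy
  -- the transposition
  have htCE : t ∈ CE J t := ⟨mem_centralizer_iff.2 fun e he => mem_centralizer_singleton_iff.1 he.2,
    mem_centralizer_singleton_iff.2 rfl⟩
  set U := (bar t (CE J t)).map e.toMonoidHom
  have hU : 2 ∣ Nat.card ↥U := by
    have h := card_bar F.t_two htCE inf_le_right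
    rw [(H.card_CE F K).2 hc] at h
    rw [card_map_of_injective e.injective]
    omega
  haveI : Fact (Nat.Prime 2) := ⟨Nat.prime_two⟩
  obtain ⟨u, hu⟩ := exists_prime_orderOf_dvd_card' 2 hU
  obtain ⟨b, hb, hbu⟩ := u.2
  obtain ⟨d, hdCE, rfl⟩ := mem_bar.1 hb
  have hdu : ξ d = (u : P8) := hbu
  have hd2 : ξ d * ξ d = 1 := by
    rw [hdu, ← Subgroup.coe_mul, ← pow_two, ← hu, pow_orderOf_eq_one, OneMemClass.coe_one]
  have hd1 : ξ d ≠ 1 := fun h => by
    rw [hdu, OneMemClass.coe_eq_one] at h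
    rw [h, orderOf_one] at hu
    omega
  have hdc : ∀ w : ↥(centralizer ({t} : Set G)), (w : G) ∈ Ej J t → ξ d * ξ w = ξ w * ξ d := fun w hw => by
    rw [← map_mul, ← map_mul]
    exact congrArg ξ (Subtype.ext (mem_centralizer_iff.1 hdCE.1 _ hw).symm)
  have hfix : ∀ x ∈ (ξ zc).support ∪ (ξ wc).support, ξ d x = x := by
    intro x hx
    rcases Finset.mem_union.1 hx with h | h
    · exact fix_of_three hz3 hcz hd2 (hdc zc (H.Z_le_Ej F K.z_mem)) x h
    · exact fix_of_three hw3 hcw hd2 (hdc wc K.z'_mem) x h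
  have hsupp : (ξ zc * ξ wc).support = (ξ zc).support ∪ (ξ wc).support :=
    (Equiv.Perm.disjoint_iff_disjoint_support.2 hdisj).support_mul
  obtain ⟨hswap, huniq⟩ := swap_of_six hcy hd1 fun x hx => hfix x (hsupp ▸ hx)
  -- a lift of a double transposition of order four
  obtain ⟨c, hcL, hct, hcc, hcN, hcz', hcw'⟩ := H.exists_c F K
  set cC : ↥(centralizer ({t} : Set G)) := ⟨c, mem_centralizer_singleton_iff.2 hct.eq⟩
  have hcC : cC * cC = tC t := Subtype.ext hcc
  have hcξ : ξ cC * ξ cC = 1 := by rw [← map_mul, hcC, (hker _).2 (Or.inr rfl)]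
  have hcsign : Equiv.Perm.sign (ξ cC) = 1 := by
    have hW : Wt L₀ t ≤ centralizer ({t} : Set G) := inf_le_right
    have hm : c ∈ (commutator ↥(centralizer ({t} : Set G))).map (centralizer ({t} : Set G)).subtype := by
      rw [map_subtype_commutator]
      exact commutator_mono ((commutator_le_self _).trans hW) ((commutator_le_self _).trans hW)
        (H.four_mem_derived F K hcL hct hcc)
    obtain ⟨x, hx, hxc⟩ := hm
    rw [show cC = x from Subtype.ext hxc.symm]
    exact Abelianization.commutator_subset_ker (Equiv.Perm.sign.comp ξ) hx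
  have hcne : ξ cC ≠ 1 := fun h => by
    rcases (hker cC).1 h with e' | e' <;> rw [e'] at hcC
    · exact hne (by rw [← hcC, one_mul])
    · exact hne (by rw [← hcC, h2])
  have hczc : ξ cC * ξ zc = ξ zc * ξ cC := by
    rw [← map_mul, ← map_mul]
    exact congrArg ξ (Subtype.ext (mul_inv_eq_iff_eq_mul.1 hcz'))
  have hc4 : (ξ cC).support.card = 4 := by
    obtain ⟨k, hk, -, -, hks⟩ := sign_invol hcξ
    have hsub : (ξ cC).support ⊆ ((ξ zc).support)ᶜ := fun x hx => Finset.mem_compl.2 fun hxz =>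
      Equiv.Perm.mem_support.1 hx (fix_of_three hz3 hcz hcξ hczc x hxz)
    have h5 := Finset.card_le_card hsub
    rw [Finset.card_compl, hcz, Fintype.card_fin] at h5
    have h1 := Equiv.Perm.two_le_card_support_of_ne_one hcne
    rw [hcsign] at hks
    have hk1 : k ≠ 1 := fun h => by rw [h] at hks; exact absurd hks (by decide)
    omega
  exact ⟨ξ, zc, wc, d, ⟨⟨h2, hne, hcomm, hsurj, hker, cC, hcC, hcξ, hc4⟩, rfl, rfl, hcz, hcw, hdisj, hdCE, hswap,
    hfix, fun σ hσ hσf => huniq σ hσ fun x hx => hσf x (hsupp ▸ hx)⟩⟩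

end Cfsg.Agent.McLThree
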