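import Cfsg.Agent.Lib.McLThree.LargeFrame
import Cfsg.Agent.Lib.McLType.Fusion

/-!
# Fusion of the involutions when `C(t)` covers `Sym 8`
-/

set_option autoImplicit false
set_option linter.unusedSectionVars false
set_option linter.style.haveILetI false

namespace Cfsg.Agent.McLThree

open Subgroup Cfsg Equiv Equiv.Perm

universe u

section Spin

variable {C : Type u} [Group C] {τ : C} {ξ : C →* P8} (P : Spin τ ξ)
include P

theorem Spin.map_tau : ξ τ = 1 := (P.ker τ).2 (Or.inr rfl)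

theorem Spin.map_ne_one {X : C} (h1 : X ≠ 1) (hτ : X ≠ τ) : ξ X ≠ 1 := fun h =>
  ((P.ker X).1 h).elim h1 hτ

theorem Spin.inner_support {X : C} (h2 : X * X = 1) (h1 : X ≠ 1) (hτ : X ≠ τ)
    (hs : Equiv.Perm.sign (ξ X) = 1) : ξ X * ξ X = 1 ∧ (ξ X).support.card = 8 := by
  have hX : ξ X * ξ X = 1 := by rw [← map_mul, h2, map_one]
  obtain ⟨k, hk, hk4, -, hks⟩ := sign_invol hX
  have hne := two_le_card_support_of_ne_one (P.map_ne_one h1 hτ)
  rw [hs] at hks
  have hk1 : k ≠ 1 := fun h => by rw [h] at hks; exact absurd hks (by decide)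
  have hk3 : k ≠ 3 := fun h => by rw [h] at hks; exact absurd hks (by decide)
  have hk2 : k ≠ 2 := fun h => P.ne (by rw [← P.sq_four hX (by omega), h2])
  exact ⟨hX, by omega⟩

/-- The inner involutions other than the central one are conjugate. -/
theorem Spin.inner_conj {X Y : C} (hX : X * X = 1) (hX1 : X ≠ 1) (hXτ : X ≠ τ) (hXs : Equiv.Perm.sign (ξ X) = 1)
    (hY : Y * Y = 1) (hY1 : Y ≠ 1) (hYτ : Y ≠ τ) (hYs : Equiv.Perm.sign (ξ Y) = 1) :
    ∃ g : C, g * X * g⁻¹ = Y := by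
  obtain ⟨hXX, hX8⟩ := P.inner_support hX hX1 hXτ hXs
  obtain ⟨hYY, hY8⟩ := P.inner_support hY hY1 hYτ hYs
  obtain ⟨k, hk, -, hkt, -⟩ := sign_invol hXX
  obtain ⟨l, hl, -, hlt, -⟩ := sign_invol hYY
  obtain ⟨σ, hσ⟩ := isConj_iff.1 ((isConj_iff_cycleType_eq).2 (by rw [hkt, hlt, show k = l by omega]) :
    IsConj (ξ X) (ξ Y))
  obtain ⟨g, rfl⟩ := P.surj σ
  rcases P.fibre (x := g * X * g⁻¹) (y := Y) (by rw [map_mul, map_mul, map_inv, hσ]) with h | h
  · exact ⟨g, h.symm⟩
  · obtain ⟨A, hA, -⟩ := P.eight hYY hY8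
    refine ⟨A⁻¹ * g, ?_⟩
    have h' : g * X * g⁻¹ = Y * τ := by rw [h, mul_assoc (g * X * g⁻¹), P.two, mul_one]
    rw [show A⁻¹ * g * X * (A⁻¹ * g)⁻¹ = A⁻¹ * (g * X * g⁻¹) * A by group, h', ← hA]
    group

theorem Spin.card_ker : Nat.card ↥ξ.ker = 2 := by
  rw [show ξ.ker = zpowers τ from ?_, Nat.card_zpowers]
  · exact orderOf_eq_prime (by rw [pow_two, P.two]) P.ne
  · refine le_antisymm (fun x hx => ?_) (zpowers_le.2 P.map_tau)
    rcases (P.ker x).1 hx with rfl | rfl
    · exact one_mem _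
    · exact mem_zpowers _

/-- No involution but the central one is centralized by a Sylow 2-subgroup. -/
theorem Spin.cent_bound [Finite C] {X : C} (h2 : X * X = 1) (h1 : X ≠ 1) (hτ : X ≠ τ) :
    ¬ 256 ∣ Nat.card ↥(Subgroup.centralizer ({X} : Set C)) := by
  intro hd
  set B := Subgroup.centralizer ({X} : Set C)
  set D := Subgroup.centralizer ({ξ X} : Set P8)
  set A := D.comap ξ
  have hXX : ξ X * ξ X = 1 := by rw [← map_mul, h2, map_one]
  have hBA : B ≤ A := fun g hg => mem_centralizer_singleton_iff.2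
    (by rw [← map_mul, ← map_mul, mem_centralizer_singleton_iff.1 hg])
  have hA : Nat.card ↥A = 2 * Nat.card ↥D := by
    have hkA : ξ.ker ≤ A := ker_le_comap ξ D
    set ψ := ξ.comp A.subtype
    have h := ψ.ker.card_mul_index
    rw [index_ker, show ψ.range = D from by
      rw [MonoidHom.range_comp, Subgroup.range_subtype, map_comap_eq_self_of_surjective P.surj],
      show Nat.card ↥ψ.ker = 2 from ?_] at h
    · exact h.symm
    · rw [← P.card_ker]
      exact Nat.card_congr (subgroupOfEquivOfLe hkA).toEquiv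
  have h128 : 128 ∣ Nat.card ↥D := by
    have h := hd.trans (card_dvd_of_le hBA)
    rw [hA] at h
    omega
  obtain ⟨h8, h384⟩ := support_of_full hXX (P.map_ne_one h1 hτ) h128
  obtain ⟨a, ha, hac⟩ := P.eight hXX h8
  have hidx := card_two_index hBA (a := a) (show a ∈ A from mem_centralizer_singleton_iff.2 hac) (fun h => P.ne ?_)
    (fun g hg => ?_)
  · rw [hA, h384] at hidx
    omega
  · rw [mem_centralizer_singleton_iff.1 h, mul_inv_cancel_right] at ha
    exact left_eq_mul.1 ha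
  · have hg' : ξ g * ξ X = ξ X * ξ g := mem_centralizer_singleton_iff.1 hg
    rcases P.fibre (x := X) (y := g * X * g⁻¹) (by rw [map_mul, map_mul, map_inv, hg', mul_inv_cancel_right]) with h | h
    · exact Or.inl (mem_centralizer_singleton_iff.2 (mul_inv_eq_iff_eq_mul.1 h))
    · refine Or.inr (mem_centralizer_singleton_iff.2 (mul_inv_eq_iff_eq_mul.1 ?_))
      rw [show g * a * X * (g * a)⁻¹ = g * (a * X * a⁻¹) * g⁻¹ by group, ha,
        show g * (X * τ) * g⁻¹ = g * X * g⁻¹ * (g * τ * g⁻¹) by group, h, (P.central g).eq, mul_inv_cancel_right,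
        mul_assoc, P.two, mul_one]

end Spin

variable {G : Type u} [Group G] [Finite G] {S : Sylow 3 G} {Z J M₀ L₀ Q : Subgroup G}
  (H : Hyp S Z J M₀ L₀ Q) {π : ↥L₀ →* SL5} {t f : G} (F : Frame Q L₀ π t f)
  {s z z' : G} (K : JSide Z J L₀ t s z z')
  {ξ : ↥(Subgroup.centralizer ({t} : Set G)) →* P8} {zc wc d : ↥(Subgroup.centralizer ({t} : Set G))}
  (E : Eight J t z z' ξ zc wc d)
include H F K E

/-- `C(t)` has odd index. -/
theorem Hyp.cent_odd_index : ¬ 2 ∣ (Subgroup.centralizer ({t} : Set G)).index := by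
  haveI : Fact (Nat.Prime 2) := ⟨Nat.prime_two⟩
  have h256 : 256 ∣ Nat.card ↥(Subgroup.centralizer ({t} : Set G)) := by
    have h := ξ.ker.card_mul_index
    rw [index_ker, MonoidHom.range_eq_top.2 E.spin.surj, Subgroup.card_top, E.spin.card_ker, Nat.card_perm,
      Nat.card_fin, show Nat.factorial 8 = 40320 from rfl] at h
    omega
  obtain ⟨P⟩ := (inferInstance : Nonempty (Sylow 2 ↥(Subgroup.centralizer ({t} : Set G))))
  have hP : 2 ^ 8 ∣ Nat.card ↥(P : Subgroup ↥(Subgroup.centralizer ({t} : Set G))) := P.pow_dvd_card_of_pow_dvd_card (by norm_num; exact h256)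
  set P0 := (P : Subgroup ↥(Subgroup.centralizer ({t} : Set G))).map (Subgroup.centralizer ({t} : Set G)).subtype
  have hP0 : IsPGroup 2 ↥P0 := P.2.map _
  obtain ⟨T, hT⟩ := hP0.exists_le_sylow
  by_cases hTP : (T : Subgroup G) ≤ P0
  · intro h
    exact T.not_dvd_index (h.trans (index_dvd_of_le (hTP.trans (map_subtype_le _))))
  exfalso
  have hlt : P0.subgroupOf (T : Subgroup G) < ⊤ := lt_top_iff_ne_top.2 fun h => hTP (subgroupOf_eq_top.1 h)
  haveI : Group.IsNilpotent ↥(T : Subgroup G) := T.2.isNilpotent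
  obtain ⟨p, hpn, hpD⟩ := SetLike.exists_of_lt
    (Group.normalizerCondition_of_isNilpotent (P0.subgroupOf (T : Subgroup G)) hlt)
  have hpN : (p : G) ∈ Subgroup.normalizer (P0 : Set G) := Subgroup.mem_normalizer_fintype fun x hx =>
    mem_subgroupOf.1 ((mem_normalizer_iff.1 hpn ⟨x, hT hx⟩).1 (mem_subgroupOf.2 hx))
  -- `t` is in every Sylow 2-subgroup of its centralizer
  have htP : tC t ∈ (P : Subgroup ↥(Subgroup.centralizer ({t} : Set G))) := by
    have hn : (zpowers (tC t)).Normal := ⟨fun x hx g => by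
      obtain ⟨k, rfl⟩ := mem_zpowers_iff.1 hx
      rw [((E.spin.central g).zpow_right k).eq, mul_inv_cancel_right]; exact zpow_mem (mem_zpowers _) k⟩
    have hzp : IsPGroup 2 ↥(zpowers (tC t)) := IsPGroup.of_card (n := 1) (by
      rw [Nat.card_zpowers, pow_one]; exact orderOf_eq_prime (by rw [pow_two, E.spin.two]) E.spin.ne)
    haveI := hn
    exact (P.3 (hzp.to_sup_of_normal_left P.2) le_sup_right).le (mem_sup_left (mem_zpowers _))
  obtain ⟨X, hX, hXe⟩ := (mem_normalizer_iff.1 hpN t).1 ⟨tC t, htP, rfl⟩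
  change (X : G) = (p : G) * t * (p : G)⁻¹ at hXe
  by_cases hXt : X = tC t
  · rw [hXt] at hXe
    have hpC : (p : G) ∈ (Subgroup.centralizer ({t} : Set G)) := mem_centralizer_singleton_iff.2 (mul_inv_eq_iff_eq_mul.1 hXe.symm)
    apply hpD
    rw [mem_subgroupOf]
    set U := P0 ⊔ zpowers (p : G)
    have hUT : U ≤ (T : Subgroup G) := sup_le hT (zpowers_le.2 p.2)
    have hUC : U ≤ (Subgroup.centralizer ({t} : Set G)) := sup_le (map_subtype_le _) (zpowers_le.2 hpC)
    have hUp : IsPGroup 2 ↥(U.subgroupOf (Subgroup.centralizer ({t} : Set G))) := ((T.2.to_le hUT).of_equiv (subgroupOfEquivOfLe hUC).symm)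
    have hPU : (P : Subgroup ↥(Subgroup.centralizer ({t} : Set G))) ≤ U.subgroupOf (Subgroup.centralizer ({t} : Set G)) := fun x hx =>
      mem_subgroupOf.2 (mem_sup_left ⟨x, hx, rfl⟩)
    have hUP := P.3 hUp hPU
    exact ⟨⟨p, hpC⟩, hUP.le (mem_subgroupOf.2 (mem_sup_right (mem_zpowers _))), rfl⟩
  · refine E.spin.cent_bound (X := X) (Subtype.ext ?_) (fun h => ?_) hXt ((show (256 : ℕ) = 2 ^ 8 by norm_num) ▸
      hP.trans (card_dvd_of_le fun y hy => mem_centralizer_singleton_iff.2 (Subtype.ext ?_)))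
    · rw [Subgroup.coe_mul, hXe, Subgroup.coe_one, show (p : G) * t * (p : G)⁻¹ * ((p : G) * t * (p : G)⁻¹) = (p : G) * (t * t) * (p : G)⁻¹ by group,
        H.tt F K]
      group
    · rw [h, Subgroup.coe_one] at hXe
      exact E.spin.ne (Subtype.ext (_root_.conj_eq_one_iff.1 hXe.symm))
    · rw [Subgroup.coe_mul, Subgroup.coe_mul, hXe]
      have hy' : (p : G)⁻¹ * (y : G) * (p : G) ∈ P0 := (mem_normalizer_iff''.1 hpN _).1 ⟨y, hy, rfl⟩
      have hc : Commute ((p : G)⁻¹ * (y : G) * (p : G)) t := by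
        obtain ⟨w, -, hw⟩ := hy'
        rw [← hw]; exact mem_centralizer_singleton_iff.1 w.2
      calc (y : G) * ((p : G) * t * (p : G)⁻¹) = (p : G) * ((p : G)⁻¹ * (y : G) * (p : G) * t) * (p : G)⁻¹ := by group
        _ = (p : G) * (t * ((p : G)⁻¹ * (y : G) * (p : G))) * (p : G)⁻¹ := by rw [hc.eq]
        _ = _ := by group

/-- An inner involution of `C(t)` other than `t` is conjugate to `t`. -/
theorem Hyp.inner_fused : ∃ (g : G) (X : ↥(Subgroup.centralizer ({t} : Set G))),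
    (X : G) = g * t * g⁻¹ ∧ X ≠ tC t ∧ Equiv.Perm.sign (ξ X) = 1 := by
  obtain ⟨g, hgC, hgt⟩ := McLType.exists_conj t F.t_two (H.not_top F)
  set R : ↥(Subgroup.centralizer ({t} : Set G)) := ⟨g * t * g⁻¹, hgC⟩
  have hRt : R ≠ tC t := fun h => hgt (congrArg Subtype.val h)
  rcases Int.units_eq_one_or (Equiv.Perm.sign (ξ R)) with hs | hs
  · exact ⟨g, R, rfl, hRt, hs⟩
  have hR2 : R * R = 1 := Subtype.ext (by
    show g * t * g⁻¹ * (g * t * g⁻¹) = 1
    rw [show g * t * g⁻¹ * (g * t * g⁻¹) = g * (t * t) * g⁻¹ by group, H.tt F K]; group)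
  have hRR : ξ R * ξ R = 1 := by rw [← map_mul, hR2, map_one]
  obtain ⟨k, hk, hk4, -, hks⟩ := sign_invol hRR
  rw [hs] at hks
  have hkk : k = 1 ∨ k = 3 := by
    rcases (show k = 0 ∨ k = 1 ∨ k = 2 ∨ k = 3 ∨ k = 4 by omega) with h | h | h | h | h <;>
      first | exact Or.inl h | exact Or.inr h | (rw [h] at hks; exact absurd hks (by decide))
  rcases hkk with rfl | rfl
  · -- lifts of transpositions commute with a conjugate of `z`
    exfalso
    have hRs : (ξ R).IsSwap := card_support_eq_two.1 hk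
    obtain ⟨σ, hσ⟩ := isConj_iff.1 ((isConj_iff_cycleType_eq).2 (by
      rw [hRs.isCycle.cycleType, E.d_swap.isCycle.cycleType, hk, card_support_eq_two.2 E.d_swap]) :
      IsConj (ξ R) (ξ d))
    obtain ⟨c, rfl⟩ := E.spin.surj σ
    set W := c * R * c⁻¹
    have hWξ : ξ W = ξ d := by rw [map_mul, map_mul, map_inv, hσ]
    have hWz : Commute (W : G) z := by
      have hdz : Commute (d : G) z := (mem_centralizer_iff.1 E.d_CE.1 z (H.Z_le_Ej F K.z_mem)).symm
      rcases E.spin.fibre hWξ.symm with h | h <;> rw [h]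
      · exact hdz
      · exact hdz.mul_left (mem_centralizer_singleton_iff.1 (H.Z_le_Ej F K.z_mem).2).symm
    have hWt : (W : G) = t := H.eq_t_of_conj F K (g := (c : G) * g)
      (show (c : G) * g * t * ((c : G) * g)⁻¹ = (c : G) * (g * t * g⁻¹) * (c : G)⁻¹ by group)
      (mem_centralizer_singleton_iff.1 W.2) hWz
    have h1 : ξ W = 1 := by rw [show W = tC t from Subtype.ext hWt, E.spin.map_tau]
    obtain ⟨a, b, hab, hswap⟩ := E.d_swap
    rw [hWξ, hswap, Equiv.swap_eq_one_iff] at h1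
    exact hab h1
  · obtain ⟨A, -, hAR, hAA⟩ := E.spin.six hRR hk
    rw [hR2, mul_one] at hAA
    have hc : Commute (A : G) (g * t * g⁻¹) := congrArg Subtype.val hAR.eq
    have hW : g⁻¹ * (A : G) * g ∈ Subgroup.centralizer ({t} : Set G) := mem_centralizer_singleton_iff.2 (by
      calc g⁻¹ * (A : G) * g * t = g⁻¹ * ((A : G) * (g * t * g⁻¹)) * g := by group
        _ = g⁻¹ * (g * t * g⁻¹ * (A : G)) * g := by rw [hc.eq]
        _ = _ := by group)
    refine ⟨g⁻¹, ⟨_, hW⟩ * ⟨_, hW⟩, ?_, fun h => hgt ?_, by rw [map_mul, map_mul]; exact Int.units_mul_self _⟩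
    · show g⁻¹ * (A : G) * g * (g⁻¹ * (A : G) * g) = g⁻¹ * t * g⁻¹⁻¹
      rw [show g⁻¹ * (A : G) * g * (g⁻¹ * (A : G) * g) = g⁻¹ * ((A : G) * A) * g by group,
        show (A : G) * A = t from congrArg Subtype.val hAA, inv_inv]
    · have h' : g⁻¹ * (A : G) * g * (g⁻¹ * (A : G) * g) = t := congrArg Subtype.val h
      rw [show g⁻¹ * (A : G) * g * (g⁻¹ * (A : G) * g) = g⁻¹ * ((A : G) * A) * g by group,
        show (A : G) * A = t from congrArg Subtype.val hAA] at h'
      calc g * t * g⁻¹ = g * (g⁻¹ * t * g) * g⁻¹ := by rw [h']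
        _ = t := by group

/-- Every inner involution other than `t` is conjugate to `t`. -/
theorem Hyp.inner_conj_t {X : ↥(Subgroup.centralizer ({t} : Set G))} (h2 : X * X = 1) (h1 : X ≠ 1) (ht : X ≠ tC t)
    (hs : Equiv.Perm.sign (ξ X) = 1) : ∃ g : G, g * t * g⁻¹ = X := by
  obtain ⟨g, Y, hY, hYt, hYs⟩ := H.inner_fused F K E
  have hY2 : Y * Y = 1 := Subtype.ext (by
    rw [Subgroup.coe_mul, hY, Subgroup.coe_one, show g * t * g⁻¹ * (g * t * g⁻¹) = g * (t * t) * g⁻¹ by group,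
      H.tt F K]
    group)
  have hY1 : Y ≠ 1 := fun h => by
    rw [h, Subgroup.coe_one] at hY
    exact E.spin.ne (Subtype.ext (_root_.conj_eq_one_iff.1 hY.symm))
  obtain ⟨c, hc⟩ := E.spin.inner_conj hY2 hY1 hYt hYs h2 h1 ht hs
  refine ⟨(c : G) * g, ?_⟩
  rw [show (c : G) * g * t * ((c : G) * g)⁻¹ = (c : G) * (g * t * g⁻¹) * (c : G)⁻¹ by group, ← hY, ← hc]
  rfl

/-- An outer involution of `C(t)` not conjugate to `t`. -/
theorem Hyp.exists_outer : ∃ i : ↥(Subgroup.centralizer ({t} : Set G)), i * i = 1 ∧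
    Equiv.Perm.sign (ξ i) = -1 ∧ ∀ g : G, g * t * g⁻¹ ≠ i := by
  have P := E.spin
  have hdz : Commute (d : G) z := (mem_centralizer_iff.1 E.d_CE.1 z (H.Z_le_Ej F K.z_mem)).symm
  have hdt : Commute (d : G) t := mem_centralizer_singleton_iff.1 d.2
  have hds : Equiv.Perm.sign (ξ d) = -1 := by
    obtain ⟨a, b, hab, h⟩ := E.d_swap
    rw [h, Equiv.Perm.sign_swap hab]
  rcases P.sq (P.swap_mul_self E.d_swap) with hdd | hdd
  · refine ⟨d, hdd, hds, fun g hg => ?_⟩
    have h := H.eq_t_of_conj F K hg hdt hdz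
    rw [show d = tC t from Subtype.ext h, P.map_tau, map_one] at hds
    exact absurd hds (by decide)
  obtain ⟨a, haN, haz, hay⟩ := H.exists_swap F K
  set aC : ↥(Subgroup.centralizer ({t} : Set G)) := ⟨a, haN.2⟩
  have hdy : Commute (d : G) (z * z') :=
    (mem_centralizer_iff.1 E.d_CE.1 _ (mul_mem (H.Z_le_Ej F K.z_mem) K.z'_mem)).symm
  obtain ⟨i0, hi0y, hi0z, hi0s⟩ : ∃ i0 : ↥(Subgroup.centralizer ({t} : Set G)), Commute (i0 : G) (z * z') ∧
      (i0 : G) * z * (i0 : G)⁻¹ ∈ zpowers z' ∧ Equiv.Perm.sign (ξ i0) = -1 := by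
    rcases Int.units_eq_one_or (Equiv.Perm.sign (ξ aC)) with hs | hs
    · refine ⟨aC * d, hay.mul_left hdy, ?_, by rw [map_mul, map_mul, hs, hds, one_mul]⟩
      show a * (d : G) * z * (a * (d : G))⁻¹ ∈ _
      rw [show a * (d : G) * z * (a * (d : G))⁻¹ = a * ((d : G) * z * (d : G)⁻¹) * a⁻¹ by group, hdz.eq,
        mul_inv_cancel_right]
      exact haz
    · exact ⟨aC, hay, haz, hs⟩
  have hi0t : Commute (i0 : G) t := mem_centralizer_singleton_iff.1 i0.2
  obtain ⟨e, heE, hei⟩ : ∃ e : ↥(Subgroup.centralizer ({t} : Set G)), (e : G) ∈ Ej J t ∧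
      (e = i0 * i0 ∨ e = i0 * i0 * tC t) := by
    rcases K.sq_y _ (Or.inl rfl) _ hi0y hi0t with h | h
    · exact ⟨i0 * i0, h, Or.inl rfl⟩
    · exact ⟨i0 * i0 * tC t, h, Or.inr rfl⟩
  have heξ : ξ (i0 * i0) = ξ e := by
    rcases hei with h | h <;> rw [h]
    rw [map_mul (f := ξ) (i0 * i0), P.map_tau, mul_one]
  have hez : Commute ((i0 * i0 : ↥(Subgroup.centralizer ({t} : Set G))) : G) z := by
    have he : Commute (e : G) z := H.J_comm _ heE.1 z (H.Z_le_J F K.z_mem)
    rcases hei with h | h <;> rw [h] at he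
    · exact he
    · have h' := he.mul_left (show Commute t z from (mem_centralizer_singleton_iff.1 (H.Z_le_Ej F K.z_mem).2).symm)
      rwa [show ((i0 * i0 * tC t : ↥(Subgroup.centralizer ({t} : Set G))) : G) * t = ((i0 * i0 : ↥(Subgroup.centralizer ({t} : Set G))) : G) from by
        rw [Subgroup.coe_mul, mul_assoc, H.tt F K, mul_one]] at h'
  set i := i0 * (i0 * i0) with hi
  have hii : ξ i * ξ i = 1 := by
    rw [← map_mul, show i * i = (i0 * i0) * (i0 * i0) * (i0 * i0) by rw [hi]; group, map_mul, map_mul, heξ,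
      ← map_mul, ← map_mul, show e * e * e = 1 from Subtype.ext (by
        rw [Subgroup.coe_mul, Subgroup.coe_mul, ← pow_two, ← pow_succ, H.J_exp _ heE.1, Subgroup.coe_one]), map_one]
  have his : Equiv.Perm.sign (ξ i) = -1 := by
    rw [hi, map_mul, map_mul, map_mul, map_mul, hi0s]; decide
  have hiy : Commute (i : G) (z * z') := hi0y.mul_left (hi0y.mul_left hi0y)
  have hiz : (i : G) * z * (i : G)⁻¹ = z' ∨ (i : G) * z * (i : G)⁻¹ = z'⁻¹ := by
    have h : (i : G) * z * (i : G)⁻¹ = (i0 : G) * z * (i0 : G)⁻¹ := by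
      show (i0 : G) * _ * z * ((i0 : G) * _)⁻¹ = _
      rw [mul_assoc (i0 : G), hez.eq]; group
    rw [h]
    obtain ⟨k, hk⟩ := mem_zpowers_iff.1 hi0z
    rcases order_three (H.z'_cube F K) k with e' | e' | e' <;> rw [e'] at hk
    · exact absurd (_root_.conj_eq_one_iff.1 hk.symm) (H.z_ne F K)
    · exact Or.inl hk.symm
    · exact Or.inr hk.symm
  -- `i` exchanges the supports of the points
  have hsup : (ξ zc).support.map (ξ i).toEmbedding = (ξ wc).support := by
    rw [← Equiv.Perm.support_conj, ← map_inv, ← map_mul, ← map_mul]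
    rcases hiz with h | h
    · rw [show i * zc * i⁻¹ = wc from Subtype.ext (by rw [E.w_eq, ← h, ← E.z_eq]; rfl)]
    · rw [show i * zc * i⁻¹ = wc⁻¹ from Subtype.ext (by rw [Subgroup.coe_inv, E.w_eq, ← h, ← E.z_eq]; rfl), map_inv,
        Equiv.Perm.support_inv]
  have hinv : ∀ x, ξ i (ξ i x) = x := fun x => DFunLike.congr_fun hii x
  have hzw : ∀ x ∈ (ξ zc).support, ξ i x ∈ (ξ wc).support := fun x hx => hsup ▸ Finset.mem_map_of_mem _ hx
  have hwz : ∀ x ∈ (ξ wc).support, ξ i x ∈ (ξ zc).support := by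
    intro x hx
    rw [← hsup] at hx
    obtain ⟨y, hy, rfl⟩ := Finset.mem_map.1 hx
    show ξ i (ξ i y) ∈ _
    rwa [hinv]
  have hU : ∀ x ∈ (ξ zc).support ∪ (ξ wc).support, ξ i x ∈ (ξ zc).support ∪ (ξ wc).support := by
    intro x hx
    rcases Finset.mem_union.1 hx with h | h
    · exact Finset.mem_union_right _ (hzw x h)
    · exact Finset.mem_union_left _ (hwz x h)
  have hmove : ∀ x ∈ (ξ zc).support ∪ (ξ wc).support, ξ i x ≠ x := by
    intro x hx he
    rcases Finset.mem_union.1 hx with h | h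
    · exact Finset.disjoint_left.1 E.disj h (he ▸ hzw x h)
    · exact Finset.disjoint_left.1 E.disj (he ▸ hwz x h) h
  have hU6 : ((ξ zc).support ∪ (ξ wc).support).card = 6 := by
    rw [Finset.card_union_of_disjoint E.disj, E.z_card, E.w_card]
  have hUi : (ξ zc).support ∪ (ξ wc).support ⊆ (ξ i).support := fun x hx => mem_support.2 (hmove x hx)
  have hi6 : (ξ i).support.card = 6 := by
    obtain ⟨k, hk, hk4, -, hks⟩ := sign_invol hii
    have h6 := Finset.card_le_card hUi
    rw [his] at hks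
    have hk' : k ≠ 4 := fun h => by rw [h] at hks; exact absurd hks (by decide)
    omega
  obtain ⟨A, hA, -, hAA⟩ := P.six hii hi6
  rw [P.sq_swap E.d_swap hA, hdd] at hAA
  have hi2 : i * i = 1 := mul_eq_left.1 hAA
  have hit : i ≠ tC t := fun h => by
    rw [h, P.map_tau, map_one] at his
    exact absurd his (by decide)
  -- `i` commutes with `d` modulo `t`
  have hconj : ξ i * ξ d * (ξ i)⁻¹ = ξ d := by
    refine E.d_unique _ (fun h => ?_) fun x hx => ?_
    · have h1 := _root_.conj_eq_one_iff.1 h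
      rw [h1, map_one] at hds
      exact absurd hds (by decide)
    · rw [inv_eq_of_mul_eq_one_right hii]
      show ξ i (ξ d (ξ i x)) = x
      rw [E.d_fix _ (hU x hx), hinv]
  have hcomm : d * i = i * d * tC t := by
    have hs : (ξ i).support = (ξ zc).support ∪ (ξ wc).support := (Finset.eq_of_subset_of_card_le hUi (by omega)).symm
    have h := P.comm_gen 3 E.d_swap hii hi6 (by
      rw [hs]
      exact Finset.disjoint_right.2 fun x hx => fun h' => mem_support.1 h' (E.d_fix x hx))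
    rwa [P.pow_eq, if_neg (by decide)] at h
  set x := i * d with hx
  have hx2 : x * x = 1 := by
    rw [hx, show i * d * (i * d) = i * (d * i) * d by group, hcomm,
      show i * (i * d * tC t) * d = i * i * d * (tC t * d) by group, ← (P.central d).eq,
      show i * i * d * (d * tC t) = i * i * (d * d) * tC t by group, hi2, hdd, one_mul, P.two]
  have hxs : Equiv.Perm.sign (ξ x) = 1 := by rw [hx, map_mul, map_mul, his, hds]; decide
  have hxne : ξ x ≠ 1 := fun h => by
    obtain ⟨p, hp⟩ : ((ξ zc).support ∪ (ξ wc).support).Nonempty := Finset.card_pos.1 (by omega)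
    have h' := DFunLike.congr_fun h p
    rw [hx, map_mul, Equiv.Perm.mul_apply, E.d_fix p hp, Equiv.Perm.one_apply] at h'
    exact hmove p hp h'
  have hx1 : x ≠ 1 := fun h => hxne (by rw [h, map_one])
  have hxt : x ≠ tC t := fun h => hxne (by rw [h, P.map_tau])
  obtain ⟨g, hg⟩ := H.inner_conj_t F K E hx2 hx1 hxt hxs
  refine ⟨i, hi2, his, fun g' hg' => ?_⟩
  refine K.no_both (i : G) (d : G) (congrArg Subtype.val hi2) (fun h => hit (Subtype.ext h))
    (mem_centralizer_singleton_iff.1 i.2) hiy hdt E.d_CE.1 (congrArg Subtype.val hdd) ⟨?_, ?_⟩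
  · exact H.conj_in_NJ F K hg' hiy
  · exact H.conj_in_NJ F K (i := (i : G) * (d : G)) hg (hiy.mul_left hdy)

end Cfsg.Agent.McLThree
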