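import Cfsg.Agent.Lib.McLThree.LargeFusion
import Cfsg.Agent.Lib.Involutions.ThompsonTransfer
import Cfsg.Agent.Lib.Perm.AltImage
import Cfsg.Agent.Lib.Cores.Basic
import Cfsg.Agent.GroupStructure3.McLOut.Main
import Cfsg.Agent.Lib.McLType.Top

/-!
# The automorphism group of the group of McLaughlin: transfer

A subgroup of index two with `C(t)` of shape `2.A₈`, and the two cases together.
-/

set_option autoImplicit false
set_option linter.unusedSectionVars false
set_option linter.style.haveILetI false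

namespace Cfsg.Agent.McLThree

open Subgroup Cfsg

universe u

theorem card_aut_mcl : Nat.card (MulAut ↥Spor.McL) = 1796256000 := by
  obtain ⟨E⟩ := GroupStructure3.McLOut.nonempty_equiv
  exact (Nat.card_congr (MulAut.congr E).toEquiv).trans GroupStructure3.McLOut.card_mulAut

variable {G : Type u} [Group G] [Finite G] {S : Sylow 3 G} {Z J M₀ L₀ Q : Subgroup G}
  (H : Hyp S Z J M₀ L₀ Q) {π : ↥L₀ →* SL5} {t f : G} (F : Frame Q L₀ π t f)
  {s z z' : G} (K : JSide Z J L₀ t s z z')
include H F K

/-- With outer automorphisms on `L₀/Q`, the group is the automorphism group of the group of McLaughlin. -/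
theorem Hyp.large (hc : Nat.card ↥(centZt Z t) = 720) : Nonempty (G ≃* MulAut ↥Spor.McL) := by
  classical
  obtain ⟨ξ, zc, wc, d, E⟩ := H.exists_eight F K hc
  have P := E.spin
  obtain ⟨i, hi2, his, hit⟩ := H.exists_outer F K E
  set sgn := Equiv.Perm.sign.comp ξ with hsgn
  have hC0 : sgn.ker.index = 2 := by
    rw [index_ker, MonoidHom.range_eq_top.2 fun u => ?_, Subgroup.card_top, Nat.card_eq_fintype_card,
      Fintype.card_units_int]
    rcases Int.units_eq_one_or u with rfl | rfl
    · exact ⟨1, map_one _⟩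
    · exact ⟨i, his⟩
  set M := sgn.ker.map (centralizer ({t} : Set G)).subtype
  have hM : M.index % 4 = 2 := by
    have hodd := H.cent_odd_index F K E
    rw [index_map_subtype, hC0]
    omega
  have hiG : orderOf (i : G) = 2 := by
    rw [Subgroup.orderOf_coe]
    exact orderOf_eq_prime (by rw [pow_two, hi2]) fun h => by rw [h, map_one, map_one] at his; exact absurd his (by decide)
  have hno : ∀ g : G, g * (i : G) * g⁻¹ ∉ M := by
    rintro g ⟨X, hX, hXe⟩
    change (X : G) = g * i * g⁻¹ at hXe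
    have hii : (i : G) * i = 1 := congrArg Subtype.val hi2
    by_cases hXt : X = tC t
    · rw [hXt] at hXe
      refine hit g⁻¹ ?_
      have h' : t = g * (i : G) * g⁻¹ := hXe
      calc g⁻¹ * t * g⁻¹⁻¹ = g⁻¹ * (g * (i : G) * g⁻¹) * g⁻¹⁻¹ := congrArg (fun a => g⁻¹ * a * g⁻¹⁻¹) h'
        _ = (i : G) := by group
    have hX2 : X * X = 1 := Subtype.ext (by
      rw [Subgroup.coe_mul, hXe, Subgroup.coe_one, show g * (i : G) * g⁻¹ * (g * i * g⁻¹) = g * (i * i) * g⁻¹ by group,
        hii]
      group)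
    have hX1 : X ≠ 1 := fun h => by
      rw [h, Subgroup.coe_one] at hXe
      rw [_root_.conj_eq_one_iff.1 hXe.symm, orderOf_one] at hiG
      omega
    obtain ⟨k, hk⟩ := H.inner_conj_t F K E hX2 hX1 hXt hX
    refine hit (g⁻¹ * k) ?_
    rw [show g⁻¹ * k * t * (g⁻¹ * k)⁻¹ = g⁻¹ * (k * t * k⁻¹) * g by group, hk, hXe]
    group
  obtain ⟨N, hN2, hiN⟩ := Involutions.ThompsonTransfer.exists_index_two_of_no_conj M hM (i : G) hiG hno
  haveI hNn : N.Normal := normal_of_index_eq_two hN2
  -- `N ∩ C(t)` covers `Alt 8`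
  have htN : t ∈ N := by
    obtain ⟨c, hcc, -, -⟩ := P.double
    have h : (c : G) * c = t := congrArg Subtype.val hcc
    rw [← h, ← pow_two]
    exact sq_mem_of_index_two hN2 _
  set N' := N.subgroupOf (centralizer ({t} : Set G))
  have hN'2 : N'.index = 2 := by
    rcases (Nat.dvd_prime Nat.prime_two).1 (hN2 ▸ relIndex_dvd_index_of_normal N (centralizer ({t} : Set G)) :
      N'.index ∣ 2) with h | h
    · exact absurd ((index_eq_one.1 h).ge (mem_top i) : i ∈ N') hiN
    · exact h
  have hkN : ξ.ker ≤ N' := fun x hx => by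
    rcases (P.ker x).1 hx with rfl | rfl
    · exact one_mem _
    · exact htN
  have hmap : N'.map ξ = alternatingGroup (Fin 8) :=
    Equiv.Perm.eq_alternatingGroup_of_index_eq_two (by rw [index_map_eq _ P.surj hkN, hN'2])
  have hmem : ∀ x : ↥(centralizer ({t} : Set G)), (x : G) ∈ N ↔ ξ x ∈ alternatingGroup (Fin 8) := fun x => by
    rw [← hmap, ← mem_comap, comap_map_eq_self hkN]
    rfl
  set tN : ↥N := ⟨t, htN⟩
  have htN2 : orderOf tN = 2 := by rw [orderOf_mk]; exact F.t_two
  let ι : ↥(centralizer ({tN} : Set ↥N)) →* ↥(centralizer ({t} : Set G)) :=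
    { toFun := fun x => ⟨((x : ↥N) : G), mem_centralizer_singleton_iff.2
        (congrArg Subtype.val (mem_centralizer_singleton_iff.1 x.2))⟩
      map_one' := rfl
      map_mul' := fun _ _ => rfl }
  let ξ' : ↥(centralizer ({tN} : Set ↥N)) →* alternatingGroup (Fin 8) :=
    (ξ.comp ι).codRestrict (alternatingGroup (Fin 8)) fun x => (hmem (ι x)).1 (x : ↥N).2
  have hlift : ∀ x : ↥(centralizer ({t} : Set G)), ξ x ∈ alternatingGroup (Fin 8) →
      ∃ y : ↥(centralizer ({tN} : Set ↥N)), ι y = x := fun x hx =>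
    ⟨⟨⟨x, (hmem x).2 hx⟩, mem_centralizer_singleton_iff.2 (Subtype.ext (mem_centralizer_singleton_iff.1 x.2))⟩, rfl⟩
  obtain ⟨cc, hcc, hcc2, hcc4⟩ := P.double
  have hcalt : ξ cc ∈ alternatingGroup (Fin 8) := by
    obtain ⟨k, hk, -, -, hks⟩ := sign_invol hcc2
    rw [Equiv.Perm.mem_alternatingGroup, hks, show k = 2 by omega]
    rfl
  obtain ⟨c', hc'⟩ := hlift cc hcalt
  set τN : ↥(centralizer ({tN} : Set ↥N)) := ⟨tN, mem_centralizer_singleton_iff.2 rfl⟩
  have hcov : IsNonsplitDoubleCover ↥(centralizer ({tN} : Set ↥N)) (alternatingGroup (Fin 8)) := by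
    refine double_cover_of_root (τ := τN) (fun h => ?_) (Subtype.ext (Subtype.ext (H.tt F K)))
      (fun x => Subtype.ext (mem_centralizer_singleton_iff.1 x.2)) ξ' (fun σ => ?_) (fun x => ?_) (c := c') ?_
    · have h' : t = 1 := congrArg (fun a : ↥(centralizer ({tN} : Set ↥N)) => ((a : ↥N) : G)) h
      have := F.t_two
      rw [h', orderOf_one] at this
      omega
    · obtain ⟨x, hx⟩ := P.surj (σ : P8)
      obtain ⟨y, hy⟩ := hlift x (hx ▸ σ.2)
      refine ⟨y, Subtype.ext ?_⟩
      show ξ (ι y) = (σ : P8)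
      rw [hy, hx]
    · rw [Subtype.ext_iff]
      show ξ (ι x) = 1 ↔ _
      rw [P.ker]
      constructor
      · rintro (h | h)
        · exact Or.inl (Subtype.ext (Subtype.ext (congrArg Subtype.val h :)))
        · exact Or.inr (Subtype.ext (Subtype.ext (congrArg Subtype.val h :)))
      · rintro (rfl | rfl)
        · exact Or.inl rfl
        · exact Or.inr rfl
    · refine Subtype.ext (Subtype.ext ?_)
      have h : ((ι c' : ↥(centralizer ({t} : Set G))) : G) * (ι c' : ↥(centralizer ({t} : Set G))) = t := by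
        rw [hc']; exact congrArg Subtype.val hcc
      exact h
  -- `C(t)` does not cover `N` modulo the odd core
  have hnotN : centralizer ({tN} : Set ↥N) ⊔ Cfsg.oddCore ↥N ≠ ⊤ := by
    intro htop
    refine H.not_top F (eq_top_iff.2 fun g _ => ?_)
    haveI : ((Cfsg.oddCore ↥N).map N.subtype).Normal := by
      haveI : (Cfsg.oddCore ↥N).Characteristic := Cores.pPrimeCore_characteristic 2
      infer_instance
    have hodd : (Cfsg.oddCore ↥N).map N.subtype ≤ Cfsg.oddCore G := Cores.le_oddCore (by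
      rw [card_map_of_injective N.subtype_injective]; exact Cores.oddCore_odd)
    have hNle : N ≤ centralizer ({t} : Set G) ⊔ Cfsg.oddCore G := by
      intro x hx
      have h : (⟨x, hx⟩ : ↥N) ∈ centralizer ({tN} : Set ↥N) ⊔ Cfsg.oddCore ↥N := htop.ge (mem_top _)
      have h' := mem_map_of_mem N.subtype h
      rw [Subgroup.map_sup] at h'
      refine sup_le_sup ?_ hodd h'
      rintro _ ⟨y, hy, rfl⟩
      exact mem_centralizer_singleton_iff.2 (congrArg Subtype.val (mem_centralizer_singleton_iff.1 hy))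
    by_cases hg : g ∈ N
    · exact hNle hg
    · have h : g * (i : G) ∈ N := (mul_mem_iff_of_index_two hN2).2 (iff_of_false hg hiN)
      rw [show g = g * (i : G) * (i : G)⁻¹ by group]
      exact mul_mem (hNle h) (inv_mem (mem_sup_left i.2))
  obtain ⟨e⟩ := (S3334.result tN htN2 hcov).resolve_left hnotN
  -- the action on `N`
  set ψ : G →* MulAut ↥N := MulAut.conjNormal
  have hinj : Function.Injective ψ := by
    rw [injective_iff_map_eq_one]
    intro k hk
    have hcomm : ∀ x : ↥N, k * (x : G) = (x : G) * k := fun x => by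
      have h : k * (x : G) * k⁻¹ = x := congrArg Subtype.val (DFunLike.congr_fun hk x)
      exact mul_inv_eq_iff_eq_mul.1 h
    have hkC : k ∈ centralizer ({t} : Set G) := mem_centralizer_singleton_iff.2 (hcomm tN)
    have hkξ : ξ ⟨k, hkC⟩ ∈ centralizer (alternatingGroup (Fin 8) : Set P8) := by
      refine mem_centralizer_iff.2 fun σ hσ => ?_
      obtain ⟨x, rfl⟩ := P.surj σ
      rw [← map_mul, ← map_mul]
      exact congrArg ξ (Subtype.ext (hcomm ⟨x, (hmem x).2 hσ⟩).symm)
    rw [AltImage.centralizer_alt (by norm_num), mem_bot, P.ker] at hkξ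
    rcases hkξ with h | h
    · exact congrArg Subtype.val h
    · have hkt : k = t := congrArg Subtype.val h
      refine absurd ?_ hnotN
      have htop : centralizer ({tN} : Set ↥N) = ⊤ := eq_top_iff.2 fun x _ =>
        mem_centralizer_singleton_iff.2 (Subtype.ext (hkt ▸ hcomm x).symm)
      rw [htop, top_sup_eq]
  have hcard : Nat.card (MulAut ↥N) = Nat.card G := by
    have h := N.card_mul_index
    rw [hN2, Nat.card_congr e.toEquiv, McLType.card_spor] at h
    rw [Nat.card_congr (MulAut.congr e).toEquiv, card_aut_mcl]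
    omega
  exact ⟨(MulEquiv.ofBijective ψ ((Nat.bijective_iff_injective_and_card ψ).2 ⟨hinj, hcard.symm⟩)).trans
    (MulAut.congr e)⟩

/-- The group is the group of McLaughlin or its automorphism group. -/
theorem Hyp.conclusion : Nonempty (G ≃* ↥Spor.McL) ∨ Nonempty (G ≃* MulAut ↥Spor.McL) := by
  rcases H.card_centZt F with ⟨h, -⟩ | ⟨h, -⟩
  · exact Or.inl (H.small F K h)
  · exact Or.inr (H.large F K h)

end Cfsg.Agent.McLThree
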