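import Cfsg.Agent.Lib.McLThree.Setup
import Cfsg.Agent.Lib.McLThree.Five
import Cfsg.Agent.Lib.Components.Fitting

/-!
# The data from the centralizer of a subgroup of order three
-/

set_option autoImplicit false
set_option linter.unusedSectionVars false
set_option linter.style.haveILetI false
set_option maxRecDepth 100000

namespace Cfsg.Agent.McLThree

open Subgroup Cfsg

universe u

/-- An element of order three. -/
def t51 : SL5 := ⟨!![0, 1; 4, 4], by decide +kernel⟩

/-- An element of order three. -/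
def t52 : SL5 := ⟨!![0, 3; 3, 4], by decide +kernel⟩

/-- An element of order three. -/
def t53 : SL5 := ⟨!![3, 4; 3, 1], by decide +kernel⟩

theorem five_four_three : t51 ^ 3 = 1 ∧ t52 ^ 3 = 1 ∧ t53 ^ 3 = 1 ∧ t51 * t52 * t53 = five5 ∧
    (∃ a b : SL5, a ^ 3 = 1 ∧ b ^ 3 = 1 ∧ a * b = four5) := by decide +kernel

/-- `SL₂(5)` is generated by its elements of order three. -/
theorem SL5_mem_of_three (K : Subgroup SL5) (h : ∀ a : SL5, a ^ 3 = 1 → a ∈ K) (σ : SL5) : σ ∈ K := by
  obtain ⟨h1, h2, h3, hab, ⟨c, d, hc, hd, hcd⟩⟩ := five_four_three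
  have h5 : five5 ∈ K := hab ▸ mul_mem (mul_mem (h _ h1) (h _ h2)) (h _ h3)
  have h4 : four5 ∈ K := hcd ▸ mul_mem (h c hc) (h d hd)
  obtain ⟨i, j, k, l, rfl⟩ := gen_word σ
  repeat' apply mul_mem
  all_goals first
    | exact pow_mem h5 _
    | exact h4

/-- An element of `SL₂(5)` commuting with everything is `±1`. -/
theorem SL5_central : ∀ σ : SL5, (∀ τ, σ * τ = τ * σ) → σ = 1 ∨ σ = neg5 := fun σ h =>
  four5_facts.2.2 σ (h five5) (h four5)

theorem card_le_two {X : Type*} [Group X] [Finite X] (C : Subgroup X) (a b : X) (h : ∀ x ∈ C, x = a ∨ x = b) :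
    Nat.card ↥C ≤ 2 := by
  classical
  have h1 : (C : Set X) ⊆ {a, b} := fun x hx => h x hx
  calc Nat.card ↥C = (C : Set X).ncard := Nat.card_coe_set_eq _
    _ ≤ ({a, b} : Set X).ncard := Set.ncard_le_ncard h1 (Set.toFinite _)
    _ ≤ 2 := (Set.ncard_insert_le _ _).trans (by simp)

/-- A group with generalized Fitting subgroup `SL₂(5)`: the 3-elements lie in it. -/
theorem three_mem_fstar {X : Type u} [Group X] [Finite X]
    (e : ↥(generalizedFittingSubgroup X) ≃* SL5) {x : X} {k : ℕ} (hx : orderOf x = 3 ^ k) :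
    x ∈ generalizedFittingSubgroup X := by
  set L := generalizedFittingSubgroup X with hL
  haveI : L.Normal := by
    haveI : L.Characteristic := Components.Fitting.genFitting_characteristic
    infer_instance
  set φ : X →* MulAut SL5 := (MulAut.congr e).toMonoidHom.comp MulAut.conjNormal
  have hker : ∀ g : X, φ g = 1 ↔ g ∈ centralizer (L : Set X) := by
    intro g
    show (MulAut.congr e) (MulAut.conjNormal g) = 1 ↔ _
    rw [MulEquiv.map_eq_one_iff, mem_centralizer_iff]
    constructor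
    · intro h y hy
      have h' : g * y * g⁻¹ = y := congrArg Subtype.val (DFunLike.congr_fun h (⟨y, hy⟩ : ↥L))
      exact (mul_inv_eq_iff_eq_mul.1 h').symm
    · intro h
      refine MulEquiv.ext fun y => Subtype.ext ?_
      show g * (y : X) * g⁻¹ = y
      rw [← h y y.2, mul_inv_cancel_right]
  have hkL : φ.ker ≤ L := fun g hg => Components.Fitting.centralizer_genFitting_le ((hker g).1 hg)
  have hk2 : Nat.card ↥φ.ker ≤ 2 := by
    refine card_le_two _ ((e.symm 1 : ↥L) : X) ((e.symm neg5 : ↥L) : X) fun g hg => ?_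
    set y : ↥L := ⟨g, hkL hg⟩
    have hy : ∀ τ : SL5, e y * τ = τ * e y := fun τ => by
      obtain ⟨w, rfl⟩ := e.surjective τ
      rw [← map_mul, ← map_mul]
      exact congrArg e (Subtype.ext (mem_centralizer_iff.1 ((hker g).1 hg) w w.2).symm)
    rcases SL5_central _ hy with h | h
    · exact Or.inl (congrArg Subtype.val (show y = e.symm 1 by rw [← h, MulEquiv.symm_apply_apply]))
    · exact Or.inr (congrArg Subtype.val (show y = e.symm neg5 by rw [← h, MulEquiv.symm_apply_apply]))
  have hrange : Nat.card ↥φ.range ∣ 120 := by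
    have h := Subgroup.card_dvd_of_injective (toPerm5.comp φ.range.subtype)
      (toPerm5_injective.comp φ.range.subtype_injective)
    rwa [Nat.card_perm, Nat.card_fin] at h
  have hindex : L.index ∣ 2 := by
    have h1 := φ.ker.card_mul_index
    rw [index_ker] at h1
    have h2 := L.card_mul_index
    rw [Nat.card_congr e.toEquiv, card_SL5, ← h1] at h2
    have h0 : 0 < Nat.card ↥φ.ker := Nat.card_pos
    refine Nat.dvd_of_mul_dvd_mul_left (by norm_num : 0 < 120) ?_
    rw [h2, mul_comm 120 2]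
    exact Nat.mul_dvd_mul (by rcases (show Nat.card ↥φ.ker = 1 ∨ Nat.card ↥φ.ker = 2 by omega) with h | h <;> rw [h] <;> norm_num) hrange
  set q := QuotientGroup.mk' L
  have hq : q x = 1 := by
    refine orderOf_eq_one_iff.1 (Nat.eq_one_of_dvd_coprimes (k := orderOf (q x))
      ((by norm_num : Nat.Coprime 3 2).pow_left k) ?_ ?_)
    · exact hx ▸ orderOf_map_dvd q x
    · exact (_root_.orderOf_dvd_natCard _).trans (L.index_eq_card ▸ hindex)
  exact (QuotientGroup.eq_one_iff x).1 hq

/-- Being extraspecial passes along isomorphisms. -/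
theorem extraspecial_congr {A B : Type u} [Group A] [Group B] (h : Cfsg.IsExtraspecial 3 A) (e : A ≃* B) :
    Cfsg.IsExtraspecial 3 B := by
  have hec : (center A).map e.toMonoidHom = center B := by
    ext y
    rw [mem_map_equiv, mem_center_iff, mem_center_iff]
    constructor
    · intro hy u
      simpa using congrArg e (hy (e.symm u))
    · intro hy u
      simpa using congrArg e.symm (hy (e u))
  have hfr : (frattini A).map e.toMonoidHom = frattini B := e.mapSubgroup.map_radical
  refine ⟨⟨h.1.1.of_equiv e, ?_, ?_⟩, ?_⟩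
  · rw [← hfr, h.1.2.1, hec]
  · rw [← hec, ← h.1.2.2, _root_.commutator_def, _root_.commutator_def, map_commutator,
      map_top_of_surjective e.toMonoidHom e.surjective]
  · rw [← hec, card_map_of_injective e.injective, h.2]

variable {G : Type u} [Group G] [Finite G]

/-- Elements of 3-power order normalizing a subgroup of order three centralize it. -/
theorem three_mem_cent {Z : Subgroup G} (hZ : Nat.card ↥Z = 3) {g : G} (hg : g ∈ normalizer (Z : Set G))
    {k : ℕ} (hk : orderOf g = 3 ^ k) : g ∈ centralizer (Z : Set G) := by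
  haveI : Fact (Nat.Prime 3) := ⟨Nat.prime_three⟩
  refine mem_centralizer_iff.2 fun z hz => ?_
  haveI : IsCyclic ↥Z := isCyclic_of_prime_card hZ
  set φ : ↥(normalizer (Z : Set G)) →* MulAut ↥Z := normalizerMonoidHom Z
  have h1 : φ ⟨g, hg⟩ = 1 := by
    refine orderOf_eq_one_iff.1 (Nat.eq_one_of_dvd_coprimes (k := orderOf (φ ⟨g, hg⟩))
      ((by norm_num : Nat.Coprime 3 2).pow_left k) ?_ ?_)
    · exact (orderOf_map_dvd φ _).trans (by rw [orderOf_mk, hk])
    · have hc : Nat.card (MulAut ↥Z) = 2 := by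
        rw [IsCyclic.card_mulAut, hZ, Nat.totient_prime Nat.prime_three]
      exact hc ▸ _root_.orderOf_dvd_natCard _
  have h2 : g * z * g⁻¹ = z := congrArg (fun f : MulAut ↥Z => ((f ⟨z, hz⟩ : ↥Z) : G)) h1
  exact (mul_inv_eq_iff_eq_mul.1 h2).symm

/-- The data of the characterization from the centralizer of a subgroup of order three. -/
theorem hyp_of_local (Z : Subgroup G) (hZ : Nat.card ↥Z = 3) (S : Sylow 3 ↥(centralizer (Z : Set G)))
    (J : Subgroup G) (hJS : J ≤ (S : Subgroup ↥(centralizer (Z : Set G))).map (centralizer (Z : Set G)).subtype)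
    (hJ : IsElementaryAbelian 3 J) (hJcard : Nat.card ↥J = 3 ^ 4)
    (hQ : IsExtraspecial 3 ↥(generalizedFittingSubgroup ↥(centralizer (Z : Set G))))
    (hQcard : Nat.card ↥(generalizedFittingSubgroup ↥(centralizer (Z : Set G))) = 3 ^ 5)
    [(generalizedFittingSubgroup ↥(centralizer (Z : Set G))).Normal]
    (hexp : ∀ x ∈ generalizedFittingSubgroup ↥(centralizer (Z : Set G)), x ^ 3 = 1)
    (hFMQ : Nonempty (↥(generalizedFittingSubgroup (↥(centralizer (Z : Set G)) ⧸
      generalizedFittingSubgroup ↥(centralizer (Z : Set G)))) ≃* SL5))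
    [(J.subgroupOf (normalizer (J : Set G))).Normal]
    (hA6 : Nonempty (↥(Subgroup.closure {x : ↥(normalizer (J : Set G)) ⧸ J.subgroupOf (normalizer (J : Set G)) |
      ∃ k : ℕ, orderOf x = 3 ^ k}) ≃* ↥(alternatingGroup (Fin 6)))) :
    ∃ (Sg : Sylow 3 G) (M₀ L₀ Q : Subgroup G), Hyp Sg Z J M₀ L₀ Q := by
  classical
  haveI : Fact (Nat.Prime 3) := ⟨Nat.prime_three⟩
  haveI : IsMulCommutative ↥Z := by
    haveI : IsCyclic ↥Z := isCyclic_of_prime_card hZ
    exact IsCyclic.isMulCommutative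
  obtain ⟨eL⟩ := hFMQ
  obtain ⟨eA⟩ := hA6
  set QM := generalizedFittingSubgroup ↥(centralizer (Z : Set G))
  set Q := QM.map (centralizer (Z : Set G)).subtype with hQdef
  set T := (S : Subgroup ↥(centralizer (Z : Set G))).map (centralizer (Z : Set G)).subtype
  have hQp : IsPGroup 3 ↥QM := hQ.1.1
  have hcore : Cfsg.pCore 3 ↥(centralizer (Z : Set G)) = QM :=
    le_antisymm ((Components.Fitting.pCore_le_fitting 3).trans Components.Fitting.fitting_le_genFitting)
      (PLocal.Cores.le_pCore hQp)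
  have hQS : QM ≤ (S : Subgroup ↥(centralizer (Z : Set G))) := hcore ▸ PLocal.Cores.pCore_le_sylow S
  have hQT : Q ≤ T := Subgroup.map_mono hQS
  have hZC : Z ≤ centralizer (Z : Set G) := le_centralizer Z
  have hZQ : Z ≤ Q := by
    haveI : (Z.subgroupOf (centralizer (Z : Set G))).Normal := normal_subgroupOf_of_le_normalizer (centralizer_le_normalizer _)
    have hp : IsPGroup 3 ↥(Z.subgroupOf (centralizer (Z : Set G))) :=
      IsPGroup.of_card (n := 1) (by rw [Nat.card_congr (subgroupOfEquivOfLe hZC).toEquiv, hZ, pow_one])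
    have h : Z.subgroupOf (centralizer (Z : Set G)) ≤ QM := hcore ▸ PLocal.Cores.le_pCore hp
    exact (Subgroup.map_subgroupOf_eq_of_le hZC).ge.trans (Subgroup.map_mono h)
  have hQcent : ∀ g ∈ centralizer (Q : Set G), g ∈ (center ↥QM).map ((centralizer (Z : Set G)).subtype.comp QM.subtype) := by
    intro g hg
    have hgM : g ∈ centralizer (Z : Set G) := centralizer_le (by exact hZQ) hg
    have hgc : (⟨g, hgM⟩ : ↥(centralizer (Z : Set G))) ∈ centralizer (QM : Set ↥(centralizer (Z : Set G))) :=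
      mem_centralizer_iff.2 fun q hq => Subtype.ext (mem_centralizer_iff.1 hg q ⟨q, hq, rfl⟩)
    exact ⟨⟨_, Components.Fitting.centralizer_genFitting_le hgc⟩,
      mem_center_iff.2 fun q => Subtype.ext (mem_centralizer_iff.1 hgc q q.2), rfl⟩
  have hZc : (center ↥QM).map ((centralizer (Z : Set G)).subtype.comp QM.subtype) = Z := by
    refine (eq_of_le_of_card_ge (fun z hz => ?_) ?_).symm
    · obtain ⟨w, hw, rfl⟩ := hZQ hz
      exact ⟨⟨w, hw⟩, mem_center_iff.2 fun q => Subtype.ext (Subtype.ext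
        (mem_centralizer_iff.1 (q : ↥(centralizer (Z : Set G))).2 _ hz).symm), rfl⟩
    · rw [hZ]
      exact ((Subgroup.card_map_of_injective (f := (centralizer (Z : Set G)).subtype.comp QM.subtype)
        (Subtype.val_injective.comp Subtype.val_injective)).trans hQ.2).le
  have hTC : T ≤ centralizer (Z : Set G) := map_subtype_le _
  have hTeq : T ⊓ centralizer (T : Set G) = Z := by
    refine le_antisymm (fun g hg => hZc ▸ hQcent g (centralizer_le (by exact hQT) hg.2)) fun z hz => ?_
    exact ⟨hQT (hZQ hz), mem_centralizer_iff.2 fun g hg => (mem_centralizer_iff.1 (hTC hg) z hz).symm⟩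
  have hTp : IsPGroup 3 ↥T := S.2.map _
  -- `T` is a Sylow subgroup of `G`
  obtain ⟨Sg, hSg⟩ := hTp.exists_le_sylow
  have hSgT : (Sg : Subgroup G) = T := by
    refine le_antisymm ?_ hSg
    by_contra hne
    have hlt : T.subgroupOf (Sg : Subgroup G) < ⊤ := lt_top_iff_ne_top.2 fun h => hne (subgroupOf_eq_top.1 h)
    haveI : Group.IsNilpotent ↥(Sg : Subgroup G) := Sg.2.isNilpotent
    obtain ⟨p, hpn, hpT⟩ := SetLike.exists_of_lt
      (Group.normalizerCondition_of_isNilpotent (T.subgroupOf (Sg : Subgroup G)) hlt)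
    have hmem : ∀ x, x ∈ T → (p : G) * x * (p : G)⁻¹ ∈ T := fun x hx =>
      mem_subgroupOf.1 ((mem_normalizer_iff.1 hpn ⟨x, hSg hx⟩).1 (mem_subgroupOf.2 hx))
    have hmem' : ∀ x, x ∈ T → (p : G)⁻¹ * x * (p : G) ∈ T := fun x hx =>
      mem_subgroupOf.1 ((mem_normalizer_iff''.1 hpn ⟨x, hSg hx⟩).1 (mem_subgroupOf.2 hx))
    have hpN : (p : G) ∈ normalizer (Z : Set G) := Subgroup.mem_normalizer_fintype fun z hz => by
      rw [SetLike.mem_coe, ← hTeq] at hz ⊢
      refine ⟨hmem z hz.1, mem_centralizer_iff.2 fun y hy => ?_⟩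
      have h := mem_centralizer_iff.1 hz.2 _ (hmem' y hy)
      calc y * ((p : G) * z * (p : G)⁻¹) = (p : G) * ((p : G)⁻¹ * y * p * z) * (p : G)⁻¹ := by group
        _ = (p : G) * (z * ((p : G)⁻¹ * y * p)) * (p : G)⁻¹ := by rw [h]
        _ = _ := by group
    obtain ⟨k, hk⟩ := IsPGroup.iff_orderOf.1 Sg.2 p
    have hpC := three_mem_cent hZ hpN (k := k) (by rw [Subgroup.orderOf_coe, hk])
    set U := T ⊔ zpowers (p : G)
    have hUS : U ≤ (Sg : Subgroup G) := sup_le hSg (zpowers_le.2 p.2)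
    have hUC : U ≤ centralizer (Z : Set G) := sup_le hTC (zpowers_le.2 hpC)
    have hUp : IsPGroup 3 ↥(U.subgroupOf (centralizer (Z : Set G))) :=
      (Sg.2.to_le hUS).of_equiv (subgroupOfEquivOfLe hUC).symm
    have hSU : (S : Subgroup ↥(centralizer (Z : Set G))) ≤ U.subgroupOf (centralizer (Z : Set G)) :=
      fun x hx => mem_subgroupOf.2 (mem_sup_left ⟨x, hx, rfl⟩)
    have hUS' := S.3 hUp hSU
    exact hpT (mem_subgroupOf.2 ⟨⟨p, hpC⟩, hUS'.le (mem_subgroupOf.2 (mem_sup_right (mem_zpowers _))), rfl⟩)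
  -- `L₀`
  set L₀ := Subgroup.closure {g : G | g ∈ normalizer (Z : Set G) ∧ ∃ k : ℕ, orderOf g = 3 ^ k} with hL₀
  have hLC : L₀ ≤ centralizer (Z : Set G) := by
    rw [hL₀, Subgroup.closure_le]
    rintro g ⟨hg, k, hk⟩
    exact three_mem_cent hZ hg hk
  have hQexp : ∀ a ∈ Q, a ^ 3 = 1 := by
    rintro _ ⟨x, hx, rfl⟩
    exact congrArg Subtype.val (hexp x hx)
  have hdvd : ∀ (g : G) (n : ℕ), g ^ 3 ^ n = 1 → ∃ k : ℕ, orderOf g = 3 ^ k := fun g n h => by
    obtain ⟨k, -, hk⟩ := (Nat.dvd_prime_pow Nat.prime_three).1 (orderOf_dvd_of_pow_eq_one h)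
    exact ⟨k, hk⟩
  have hQL : Q ≤ L₀ := fun g hg => Subgroup.subset_closure
    ⟨centralizer_le_normalizer _ (map_subtype_le _ hg), hdvd g 1 (by rw [pow_one]; exact hQexp g hg)⟩
  set qM := QuotientGroup.mk' QM
  set ψ : ↥L₀ →* ↥(centralizer (Z : Set G)) ⧸ QM := qM.comp (Subgroup.inclusion hLC)
  have hψr : ψ.range = generalizedFittingSubgroup (↥(centralizer (Z : Set G)) ⧸ QM) := by
    refine le_antisymm ?_ fun x hx => ?_
    · rw [MonoidHom.range_comp, Subgroup.inclusion_range, map_le_iff_le_comap]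
      intro m hm
      have hle : L₀ ≤ ((generalizedFittingSubgroup (↥(centralizer (Z : Set G)) ⧸ QM)).comap qM).map
          (centralizer (Z : Set G)).subtype := by
        rw [hL₀, Subgroup.closure_le]
        rintro g ⟨hg, k, hk⟩
        refine ⟨⟨g, three_mem_cent hZ hg hk⟩, ?_, rfl⟩
        obtain ⟨j, -, hj⟩ := (Nat.dvd_prime_pow Nat.prime_three).1
          ((orderOf_map_dvd qM ⟨g, three_mem_cent hZ hg hk⟩).trans (by rw [orderOf_mk, hk]))
        exact three_mem_fstar eL hj
      obtain ⟨m', hm', hme⟩ := hle (mem_subgroupOf.1 hm)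
      rwa [show m = m' from Subtype.ext hme.symm]
    · suffices h : ∀ σ : SL5, ((eL.symm σ : ↥(generalizedFittingSubgroup (↥(centralizer (Z : Set G)) ⧸ QM))) :
          ↥(centralizer (Z : Set G)) ⧸ QM) ∈ ψ.range by
        have := h (eL ⟨x, hx⟩)
        rwa [MulEquiv.symm_apply_apply] at this
      refine fun σ => SL5_mem_of_three (ψ.range.comap
        ((generalizedFittingSubgroup (↥(centralizer (Z : Set G)) ⧸ QM)).subtype.comp eL.symm.toMonoidHom)) ?_ σ
      intro a ha
      obtain ⟨m, hm⟩ := QuotientGroup.mk'_surjective QM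
        ((eL.symm a : ↥(generalizedFittingSubgroup (↥(centralizer (Z : Set G)) ⧸ QM))) : ↥(centralizer (Z : Set G)) ⧸ QM)
      have h3 : m ^ 3 ∈ QM := by
        rw [← QuotientGroup.eq_one_iff, ← QuotientGroup.mk'_apply, map_pow, hm, ← Subgroup.coe_pow, ← map_pow, ha,
          map_one, Subgroup.coe_one]
      have h9 : (m : G) ^ 3 ^ 2 = 1 := by
        rw [show (3 : ℕ) ^ 2 = 3 * 3 by norm_num, pow_mul]
        exact congrArg Subtype.val (hexp _ h3)
      exact ⟨⟨m, Subgroup.subset_closure ⟨centralizer_le_normalizer _ m.2, hdvd _ 2 h9⟩⟩, hm⟩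
  have hquotL : ∃ π : ↥L₀ →* SL5, Function.Surjective π ∧ ∀ g : ↥L₀, π g = 1 ↔ (g : G) ∈ Q := by
    refine ⟨(eL.toMonoidHom.comp (MulEquiv.subgroupCongr hψr).toMonoidHom).comp ψ.rangeRestrict,
      (eL.surjective.comp (MulEquiv.subgroupCongr hψr).surjective).comp ψ.rangeRestrict_surjective, fun g => ?_⟩
    rw [MonoidHom.comp_apply, MonoidHom.comp_apply, MulEquiv.coe_toMonoidHom, MulEquiv.coe_toMonoidHom,
      MulEquiv.map_eq_one_iff, MulEquiv.map_eq_one_iff, ← OneMemClass.coe_eq_one]
    show qM (Subgroup.inclusion hLC g) = 1 ↔ _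
    rw [QuotientGroup.mk'_apply, QuotientGroup.eq_one_iff]
    exact ⟨fun h => ⟨_, h, rfl⟩, fun ⟨x, hx, hxe⟩ => by
      rwa [show x = Subgroup.inclusion hLC g from Subtype.ext hxe] at hx⟩
  -- `M₀`
  set M₀ := Subgroup.closure {g : G | g ∈ normalizer (J : Set G) ∧ ∃ k : ℕ, orderOf g = 3 ^ k} with hM₀
  have hMN : M₀ ≤ normalizer (J : Set G) := by
    rw [hM₀, Subgroup.closure_le]; exact fun g hg => hg.1
  set qJ := QuotientGroup.mk' (J.subgroupOf (normalizer (J : Set G)))
  set χ : ↥M₀ →* ↥(normalizer (J : Set G)) ⧸ J.subgroupOf (normalizer (J : Set G)) :=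
    qJ.comp (Subgroup.inclusion hMN)
  have hχr : χ.range = Subgroup.closure {x : ↥(normalizer (J : Set G)) ⧸ J.subgroupOf (normalizer (J : Set G)) |
      ∃ k : ℕ, orderOf x = 3 ^ k} := by
    refine le_antisymm ?_ ((Subgroup.closure_le _).2 ?_)
    · rw [MonoidHom.range_comp, Subgroup.inclusion_range, map_le_iff_le_comap]
      intro m hm
      have hle : M₀ ≤ ((Subgroup.closure {x : ↥(normalizer (J : Set G)) ⧸ J.subgroupOf (normalizer (J : Set G)) |
          ∃ k : ℕ, orderOf x = 3 ^ k}).comap qJ).map (normalizer (J : Set G)).subtype := by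
        rw [hM₀, Subgroup.closure_le]
        rintro g ⟨hg, k, hk⟩
        refine ⟨⟨g, hg⟩, Subgroup.subset_closure ?_, rfl⟩
        obtain ⟨j, -, hj⟩ := (Nat.dvd_prime_pow Nat.prime_three).1
          ((orderOf_map_dvd qJ ⟨g, hg⟩).trans (by rw [orderOf_mk, hk]))
        exact ⟨j, hj⟩
      obtain ⟨m', hm', hme⟩ := hle (mem_subgroupOf.1 hm)
      rwa [show m = m' from Subtype.ext hme.symm]
    · rintro x ⟨k, hk⟩
      obtain ⟨n, hn⟩ := QuotientGroup.mk'_surjective (J.subgroupOf (normalizer (J : Set G))) x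
      have h1 : n ^ 3 ^ k ∈ J.subgroupOf (normalizer (J : Set G)) := by
        rw [← QuotientGroup.eq_one_iff, ← QuotientGroup.mk'_apply, map_pow, hn, ← hk, pow_orderOf_eq_one]
      have h9 : (n : G) ^ 3 ^ (k + 1) = 1 := by
        rw [pow_succ 3 k, pow_mul]
        exact hJ.2 _ (mem_subgroupOf.1 h1)
      exact ⟨⟨n, Subgroup.subset_closure ⟨n.2, hdvd _ _ h9⟩⟩, hn⟩
  have hquotM : ∃ π : ↥M₀ →* alternatingGroup (Fin 6), Function.Surjective π ∧ ∀ g : ↥M₀, π g = 1 ↔ (g : G) ∈ J := by
    refine ⟨(eA.toMonoidHom.comp (MulEquiv.subgroupCongr hχr).toMonoidHom).comp χ.rangeRestrict,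
      (eA.surjective.comp (MulEquiv.subgroupCongr hχr).surjective).comp χ.rangeRestrict_surjective, fun g => ?_⟩
    rw [MonoidHom.comp_apply, MonoidHom.comp_apply, MulEquiv.coe_toMonoidHom, MulEquiv.coe_toMonoidHom,
      MulEquiv.map_eq_one_iff, MulEquiv.map_eq_one_iff, ← OneMemClass.coe_eq_one]
    show qJ (Subgroup.inclusion hMN g) = 1 ↔ _
    rw [QuotientGroup.mk'_apply, QuotientGroup.eq_one_iff, mem_subgroupOf]
    rfl
  -- `Q` is the 3-core of `N(Z)`
  have hQN : normalizer (Z : Set G) ≤ normalizer (Q : Set G) := by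
    intro g hg
    have hgC : ∀ d ∈ centralizer (Z : Set G), g * d * g⁻¹ ∈ centralizer (Z : Set G) := fun d hd =>
      mem_centralizer_iff.2 fun z hz => by
        have h := mem_centralizer_iff.1 hd _ ((mem_normalizer_iff''.1 hg z).1 hz)
        calc z * (g * d * g⁻¹) = g * (g⁻¹ * z * g * d) * g⁻¹ := by group
          _ = g * (d * (g⁻¹ * z * g)) * g⁻¹ := by rw [h]
          _ = _ := by group
    have hgC' : ∀ d ∈ centralizer (Z : Set G), g⁻¹ * d * g ∈ centralizer (Z : Set G) := fun d hd =>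
      mem_centralizer_iff.2 fun z hz => by
        have h := mem_centralizer_iff.1 hd _ ((mem_normalizer_iff.1 hg z).1 hz)
        calc z * (g⁻¹ * d * g) = g⁻¹ * (g * z * g⁻¹ * d) * g := by group
          _ = g⁻¹ * (d * (g * z * g⁻¹)) * g := by rw [h]
          _ = _ := by group
    let α : ↥(centralizer (Z : Set G)) ≃* ↥(centralizer (Z : Set G)) :=
      { toFun := fun d => ⟨g * d * g⁻¹, hgC d d.2⟩
        invFun := fun d => ⟨g⁻¹ * d * g, hgC' d d.2⟩
        left_inv := fun d => Subtype.ext (by show g⁻¹ * (g * d * g⁻¹) * g = d; group)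
        right_inv := fun d => Subtype.ext (by show g * (g⁻¹ * d * g) * g⁻¹ = d; group)
        map_mul' := fun a b => Subtype.ext (by
          show g * ((a : G) * b) * g⁻¹ = g * a * g⁻¹ * (g * b * g⁻¹)
          group) }
    refine Subgroup.mem_normalizer_fintype fun x hx => ?_
    obtain ⟨w, hw, rfl⟩ := hx
    haveI : QM.Characteristic := Components.Fitting.genFitting_characteristic
    exact ⟨α w, Subgroup.characteristic_iff_le_comap.1 inferInstance α hw, rfl⟩
  have hQeq : Q = (Cfsg.pCore 3 (normalizer (Z : Set G))).map (normalizer (Z : Set G)).subtype := by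
    have hQle : Q ≤ normalizer (Z : Set G) := (map_subtype_le _).trans (centralizer_le_normalizer _)
    refine le_antisymm ?_ ?_
    · haveI : (Q.subgroupOf (normalizer (Z : Set G))).Normal := normal_subgroupOf_of_le_normalizer hQN
      have h := PLocal.Cores.le_pCore (N := Q.subgroupOf (normalizer (Z : Set G)))
        ((hQp.map _).comap_of_injective _ (normalizer (Z : Set G)).subtype_injective)
      exact (Subgroup.map_subgroupOf_eq_of_le hQle).ge.trans (Subgroup.map_mono h)
    · set P := (Cfsg.pCore 3 (normalizer (Z : Set G))).map (normalizer (Z : Set G)).subtype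
      have hPp : IsPGroup 3 ↥P := PLocal.Cores.isPGroup_pCore.map _
      have hPC : P ≤ centralizer (Z : Set G) := fun x hx => by
        obtain ⟨k, hk⟩ := IsPGroup.iff_orderOf.1 hPp ⟨x, hx⟩
        exact three_mem_cent hZ (map_subtype_le _ hx) (k := k) (by rw [← hk, orderOf_mk])
      haveI : (P.subgroupOf (centralizer (Z : Set G))).Normal := by
        refine normal_subgroupOf_of_le_normalizer ((centralizer_le_normalizer _).trans fun c hc => ?_)
        refine Subgroup.mem_normalizer_fintype fun x hx => ?_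
        obtain ⟨w, hw, rfl⟩ := hx
        exact ⟨⟨c, hc⟩ * w * ⟨c, hc⟩⁻¹, (inferInstance : (Cfsg.pCore 3 _).Normal).conj_mem w hw _, rfl⟩
      have h : P.subgroupOf (centralizer (Z : Set G)) ≤ QM :=
        hcore ▸ PLocal.Cores.le_pCore (hPp.comap_of_injective _ (centralizer (Z : Set G)).subtype_injective)
      exact (Subgroup.map_subgroupOf_eq_of_le hPC).ge.trans (Subgroup.map_mono h)
  let eQ : ↥QM ≃* ↥Q := QM.equivMapOfInjective _ (centralizer (Z : Set G)).subtype_injective
  refine ⟨Sg, M₀, L₀, Q, ?_⟩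
  exact
    { Z_eq := by rw [hSgT, hTeq]
      J_le := hJS.trans hSgT.ge
      J_comm := fun a ha b hb => congrArg Subtype.val (hJ.1.is_comm.comm (⟨a, ha⟩ : ↥J) ⟨b, hb⟩)
      J_exp := hJ.2
      J_card := by rw [hJcard]; norm_num
      M_eq := hM₀
      quotM := hquotM
      L_eq := hL₀
      Q_eq := hQeq
      Q_ex := extraspecial_congr hQ eQ
      Q_card := by rw [← Nat.card_congr eQ.toEquiv, hQcard]; norm_num
      Q_exp := hQexp
      Q_L := hQL
      quotL := hquotL
      weak := by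
        rw [hcore, ← hQdef]
        exact fun g hg => hZQ (hZc.le (hQcent g hg)) }

end Cfsg.Agent.McLThree
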