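import Cfsg.Agent.Lib.McLThree.Assemble
import Cfsg.Agent.Lib.McLThree.Local
import Cfsg.Agent.Lib.McLThree.LargeTransfer
import Cfsg.Agent.Lib.McLThree.FStar

/-!
# The characterization, given the facts at `J`
-/

set_option autoImplicit false
set_option linter.unusedSectionVars false

namespace Cfsg.Agent.McLThree

open Subgroup Cfsg

universe u

/-- The conclusion from the data, given the side at `J`. -/
theorem conclusion_of_side {G : Type u} [Group G] [Finite G] {S : Sylow 3 G} {Z J M₀ L₀ Q : Subgroup G}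
    (H : Hyp S Z J M₀ L₀ Q)
    (hside : ∀ (π : ↥L₀ →* SL5) (t f : G), Frame Q L₀ π t f → ∃ s z z', JSide Z J L₀ t s z z') :
    Nonempty (G ≃* ↥Spor.McL) ∨ Nonempty (G ≃* MulAut ↥Spor.McL) := by
  obtain ⟨π, t, f, F⟩ := H.exists_frame
  obtain ⟨s, z, z', K⟩ := hside π t f F
  exact H.conclusion F K

end Cfsg.Agent.McLThree
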