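import Cfsg.Agent.Lib.McLThree.Side

/-!
# The normalizer of `Z` in `C(t)`

The elements inverting one of the two points, and the subgroup `B` generated by the elements of order prime
to three, of index three in `C(Z) ∩ C(t)` and avoiding `Z`.
-/

set_option autoImplicit false
set_option linter.unusedSectionVars false
set_option linter.style.haveILetI false

namespace Cfsg.Agent.McLThree

open Subgroup
open scoped Pointwise

universe u

theorem inv_three : ∀ σ : SL5, σ ^ 3 = 1 → σ ≠ 1 → ∃ τ : SL5, τ * σ * τ⁻¹ = σ⁻¹ ∧ τ * τ = neg5 := by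
  decide +kernel

theorem cent_three : ∀ σ : SL5, σ ^ 3 = 1 → σ ≠ 1 → ∀ τ : SL5, (τ * σ = σ * τ ∨ τ * σ = neg5 * (σ * τ)) →
    ∃ i : Fin 3, τ = σ ^ (i : ℕ) ∨ τ = neg5 * σ ^ (i : ℕ) := by
  decide +kernel

variable {G : Type u} [Group G] [Finite G] {S : Sylow 3 G} {Z J M₀ L₀ Q : Subgroup G}
  (H : Hyp S Z J M₀ L₀ Q) {π : ↥L₀ →* SL5} {t f : G} (F : Frame Q L₀ π t f)
  {s z z' : G} (K : JSide Z J L₀ t s z z')
include H F K

theorem Hyp.tt : t * t = 1 := by rw [← pow_two, ← F.t_two, pow_orderOf_eq_one]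

theorem Hyp.z'_not_Q : z' ∉ Q := fun h => K.z'_not (H.Ej_inf_Q F K.z'_mem h)

theorem Hyp.z'_L : z' ∈ L₀ := H.S_le_L (H.J_le K.z'_mem.1)

/-- An element of `L₀` fixing `z` and inverting `z'`. -/
theorem Hyp.exists_c : ∃ c : G, c ∈ L₀ ∧ Commute c t ∧ c * c = t ∧ c ∈ NE J t ∧
    c * z * c⁻¹ = z ∧ c * z' * c⁻¹ = z'⁻¹ := by
  set σ := π ⟨z', H.z'_L F K⟩ with hσ
  have hσ3 : σ ^ 3 = 1 := by
    rw [hσ, ← map_pow, show (⟨z', H.z'_L F K⟩ : ↥L₀) ^ 3 = 1 from Subtype.ext (H.z'_cube F K), map_one]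
  obtain ⟨τ, hτ, hττ⟩ := inv_three σ hσ3 fun h => H.z'_not_Q F K ((F.ker _).1 h)
  obtain ⟨c0, hc0, hc0t⟩ := F.lift τ
  have hti : t⁻¹ = t := inv_eq_of_mul_eq_one_right (H.tt F K)
  set w : G := (c0 : G) * c0 * t with hw
  have hwZ : w ∈ Z := by
    refine H.eq_Z_of_t F ?_ ((hc0t.mul_left hc0t).mul_left (Commute.refl t)).symm
    have : w = ((c0 * c0 * ⟨t, F.t_mem⟩ : ↥L₀) : G) := rfl
    rw [this, ← F.ker, map_mul, map_mul, hc0, hττ, F.t_val, neg5_facts.1]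
  set c : G := (c0 : G) * w with hc
  have hcw : Commute (c0 : G) w := (mem_centralizer_iff.1 (H.L_le_cent c0.2) w hwZ).symm
  have hwt : Commute w t := mem_centralizer_singleton_iff.1 (H.Z_le_Ej F hwZ).2
  have hct : Commute c t := hc0t.mul_left hwt
  have hcc : c * c = t := by
    have hcc0 : (c0 : G) * c0 = w * t := by rw [hw, mul_assoc ((c0 : G) * c0), H.tt F K, mul_one]
    calc c * c = (c0 : G) * (w * c0) * w := by rw [hc]; group
      _ = (c0 : G) * c0 * (w * w) := by rw [← hcw.eq]; group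
      _ = w * t * (w * w) := by rw [hcc0]
      _ = w * w * w * t := by rw [mul_assoc w, ← ((hwt.mul_left hwt).eq)]; group
      _ = t := by rw [← pow_two, ← pow_succ, H.Q_exp w (H.Z_le_Q hwZ), one_mul]
  have hcL : c ∈ L₀ := mul_mem c0.2 (H.Q_L (H.Z_le_Q hwZ))
  have hcz : ∀ x ∈ Z, c * x * c⁻¹ = x := fun x hx => H.conj_Z (H.L_le_cent hcL) hx
  have hπc : π ⟨c, hcL⟩ = τ := by
    rw [show (⟨c, hcL⟩ : ↥L₀) = c0 * ⟨w, H.Q_L (H.Z_le_Q hwZ)⟩ from rfl, map_mul, hc0,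
      (F.ker _).2 (H.Z_le_Q hwZ), mul_one]
  set u := c * z' * c⁻¹ with hu
  have hut : Commute u t :=
    (hct.mul_left (mem_centralizer_singleton_iff.1 K.z'_mem.2)).mul_left hct.inv_left
  have huz : u * z' ∈ Z := by
    refine H.eq_Z_of_t F ?_ (hut.mul_left (mem_centralizer_singleton_iff.1 K.z'_mem.2)).symm
    have : u * z' = ((⟨c, hcL⟩ * ⟨z', H.z'_L F K⟩ * ⟨c, hcL⟩⁻¹ * ⟨z', H.z'_L F K⟩ : ↥L₀) : G) := rfl
    rw [this, ← F.ker, map_mul, map_mul, map_mul, map_inv, hπc, ← hσ, hτ, inv_mul_cancel]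
  have huE : u ∈ Ej J t := by
    have := mul_mem (H.Z_le_Ej F huz) (inv_mem K.z'_mem)
    rwa [mul_inv_cancel_right] at this
  have hcNE : c ∈ NE J t := by
    refine ⟨Subgroup.mem_normalizer_fintype fun x hx => ?_, mem_centralizer_singleton_iff.2 hct.eq⟩
    have hle : zpowers z' ≤ (Ej J t).comap (MulAut.conj c).toMonoidHom := zpowers_le.2 huE
    have hZle : Z ≤ (Ej J t).comap (MulAut.conj c).toMonoidHom := fun y hy => by
      show c * y * c⁻¹ ∈ Ej J t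
      rw [hcz y hy]; exact H.Z_le_Ej F hy
    show x ∈ (Ej J t).comap (MulAut.conj c).toMonoidHom
    rcases H.Ej_cases F K hx with h | h | h | h
    · exact hZle h
    · exact hle h
    · rcases h with rfl | rfl
      · exact mul_mem (hZle K.z_mem) (hle (mem_zpowers z'))
      · exact mul_mem (hZle K.z_mem) (hle (inv_mem (mem_zpowers z')))
    · rcases h with h | h <;> rw [← inv_inv x, h]
      · exact inv_mem (mul_mem (hZle K.z_mem) (hle (mem_zpowers z')))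
      · exact inv_mem
          (mul_mem (hZle K.z_mem) (hle (inv_mem (mem_zpowers z'))))
  refine ⟨c, hcL, hct, hcc, hcNE, hcz z K.z_mem, ?_⟩
  rcases H.point_image F K hcNE (Or.inr rfl) with h | h
  · exact absurd ((mul_mem_cancel_left h).1 huz) K.z'_not
  · obtain ⟨k, hk⟩ := mem_zpowers_iff.1 h
    rcases order_three (H.z'_cube F K) k with e | e | e <;> rw [e] at hk
    · rw [hu, ← hk, one_mul] at huz; exact absurd huz K.z'_not
    · refine absurd ?_ K.z'_not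
      rw [hu, ← hk] at huz
      have := inv_mem huz
      rwa [mul_inv_rev, show z'⁻¹ * z'⁻¹ = z' from by
        rw [← mul_inv_rev]; exact inv_eq_of_mul_eq_one_right (by rw [← pow_two, ← pow_succ, H.z'_cube F K])] at this
    · exact hk.symm

/-- An element inverting `z` and fixing `z'`, conjugate to one of `L₀`. -/
theorem Hyp.exists_b : ∃ b : G, s⁻¹ * b * s ∈ L₀ ∧ Commute b t ∧ b * b = t ∧ b ∈ NE J t ∧
    b * z * b⁻¹ = z⁻¹ ∧ b * z' * b⁻¹ = z' := by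
  obtain ⟨c, hcL, hct, hcc, hcN, hcz, hcz'⟩ := H.exists_c F K
  have hst : s * t * s⁻¹ = t := by rw [K.s_t.eq, mul_inv_cancel_right]
  refine ⟨s * c * s⁻¹, by rw [show s⁻¹ * (s * c * s⁻¹) * s = c by group]; exact hcL,
    (K.s_t.mul_left hct).mul_left K.s_t.inv_left, ?_,
    mul_mem (mul_mem (H.s_NE F K) hcN) (inv_mem (H.s_NE F K)), ?_, ?_⟩
  · rw [show s * c * s⁻¹ * (s * c * s⁻¹) = s * (c * c) * s⁻¹ by group, hcc, hst]
  · obtain ⟨i, hi⟩ : ∃ i : ℤ, z = s * z' ^ i * s⁻¹ := by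
      haveI : Fact (Nat.Prime 3) := ⟨Nat.prime_three⟩
      have hgen : zpowers (s * z' * s⁻¹) = Z := by
        refine eq_of_le_of_card_ge (zpowers_le.2 K.s_z') ?_
        rw [H.card_Z, Nat.card_zpowers, orderOf_eq_prime (p := 3) (x := s * z' * s⁻¹) (by rw [conj_pow, H.z'_cube F K, mul_one, mul_inv_cancel])
          fun h => K.z'_not (_root_.conj_eq_one_iff.1 h ▸ one_mem Z)]
      obtain ⟨i, hi⟩ := mem_zpowers_iff.1 (hgen.ge K.z_mem)
      exact ⟨i, by rw [← hi, conj_zpow]⟩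
    conv_lhs => rw [hi]
    conv_rhs => rw [hi]
    rw [show s * c * s⁻¹ * (s * z' ^ i * s⁻¹) * (s * c * s⁻¹)⁻¹ = s * (c * z' * c⁻¹) ^ i * s⁻¹ by
      rw [conj_zpow]; group, hcz']
    group
  · conv_lhs => rw [← K.s_z]
    rw [show s * c * s⁻¹ * (s * z * s⁻¹) * (s * c * s⁻¹)⁻¹ = s * (c * z * c⁻¹) * s⁻¹ by group, hcz, K.s_z]

/-- An element of `N(Z)` fixes or inverts `z`. -/
theorem Hyp.norm_Z_cases {g : G} (hg : g ∈ normalizer (Z : Set G)) :
    g * z * g⁻¹ = z ∨ g * z * g⁻¹ = z⁻¹ := by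
  have h := (mem_normalizer_iff.1 hg z).1 K.z_mem
  rw [← H.Z_eq_zpowers F K] at h
  obtain ⟨k, hk⟩ := mem_zpowers_iff.1 h
  rcases order_three (H.z_cube F K) k with e | e | e <;> rw [e] at hk
  · exact absurd (_root_.conj_eq_one_iff.1 hk.symm) (H.z_ne F K)
  · exact Or.inl hk.symm
  · exact Or.inr hk.symm

theorem Hyp.mem_cent_Z {g : G} (hg : g * z * g⁻¹ = z) : g ∈ centralizer (Z : Set G) := by
  rw [H.cent_Z_eq F K]
  exact mem_centralizer_singleton_iff.2 (mul_inv_eq_iff_eq_mul.1 hg)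

theorem Hyp.mem_norm_Z {g : G} (hg : g * z * g⁻¹ = z⁻¹) : g ∈ normalizer (Z : Set G) :=
  Subgroup.mem_normalizer_fintype fun x hx => by
    rw [SetLike.mem_coe, ← H.Z_eq_zpowers F K] at hx ⊢
    obtain ⟨k, rfl⟩ := mem_zpowers_iff.1 hx
    rw [← conj_zpow, hg]
    exact zpow_mem (inv_mem (mem_zpowers z)) k

/-- When only inner automorphisms are induced by `C(Z) ∩ C(t)`, an element inverting `z` induces an outer
one. -/
theorem Hyp.b_outer {b : G} (hbL : s⁻¹ * b * s ∈ L₀) (hbt : Commute b t) (hbb : b * b = t)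
    (hbN : b ∈ NE J t) (hbz : b * z * b⁻¹ = z⁻¹) (hbz' : b * z' * b⁻¹ = z') :
    H.act F ⟨b, H.mem_norm_Z F K hbz⟩ ∉ (MulAut.conj (G := SL5)).range := by
  rintro ⟨τ, hτ⟩
  obtain ⟨c, hcL, hct, hcc, hcN, hcz, hcz'⟩ := H.exists_c F K
  set bN : ↥(normalizer (Z : Set G)) := ⟨b, H.mem_norm_Z F K hbz⟩
  set σ := π ⟨z', H.z'_L F K⟩ with hσ
  have hfixσ : H.act F bN σ = σ := by
    rw [hσ, H.act_apply F]
    exact congrArg π (Subtype.ext hbz')
  rw [← hτ, MulAut.conj_apply, mul_inv_eq_iff_eq_mul] at hfixσ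
  have hσ3 : σ ^ 3 = 1 := by
    rw [hσ, ← map_pow, show (⟨z', H.z'_L F K⟩ : ↥L₀) ^ 3 = 1 from Subtype.ext (H.z'_cube F K), map_one]
  obtain ⟨i, hi⟩ := cent_three σ hσ3 (fun h => H.z'_not_Q F K ((F.ker _).1 h)) τ (Or.inl hfixσ)
  -- the automorphism is that of a power of `z'`
  have hzN : z' ^ (i : ℕ) ∈ normalizer (Z : Set G) := pow_mem (H.L_le (H.z'_L F K)) _
  have hact : H.act F bN = H.act F ⟨z' ^ (i : ℕ), hzN⟩ := by
    rw [H.act_of_mem F ⟨z' ^ (i : ℕ), hzN⟩ (pow_mem (H.z'_L F K) _),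
      show (⟨z' ^ (i : ℕ), pow_mem (H.z'_L F K) (i : ℕ)⟩ : ↥L₀) = ⟨z', H.z'_L F K⟩ ^ (i : ℕ) from rfl, map_pow,
      ← hσ, ← hτ]
    rcases hi with h | h
    · rw [h]
    · rw [h, map_mul, conj_eq_one_iff.2 (Or.inr rfl), one_mul]
  set b₂ : G := (z' ^ (i : ℕ))⁻¹ * b
  have hb2 : H.act F ⟨b₂, mul_mem (inv_mem hzN) (H.mem_norm_Z F K hbz)⟩ = 1 := by
    rw [show (⟨b₂, mul_mem (inv_mem hzN) (H.mem_norm_Z F K hbz)⟩ : ↥(normalizer (Z : Set G))) =
      ⟨z' ^ (i : ℕ), hzN⟩⁻¹ * bN from rfl, map_mul, map_inv, hact, inv_mul_cancel]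
  have hz't : Commute z' t := mem_centralizer_singleton_iff.1 K.z'_mem.2
  have hb2t : Commute b₂ t := ((hz't.pow_left _).inv_left).mul_left hbt
  have hcomm : Commute b z' := mul_inv_eq_iff_eq_mul.1 hbz'
  have hsq : b₂ * b₂ = (z' ^ (i : ℕ))⁻¹ * (z' ^ (i : ℕ))⁻¹ * t := by
    have h := ((hcomm.pow_right (i : ℕ)).inv_right).eq
    calc b₂ * b₂ = (z' ^ (i : ℕ))⁻¹ * (b * (z' ^ (i : ℕ))⁻¹) * b := by simp only [b₂]; group
      _ = (z' ^ (i : ℕ))⁻¹ * ((z' ^ (i : ℕ))⁻¹ * b) * b := by rw [h]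
      _ = _ := by rw [← hbb]; group
  have hb2z : b₂ * z * b₂⁻¹ = z⁻¹ := by
    rw [show b₂ * z * b₂⁻¹ = (z' ^ (i : ℕ))⁻¹ * (b * z * b⁻¹) * z' ^ (i : ℕ) by simp only [b₂]; group, hbz]
    have hc : Commute z z' := H.J_comm z (H.Z_le_J F K.z_mem) z' K.z'_mem.1
    rw [mul_assoc, ((hc.pow_right (i : ℕ)).inv_left).eq, inv_mul_cancel_left]
  -- its square lies in the kernel, so `i = 0`
  have hz'Z : z' ^ (i : ℕ) = 1 := by
    have hsqC : b₂ * b₂ ∈ centralizer (Z : Set G) := by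
      rw [hsq]
      exact mul_mem (mul_mem (inv_mem (pow_mem (H.L_le_cent (H.z'_L F K)) _))
        (inv_mem (pow_mem (H.L_le_cent (H.z'_L F K)) _))) (H.L_le_cent F.t_mem)
    have h1 : ∀ x ∈ L₀, b₂ * b₂ * x * (b₂ * b₂)⁻¹ * x⁻¹ ∈ Q := by
      refine (H.act_eq_one_iff F ⟨b₂ * b₂, mul_mem (mul_mem (inv_mem hzN) (H.mem_norm_Z F K hbz))
        (mul_mem (inv_mem hzN) (H.mem_norm_Z F K hbz))⟩).1 ?_
      rw [show (⟨b₂ * b₂, _⟩ : ↥(normalizer (Z : Set G))) = ⟨b₂, mul_mem (inv_mem hzN) (H.mem_norm_Z F K hbz)⟩ *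
        ⟨b₂, mul_mem (inv_mem hzN) (H.mem_norm_Z F K hbz)⟩ from rfl, map_mul, hb2, one_mul]
    have hw : (z' ^ (i : ℕ))⁻¹ * (z' ^ (i : ℕ))⁻¹ ∈ Z := by
      rcases H.kernel_eq F hsqC (hb2t.mul_left hb2t) h1 with h | h
      · exfalso
        rw [hsq] at h
        have hE := (mul_mem_cancel_left (mul_mem (inv_mem (pow_mem K.z'_mem (i : ℕ)))
          (inv_mem (pow_mem K.z'_mem (i : ℕ))))).1 (H.Z_le_Ej F h)
        exact H.t_not_Q F (H.Z_le_Q (by
          have hd := orderOf_dvd_natCard (Ej J t) hE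
          rw [F.t_two, H.card_Ej F] at hd
          norm_num at hd))
      · rwa [hsq, mul_assoc _ t t, H.tt F K, mul_one] at h
    have h4 := inv_mem (mul_mem hw hw)
    rw [← mul_inv_rev, ← mul_inv_rev, inv_inv] at h4
    have h5 : z' ^ (i : ℕ) ∈ Z := by
      have e : z' ^ (i : ℕ) * z' ^ (i : ℕ) * (z' ^ (i : ℕ) * z' ^ (i : ℕ)) = z' ^ (i : ℕ) := by
        rw [← pow_add, ← pow_add, show (i : ℕ) + i + ((i : ℕ) + i) = 3 * i + i by ring, pow_add, pow_mul,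
          H.z'_cube F K, one_pow, one_mul]
      rwa [e] at h4
    have hi3 : (i : ℕ) < 3 := i.2
    rcases (show (i : ℕ) = 0 ∨ (i : ℕ) = 1 ∨ (i : ℕ) = 2 by omega) with e | e | e <;> rw [e] at h5 ⊢
    · exact pow_zero _
    · rw [pow_one] at h5; exact absurd h5 K.z'_not
    · refine absurd ?_ K.z'_not
      have := inv_mem h5
      rwa [show (z' ^ 2)⁻¹ = z' from inv_eq_of_mul_eq_one_right (by rw [← pow_succ, H.z'_cube F K])] at this
  have hb : b₂ = b := by simp only [b₂, hz'Z, inv_one, one_mul]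
  -- `b` then commutes with `c`
  rw [H.act_eq_one_iff F] at hb2
  have hq : b * c * b⁻¹ * c⁻¹ ∈ Q := hb ▸ hb2 c hcL
  set q := c⁻¹ * (b * c * b⁻¹) with hqd
  have hqQ : q ∈ Q := by
    have hcn : c ∈ normalizer (Q : Set G) := H.L_le_normalizer_Q hcL
    have := (mem_normalizer_iff''.1 hcn _).1 hq
    rwa [show c⁻¹ * (b * c * b⁻¹ * c⁻¹) * c = q by rw [hqd]; group] at this
  have hqt : Commute q t := hct.inv_left.mul_left ((hbt.mul_left hct).mul_left hbt.inv_left)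
  have hqZ : q ∈ Z := H.eq_Z_of_t F hqQ hqt.symm
  have hbc : b * c * b⁻¹ = c * q := by rw [hqd]; group
  have hqq : q * q = 1 := by
    have h : b * c * b⁻¹ * (b * c * b⁻¹) = c * q * (c * q) := by rw [hbc]
    rw [show b * c * b⁻¹ * (b * c * b⁻¹) = b * (c * c) * b⁻¹ by group, hcc, hbt.eq, mul_inv_cancel_right] at h
    have hcq : Commute c q := (mem_centralizer_iff.1 (H.L_le_cent hcL) q hqZ).symm
    rw [show c * q * (c * q) = c * (q * c) * q by group, ← hcq.eq, show c * (c * q) * q = c * c * (q * q) by group,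
      hcc] at h
    exact mul_eq_left.1 h.symm
  have hq1 : q = 1 := by
    have h3 := H.Q_exp q hqQ
    rwa [pow_succ, pow_two, hqq, one_mul] at h3
  rw [hq1, mul_one] at hbc
  exact K.no_comm c b hcL hbL hct hbt (H.normalizer_Ej_le F hcN.1) (H.normalizer_Ej_le F hbN.1) hcc hbb hcz hcz'
    hbz hbz' (mul_inv_eq_iff_eq_mul.1 hbc).symm

end Cfsg.Agent.McLThree
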