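import Mathlib

/-!
# A Sylow 3-subgroup of the alternating group of degree six and its normalizer
-/

set_option autoImplicit false
set_option synthInstance.maxSize 1000
set_option maxRecDepth 4000

namespace Cfsg.Agent.McLThree.Six

/-- The alternating group of degree six. -/
abbrev A6 : Type := alternatingGroup (Fin 6)

def sA : A6 := ⟨Equiv.swap 0 1 * Equiv.swap 1 2, Equiv.Perm.mem_alternatingGroup.2 (by decide +kernel)⟩
def sB : A6 := ⟨Equiv.swap 3 4 * Equiv.swap 4 5, Equiv.Perm.mem_alternatingGroup.2 (by decide +kernel)⟩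
/-- An element of order four in the normalizer. -/
def v4 : A6 := ⟨Equiv.swap 0 3 * Equiv.swap 3 1 * Equiv.swap 1 4 * Equiv.swap 2 5, Equiv.Perm.mem_alternatingGroup.2 (by decide +kernel)⟩
/-- An involution exchanging the two Sylow subgroups normalized by `v4`. -/
def c6 : A6 := ⟨Equiv.swap 0 1 * Equiv.swap 2 5, Equiv.Perm.mem_alternatingGroup.2 (by decide +kernel)⟩

/-- The nine elements. -/
def nine : List A6 := [1, sA, sA * sA, sB, sA * sB, sA * sA * sB, sB * sB, sA * (sB * sB), sA * sA * (sB * sB)]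

/-- The Sylow subgroup generated by the two disjoint 3-cycles. -/
def P0 : Subgroup A6 where
  carrier := {x | x ∈ nine}
  one_mem' := by decide +kernel
  mul_mem' := fun {a b} ha hb => (show ∀ a ∈ nine, ∀ b ∈ nine, a * b ∈ nine by decide +kernel) a ha b hb
  inv_mem' := fun {a} ha => (show ∀ a ∈ nine, a⁻¹ ∈ nine by decide +kernel) a ha

theorem mem_P0 {x : A6} : x ∈ P0 ↔ x ∈ nine := Iff.rfl

theorem card_P0 : Nat.card P0 = 9 := by
  show Nat.card {x : A6 // x ∈ nine} = 9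
  rw [Nat.card_eq_fintype_card]
  decide +kernel

/-- Normalizing `P0`. -/
def IsN (σ : A6) : Prop := σ * sA * σ⁻¹ ∈ nine ∧ σ * sB * σ⁻¹ ∈ nine

instance : DecidablePred IsN := fun σ => by unfold IsN; infer_instance

theorem v4_facts : v4 * v4 * (v4 * v4) = 1 ∧ v4 * v4 ≠ 1 ∧ IsN v4 ∧
    (∀ p ∈ nine, v4 * v4 * p * (v4 * v4)⁻¹ = p⁻¹) := by
  decide +kernel

theorem c6_facts : ¬ IsN c6 ∧ IsN (c6⁻¹ * v4 * c6) ∧ c6 * (v4 * v4) = v4 * v4 * c6 ∧ c6 * c6 = 1 := by
  decide +kernel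

theorem isN_conj : ∀ p ∈ nine, IsN p := by decide +kernel

/-- The ten cosets of the normalizer. -/
theorem covering : ∀ σ : A6, IsN σ ∨ ∃ p ∈ nine, IsN ((p * c6)⁻¹ * σ) := by
  decide +kernel

theorem mem_normalizer_of_isN {σ : A6} (h : IsN σ) : σ ∈ Subgroup.normalizer (P0 : Set A6) := by
  refine Subgroup.mem_normalizer_fintype fun x hx => ?_
  have e : ∀ x ∈ nine, ∃ i j : Fin 3, x = sA ^ (i : ℕ) * sB ^ (j : ℕ) := by decide +kernel
  obtain ⟨i, j, rfl⟩ := e x hx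
  rw [show σ * (sA ^ (i : ℕ) * sB ^ (j : ℕ)) * σ⁻¹ = σ * sA ^ (i : ℕ) * σ⁻¹ * (σ * sB ^ (j : ℕ) * σ⁻¹) by group,
    ← conj_pow, ← conj_pow]
  exact mul_mem (pow_mem (show σ * sA * σ⁻¹ ∈ P0 from h.1) _) (pow_mem (show σ * sB * σ⁻¹ ∈ P0 from h.2) _)

theorem isN_of_mem_normalizer {σ : A6} (h : σ ∈ Subgroup.normalizer (P0 : Set A6)) : IsN σ :=
  ⟨(Subgroup.mem_normalizer_iff.1 h sA).1 (mem_P0.2 (by decide +kernel)),
    (Subgroup.mem_normalizer_iff.1 h sB).1 (mem_P0.2 (by decide +kernel))⟩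

end Cfsg.Agent.McLThree.Six
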