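import Cfsg.Agent.Lib.McLThree.Fusion
import Cfsg.Agent.Lib.McLThree.Elem
import Cfsg.Agent.Lib.McLThree.SixFacts

/-!
# The ten conjugates of `Z` in `J`

A coordinate hom `ρ : M₀ → A₆` sends `S` to the standard Sylow subgroup and an element `u` with
`u² = t` to `v4`.  The conjugates of `Z` in `J` are `Z` and the conjugates under `S` of `Z' = w Z w⁻¹`,
where `w ∈ M₀` commutes with `t` and exchanges `Z` and `Z'`.
-/

set_option autoImplicit false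
set_option linter.unusedSectionVars false
set_option linter.style.haveILetI false

namespace Cfsg.Agent.McLThree

open Subgroup
open Six
open scoped Pointwise

universe u

variable {G : Type u} [Group G] [Finite G] {S : Sylow 3 G} {Z J M₀ L₀ Q : Subgroup G}
  (H : Hyp S Z J M₀ L₀ Q) {π : ↥L₀ →* SL5} {t f : G} (F : Frame Q L₀ π t f)

/-- Coordinates on `M₀/J`, an element `u` of order four over `t`, and the exchanging element `w`. -/
structure Base (S : Sylow 3 G) (J M₀ : Subgroup G) (t : G) (ρ : ↥M₀ →* A6) (u w : G) : Prop where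
  surj : Function.Surjective ρ
  ker : ∀ g : ↥M₀, ρ g = 1 ↔ (g : G) ∈ J
  img : ∀ g : ↥M₀, ρ g ∈ P0 ↔ (g : G) ∈ (S : Subgroup G)
  u_mem : u ∈ M₀
  u_norm : u ∈ normalizer ((S : Subgroup G) : Set G)
  u_val : ∀ h : u ∈ M₀, ρ ⟨u, h⟩ = v4
  u_sq : u * u = t
  w_mem : w ∈ M₀
  w_val : ∀ h : w ∈ M₀, ρ ⟨w, h⟩ = c6
  w_t : Commute w t

include H

theorem Hyp.normalizer_S_le_Z : normalizer ((S : Subgroup G) : Set G) ≤ normalizer (Z : Set G) := by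
  intro g hg
  refine Subgroup.mem_normalizer_fintype fun z hz => ?_
  rw [SetLike.mem_coe, H.Z_eq] at hz ⊢
  refine ⟨(mem_normalizer_iff.1 hg z).1 hz.1, mem_centralizer_iff.2 fun s hs => ?_⟩
  have h := mem_centralizer_iff.1 hz.2 (g⁻¹ * s * g) ((mem_normalizer_iff''.1 hg s).1 hs)
  calc s * (g * z * g⁻¹) = g * (g⁻¹ * s * g * z) * g⁻¹ := by group
    _ = g * (z * (g⁻¹ * s * g)) * g⁻¹ := by rw [h]
    _ = g * z * g⁻¹ * s := by group

/-- The square of an element normalizing `Z` centralizes it. -/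
theorem Hyp.sq_cent {g : G} (hg : g ∈ normalizer (Z : Set G)) : g * g ∈ centralizer (Z : Set G) := by
  haveI : Fact (Nat.Prime 3) := ⟨Nat.prime_three⟩
  haveI : IsCyclic ↥Z := isCyclic_of_prime_card H.card_Z
  refine mem_centralizer_iff.2 fun z hz => ?_
  set φ : ↥(normalizer (Z : Set G)) →* MulAut ↥Z := normalizerMonoidHom Z
  have h1 : φ (⟨g, hg⟩ * ⟨g, hg⟩) = 1 := by
    have hc : Nat.card (MulAut ↥Z) = 2 := by
      rw [IsCyclic.card_mulAut, H.card_Z, Nat.totient_prime Nat.prime_three]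
    rw [map_mul, ← pow_two, ← hc]
    exact pow_card_eq_one'
  have h2 : g * g * z * (g * g)⁻¹ = z := congrArg (fun f : MulAut ↥Z => ((f ⟨z, hz⟩ : ↥Z) : G)) h1
  exact (mul_inv_eq_iff_eq_mul.1 h2).symm

include F

theorem Hyp.exists_base : ∃ ρ u w, Base S J M₀ t ρ u w := by
  classical
  haveI : Fact (Nat.Prime 3) := ⟨Nat.prime_three⟩
  haveI : Fact (Nat.Prime 2) := ⟨Nat.prime_two⟩
  obtain ⟨ρ₀, hsur, hker⟩ := H.quotM
  have hSM := H.S_le_M F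
  let P9 : Sylow 3 A6 := Sylow.ofCard P0 (by
    rw [card_P0, Nat.card_eq_fintype_card, show Fintype.card A6 = 360 by decide +kernel,
      show (360 : ℕ) = 3 ^ 2 * 40 by norm_num, Nat.factorization_mul (by norm_num) (by norm_num),
      Finsupp.add_apply, Nat.prime_three.factorization_pow, Finsupp.single_eq_same,
      Nat.factorization_eq_zero_of_not_dvd (by norm_num : ¬ 3 ∣ 40)]
    norm_num)
  obtain ⟨σ, hσ⟩ := MulAction.exists_smul_eq A6 ((S.subtype hSM).mapSurjective hsur) P9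
  set ρ₁ : ↥M₀ →* A6 := (MulAut.conj σ).toMonoidHom.comp ρ₀ with hρ₁
  have hsur₁ : Function.Surjective ρ₁ := (MulAut.conj σ).surjective.comp hsur
  have hker₁ : ∀ g : ↥M₀, ρ₁ g = 1 ↔ (g : G) ∈ J := fun g => by
    rw [← hker g]
    exact MulEquiv.map_eq_one_iff (MulAut.conj σ)
  have himg₁ : ∀ g : ↥M₀, ρ₁ g ∈ P0 ↔ (g : G) ∈ (S : Subgroup G) := by
    have hmap : ∀ x : A6, x ∈ P0 ↔ ∃ s : ↥M₀, (s : G) ∈ (S : Subgroup G) ∧ ρ₁ s = x := by
      intro x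
      have h1 : (P9 : Subgroup A6) = P0 := rfl
      rw [← h1, ← hσ, Sylow.coe_subgroup_smul, Sylow.coe_mapSurjective, Sylow.coe_subtype]
      constructor
      · rintro ⟨_, ⟨s, hs, rfl⟩, rfl⟩
        exact ⟨s, mem_subgroupOf.1 hs, rfl⟩
      · rintro ⟨s, hs, rfl⟩
        exact ⟨_, ⟨s, mem_subgroupOf.2 hs, rfl⟩, rfl⟩
    intro g
    refine ⟨fun h => ?_, fun h => (hmap _).2 ⟨g, h, rfl⟩⟩
    obtain ⟨s, hs, e⟩ := (hmap _).1 h
    have h' : ρ₁ (s⁻¹ * g) = 1 := by rw [map_mul, map_inv, e, inv_mul_cancel]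
    have := mul_mem hs (H.J_le ((hker₁ _).1 h'))
    simpa using this
  have hnorm : ∀ g : ↥M₀, IsN (ρ₁ g) → (g : G) ∈ normalizer ((S : Subgroup G) : Set G) := fun g hg =>
    Subgroup.mem_normalizer_fintype fun s hs => by
      have h := (himg₁ (g * ⟨s, hSM hs⟩ * g⁻¹)).1 (by
        rw [map_mul, map_mul, map_inv]
        exact (mem_normalizer_iff.1 (mem_normalizer_of_isN hg) _).1 ((himg₁ _).2 hs))
      simp only [Subgroup.coe_mul, Subgroup.coe_inv] at h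
      exact h
  obtain ⟨v4a, v4b, v4c, v4d⟩ := v4_facts
  obtain ⟨g, hg⟩ := hsur₁ v4
  have h12 : g ^ 12 = 1 := by
    have h : (g ^ 4 : ↥M₀).1 ∈ J := (hker₁ _).1 (by
      rw [map_pow, hg, show 4 = 2 * 2 by norm_num, pow_mul, pow_two, pow_two, v4a])
    apply Subtype.ext
    rw [show 12 = 4 * 3 by norm_num, pow_mul, Subgroup.coe_pow, H.J_exp _ h, Subgroup.coe_one]
  set g' : ↥M₀ := g ^ 9 with hg'
  have hg'4 : (g' : G) ^ 4 = 1 := by
    rw [← Subgroup.coe_pow, hg', ← pow_mul, show 9 * 4 = 12 * 3 by norm_num, pow_mul, h12, one_pow,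
      Subgroup.coe_one]
  have hg'v : ρ₁ g' = v4 := by
    rw [hg', map_pow, hg, show 9 = 4 * 2 + 1 by norm_num, pow_succ, pow_mul, show 4 = 2 * 2 by norm_num,
      pow_mul v4, pow_two v4, pow_two (v4 * v4), v4a, one_pow, one_mul]
  have hg'N : (g' : G) ∈ normalizer ((S : Subgroup G) : Set G) := hnorm g' (hg'v ▸ v4c)
  set t₀ : G := (g' : G) * g' with ht₀
  have ht00 : t₀ * t₀ = 1 := by
    rw [← hg'4, ht₀]; simp only [pow_succ, pow_zero, one_mul, mul_assoc]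
  have ht0i : t₀⁻¹ = t₀ := inv_eq_of_mul_eq_one_right ht00
  have ht0Z : t₀ ∈ centralizer (Z : Set G) := H.sq_cent (H.normalizer_S_le_Z hg'N)
  have hQJ : ∀ q ∈ Q, ∀ a ∈ J, q * a * q⁻¹ ∈ J := fun q hq a ha =>
    (mem_normalizer_iff.1 (H.S_le_normalizer_J F (H.Q_le_S hq)) a).1 ha
  have ht0J : ∀ a ∈ J, t₀ * a * t₀⁻¹ ∈ J := fun a ha =>
    (mem_normalizer_iff.1 (H.normalizer_S_le F (mul_mem hg'N hg'N)) a).1 ha
  -- `t₀` maps each `q` to its inverse modulo `J ∩ Q`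
  have hx : ∀ q ∈ Q, t₀ * q * t₀⁻¹ * q ∈ J ⊓ Q := by
    intro q hq
    refine ⟨?_, mul_mem (H.conj_Q ht0Z hq) hq⟩
    have hp : ρ₁ ⟨q, H.Q_le_M F hq⟩ ∈ P0 := (himg₁ _).2 (H.Q_le_S hq)
    have hh : ρ₁ (g' * g' * ⟨q, H.Q_le_M F hq⟩ * (g' * g')⁻¹ * ⟨q, H.Q_le_M F hq⟩) = 1 := by
      simp only [map_mul, map_inv, hg'v]
      rw [v4d _ hp, inv_mul_cancel]
    exact (hker₁ _).1 hh
  have hR : ∀ r ∈ J ⊓ Q, t₀ * r * t₀⁻¹ * r ∈ Z := by
    intro r hr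
    set r' := t₀ * r * t₀⁻¹ with hr'
    refine H.cent_Q (mem_centralizer_iff.2 fun q hq => ?_)
    set c := r * q * r⁻¹ * q⁻¹ with hc
    have hcZ : c ∈ Z := H.comm_Q hr.2 hq
    set x := t₀ * q * t₀⁻¹ * q with hxdef
    have hxJ : x ∈ J := (hx q hq).1
    have hq' : t₀ * q * t₀⁻¹ = x * q⁻¹ := by rw [hxdef]; group
    have h1 : r' * (x * q⁻¹) * r'⁻¹ * (x * q⁻¹)⁻¹ = c := by
      rw [← hq', hr']
      calc t₀ * r * t₀⁻¹ * (t₀ * q * t₀⁻¹) * (t₀ * r * t₀⁻¹)⁻¹ * (t₀ * q * t₀⁻¹)⁻¹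
          = t₀ * c * t₀⁻¹ := by rw [hc]; group
        _ = c := by rw [← mem_centralizer_iff.1 ht0Z c hcZ, mul_inv_cancel_right]
    have hrx : r' * x = x * r' := H.J_comm _ (ht0J r hr.1) x hxJ
    have h2 : x * (r' * q⁻¹ * r'⁻¹ * q) * x⁻¹ = c := by
      rw [← h1]
      calc x * (r' * q⁻¹ * r'⁻¹ * q) * x⁻¹ = x * r' * q⁻¹ * r'⁻¹ * (x * q⁻¹)⁻¹ := by group
        _ = r' * x * q⁻¹ * r'⁻¹ * (x * q⁻¹)⁻¹ := by rw [hrx]
        _ = _ := by group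
    have hcx : x⁻¹ * c * x = c := by
      rw [mul_assoc, ← H.Z_comm hcZ (H.J_le hxJ), inv_mul_cancel_left]
    have h3 : r' * q⁻¹ * r'⁻¹ = c * q⁻¹ := by
      calc r' * q⁻¹ * r'⁻¹ = x⁻¹ * (x * (r' * q⁻¹ * r'⁻¹ * q) * x⁻¹) * x * q⁻¹ := by group
        _ = c * q⁻¹ := by rw [h2, hcx]
    have h4 : r' * q * r'⁻¹ = q * c⁻¹ := by
      rw [show r' * q * r'⁻¹ = (r' * q⁻¹ * r'⁻¹)⁻¹ by group, h3]; group
    have h5 : r * q * r⁻¹ = c * q := by rw [hc]; group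
    have h6 : r' * r * q * (r' * r)⁻¹ = q := by
      calc r' * r * q * (r' * r)⁻¹ = r' * (r * q * r⁻¹) * r'⁻¹ := by group
        _ = (r' * c * r'⁻¹) * (r' * q * r'⁻¹) := by rw [h5]; group
        _ = c * (q * c⁻¹) := by
          rw [h4, H.Z_comm hcZ (H.J_le (ht0J r hr.1)), mul_inv_cancel_right]
        _ = q := by rw [← mul_assoc, ← H.Z_comm hcZ (H.Q_le_S hq), mul_inv_cancel_right]
    exact (mul_inv_eq_iff_eq_mul.1 h6).symm
  have hinv : ∀ q ∈ Q, t₀ * q * t₀⁻¹ * q ∈ Z := by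
    intro q hq
    set x := t₀ * q * t₀⁻¹ * q with hxdef
    have hx1 := hx q hq
    have e : t₀ * x * t₀⁻¹ = q * x * q⁻¹ := by
      rw [hxdef, ht0i]
      calc t₀ * (t₀ * q * t₀ * q) * t₀ = (t₀ * t₀) * q * (t₀ * q * t₀) := by group
        _ = _ := by rw [ht00]; group
    have h1 := hR x hx1
    rw [e] at h1
    have h2 : q * x * q⁻¹ * x⁻¹ ∈ Z := H.comm_Q hq hx1.2
    have h3 : x * x ∈ Z := by
      have := mul_mem (inv_mem h2) h1
      rwa [show (q * x * q⁻¹ * x⁻¹)⁻¹ * (q * x * q⁻¹ * x) = x * x by group] at this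
    have h4 := mul_mem h3 h3
    rwa [show x * x * (x * x) = x * x ^ 3 by simp only [pow_succ, pow_zero, one_mul, mul_assoc],
      H.Q_exp x hx1.2, mul_one] at h4
  have htt : t * t = 1 := by rw [← pow_two, ← F.t_two, pow_orderOf_eq_one]
  have hti : t⁻¹ = t := inv_eq_of_mul_eq_one_right htt
  set d := t₀ * t with hd
  have hdQ : d ∈ Q := by
    refine H.mem_Q_of_fixC (mul_mem ht0Z (H.L_le_cent F.t_mem)) fun q hq => ⟨hq, ?_⟩
    have h1 := H.t_inverts F hq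
    have h2 := hinv q hq
    set z1 := t * q * t⁻¹ * q with hz1
    set z2 := t₀ * q * t₀⁻¹ * q with hz2
    have e : d * q * d⁻¹ * q⁻¹ = (t₀ * z1 * t₀⁻¹) * (q * z2⁻¹ * q⁻¹) := by
      rw [hd, hz1, hz2]; group
    show d * q * d⁻¹ * q⁻¹ ∈ Z
    rw [e, ← mem_centralizer_iff.1 ht0Z z1 h1, mul_inv_cancel_right,
      H.Z_comm (inv_mem h2) (H.Q_le_S hq), mul_inv_cancel_right]
    exact mul_mem h1 (inv_mem h2)
  have hdt : t * d * t = d⁻¹ := by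
    rw [hd, mul_inv_rev, hti, ht0i]
    calc t * (t₀ * t) * t = t * t₀ * (t * t) := by group
      _ = t * t₀ := by rw [htt, mul_one]
  set c := d ^ 2 with hc
  have hcM : c ∈ M₀ := pow_mem (H.Q_le_M F hdQ) 2
  have hcS : c ∈ (S : Subgroup G) := pow_mem (H.Q_le_S hdQ) 2
  have hct : c * t * c⁻¹ = t₀ := by
    have e1 : t * c⁻¹ * t = c := by
      have ed : t * d⁻¹ * t = d := by
        calc t * d⁻¹ * t = (t⁻¹ * d * t⁻¹)⁻¹ := by group
          _ = d := by rw [hti, hdt, inv_inv]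
      rw [hc, pow_two, mul_inv_rev]
      calc t * (d⁻¹ * d⁻¹) * t = t * d⁻¹ * (t * t) * d⁻¹ * t := by rw [htt, mul_one]; group
        _ = (t * d⁻¹ * t) * (t * d⁻¹ * t) := by group
        _ = d * d := by rw [ed]
    calc c * t * c⁻¹ = c * (t * c⁻¹ * t) * t := by
          rw [show c * (t * c⁻¹ * t) * t = c * t * c⁻¹ * (t * t) by group, htt, mul_one]
      _ = d ^ 3 * (d * t) := by rw [e1, hc]; simp only [pow_succ, pow_zero, one_mul, mul_assoc]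
      _ = t₀ := by rw [H.Q_exp d hdQ, one_mul, hd, mul_assoc, htt, mul_one]
  set ρ : ↥M₀ →* A6 := ρ₁.comp (MulAut.conj (⟨c, hcM⟩ : ↥M₀)).toMonoidHom with hρ
  have hρa : ∀ g : ↥M₀, ρ g = ρ₁ (⟨c, hcM⟩ * g * ⟨c, hcM⟩⁻¹) := fun g => rfl
  set u := c⁻¹ * (g' : G) * c with hu
  have huM : u ∈ M₀ := mul_mem (mul_mem (inv_mem hcM) g'.2) hcM
  have huv : ρ ⟨u, huM⟩ = v4 := by
    rw [hρa, ← hg'v]
    congr 1
    apply Subtype.ext
    show c * (c⁻¹ * g' * c) * c⁻¹ = g'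
    group
  have hcN : c ∈ normalizer ((S : Subgroup G) : Set G) := le_normalizer hcS
  have huu : u * u = t := by
    rw [hu, show c⁻¹ * (g' : G) * c * (c⁻¹ * g' * c) = c⁻¹ * t₀ * c by rw [ht₀]; group, ← hct]
    group
  have hsurρ : Function.Surjective ρ := hsur₁.comp (MulAut.conj (⟨c, hcM⟩ : ↥M₀)).surjective
  have hkerρ : ∀ g : ↥M₀, ρ g = 1 ↔ (g : G) ∈ J := fun g => by
    rw [hρa, hker₁]
    exact ((mem_normalizer_iff.1 (H.normalizer_S_le F hcN)) g).symm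
  have himgρ : ∀ g : ↥M₀, ρ g ∈ P0 ↔ (g : G) ∈ (S : Subgroup G) := fun g => by
    rw [hρa, himg₁]
    exact ((mem_normalizer_iff.1 hcN) g).symm
  obtain ⟨-, -, c6t, -⟩ := c6_facts
  obtain ⟨w₀, hw₀⟩ := hsurρ c6
  have hA : zpowers t ≤ normalizer (J : Set G) := zpowers_le.2 (H.t_norm_J F)
  have hcop : (Nat.card ↥(zpowers t)).Coprime (Nat.card ↥J) := by
    rw [Nat.card_zpowers, F.t_two, H.J_card]; norm_num
  have hfix : ∀ a ∈ zpowers t, (w₀ : G)⁻¹ * (a * w₀ * a⁻¹) ∈ J := by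
    intro a ha
    obtain ⟨i, rfl⟩ := mem_zpowers_iff.1 ha
    set t' : ↥M₀ := ⟨t, huu ▸ mul_mem huM huM⟩
    have e : (w₀ : G)⁻¹ * (t ^ i * w₀ * (t ^ i)⁻¹) = ((w₀⁻¹ * (t' ^ i * w₀ * (t' ^ i)⁻¹) : ↥M₀) : G) := by
      simp [t']
    have htv : ρ t' = v4 * v4 := by
      rw [← huv, ← map_mul]; congr 1; exact Subtype.ext huu.symm
    rw [e, ← hkerρ, map_mul, map_mul, map_mul, map_inv, map_inv, map_zpow, htv, hw₀]
    have hcm : Commute c6 ((v4 * v4) ^ i) := (show Commute c6 (v4 * v4) from c6t).zpow_right i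
    rw [← hcm.eq, mul_inv_cancel_right, inv_mul_cancel]
  obtain ⟨j, hj, hjc⟩ := Coprime.exists_fixed_in_coset hA hcop
    (Or.inl (by letI := IsCyclic.commGroup (α := ↥(zpowers t)); infer_instance)) hfix
  refine ⟨ρ, u, (w₀ : G) * j, ⟨hsurρ, hkerρ, himgρ, huM, mul_mem (mul_mem (inv_mem hcN) hg'N) hcN,
    fun _ => huv, huu, mul_mem w₀.2 (H.J_le_M F hj), fun h => ?_,
    (mem_centralizer_iff.1 hjc t (mem_zpowers t)).symm⟩⟩
  have e : (⟨(w₀ : G) * j, h⟩ : ↥M₀) = w₀ * ⟨j, H.J_le_M F hj⟩ := rfl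
  rw [e, map_mul, hw₀, (hkerρ ⟨j, H.J_le_M F hj⟩).2 hj, mul_one]

section

variable {ρ : ↥M₀ →* A6} {u w : G} (B : Base S J M₀ t ρ u w)
include B

theorem Hyp.isN_iff (g : ↥M₀) : IsN (ρ g) ↔ (g : G) ∈ normalizer ((S : Subgroup G) : Set G) := by
  constructor
  · intro h
    refine Subgroup.mem_normalizer_fintype fun s hs => ?_
    have h' := (B.img (g * ⟨s, H.S_le_M F hs⟩ * g⁻¹)).1 (by
      rw [map_mul, map_mul, map_inv]
      exact (mem_normalizer_iff.1 (mem_normalizer_of_isN h) _).1 ((B.img _).2 hs))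
    simp only [Subgroup.coe_mul, Subgroup.coe_inv] at h'
    exact h'
  · intro h
    refine isN_of_mem_normalizer (Subgroup.mem_normalizer_fintype fun x hx => ?_)
    obtain ⟨s, rfl⟩ := B.surj x
    have h' : ρ (g * s * g⁻¹) ∈ P0 := (B.img _).2 (by
      simpa using (mem_normalizer_iff.1 h (s : G)).1 ((B.img s).1 hx))
    rwa [map_mul, map_mul, map_inv] at h'

/-- `w` does not normalize `Z`. -/
theorem Hyp.w_not_norm : w ∉ normalizer (Z : Set G) := by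
  intro hw
  haveI : Fact (Nat.Prime 3) := ⟨Nat.prime_three⟩
  have hN : ∀ g : ↥M₀, IsN (ρ g) → (g : G) ∈ normalizer (Z : Set G) := fun g h =>
    H.normalizer_S_le_Z ((H.isN_iff F B g).1 h)
  have hall : M₀ ≤ normalizer (Z : Set G) := by
    intro g hg
    rcases covering (ρ ⟨g, hg⟩) with h | ⟨p, hp, h⟩
    · exact hN ⟨g, hg⟩ h
    · obtain ⟨s, hs⟩ := B.surj p
      have h1 : ρ ((s * ⟨w, B.w_mem⟩)⁻¹ * ⟨g, hg⟩) = (p * c6)⁻¹ * ρ ⟨g, hg⟩ := by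
        rw [map_mul, map_inv, map_mul, hs, B.w_val]
      have h2 := hN _ (h1 ▸ h)
      have h3 : (s : G) ∈ normalizer (Z : Set G) :=
        hN s (hs ▸ isN_conj p hp)
      have := mul_mem (mul_mem h3 hw) h2
      simpa [mul_assoc] using this
  have hML : M₀ = L₀ := by
    have hle : M₀ ≤ L₀ := by
      rw [H.M_eq, Subgroup.closure_le]
      rintro g ⟨hgJ, k, hk⟩
      exact H.mem_L_of_three (hall (by rw [H.M_eq]; exact Subgroup.subset_closure ⟨hgJ, k, hk⟩)) hk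
    refine eq_of_le_of_card_ge hle ?_
    rw [H.card_L]
    have hkm := ρ.ker.card_mul_index
    rw [index_ker, MonoidHom.range_eq_top.2 B.surj, card_top, Nat.card_eq_fintype_card (α := A6),
      show Fintype.card A6 = 360 by decide +kernel] at hkm
    have hk : ρ.ker = J.subgroupOf M₀ := by ext g; rw [MonoidHom.mem_ker, B.ker, mem_subgroupOf]
    rw [hk, Nat.card_congr (subgroupOfEquivOfLe (H.J_le_M F)).toEquiv, H.J_card] at hkm
    omega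
  obtain ⟨q, hq, hqJ⟩ : ∃ q ∈ Q, q ∉ J := by
    by_contra hcon
    push Not at hcon
    have h := card_le_of_le (show Q ≤ J from hcon)
    rw [H.Q_card, H.J_card] at h
    omega
  have hp : ρ ⟨q, H.Q_le_M F hq⟩ ∈ P0 := (B.img _).2 (H.Q_le_S hq)
  have hp1 : ρ ⟨q, H.Q_le_M F hq⟩ ≠ 1 := fun h => hqJ ((B.ker _).1 h)
  -- the image of `Q` is `P0`
  have hconj : ∀ σ : A6, σ * ρ ⟨q, H.Q_le_M F hq⟩ * σ⁻¹ ∈ P0 := by
    intro σ
    obtain ⟨g, rfl⟩ := B.surj σ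
    rw [← map_inv, ← map_mul, ← map_mul]
    refine (B.img _).2 (H.Q_le_S ?_)
    exact (mem_normalizer_iff.1 (H.L_le_normalizer_Q (hML ▸ g.2)) q).1 hq
  have key : ∀ p ∈ nine, p ≠ 1 → ∃ σ : A6, σ * p * σ⁻¹ ∉ nine := by
    intro p hp hp1
    have : p = 1 ∨ c6 * p * c6⁻¹ ∉ nine ∨ (sA * c6) * p * (sA * c6)⁻¹ ∉ nine ∨
        (sB * c6) * p * (sB * c6)⁻¹ ∉ nine :=
      (show ∀ p ∈ nine, p = 1 ∨ c6 * p * c6⁻¹ ∉ nine ∨ (sA * c6) * p * (sA * c6)⁻¹ ∉ nine ∨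
        (sB * c6) * p * (sB * c6)⁻¹ ∉ nine by decide +kernel) p hp
    rcases this with h | h | h | h
    · exact absurd h hp1
    all_goals exact ⟨_, h⟩
  obtain ⟨σ, hσ⟩ := key _ hp hp1
  exact hσ (hconj σ)

/-- Every conjugate of `z ∈ Z` lying in `J` is in `Z`, or is in `s w Z (s w)⁻¹` for some `s ∈ S`. -/
theorem Hyp.sing_cases {z g : G} (hz : z ∈ Z) (hgz : g * z * g⁻¹ ∈ J) :
    g * z * g⁻¹ ∈ Z ∨ ∃ s ∈ (S : Subgroup G), ∃ z' ∈ Z, g * z * g⁻¹ = s * (w * z' * w⁻¹) * s⁻¹ := by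
  obtain ⟨n, hn, e⟩ := H.fusion_J F (H.Z_le_J F hz) hgz
  obtain ⟨m, hm, x, hx, rfl⟩ := H.exists_factor F hn
  have hxz : x * z * x⁻¹ ∈ Z := (mem_normalizer_iff.1 (H.normalizer_S_le_Z hx) z).1 hz
  rw [← e, show m * x * z * (m * x)⁻¹ = m * (x * z * x⁻¹) * m⁻¹ by group]
  generalize x * z * x⁻¹ = y at hxz
  rcases covering (ρ ⟨m, hm⟩) with h | ⟨p, hp, h⟩
  · exact Or.inl ((mem_normalizer_iff.1 (H.normalizer_S_le_Z ((H.isN_iff F B ⟨m, hm⟩).1 h)) y).1 hxz)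
  · obtain ⟨s, hs⟩ := B.surj p
    have h1 : ρ ((s * ⟨w, B.w_mem⟩)⁻¹ * ⟨m, hm⟩) = (p * c6)⁻¹ * ρ ⟨m, hm⟩ := by
      rw [map_mul, map_inv, map_mul, hs, B.w_val]
    have h2 := H.normalizer_S_le_Z ((H.isN_iff F B _).1 (h1 ▸ h))
    refine Or.inr ⟨s, (B.img s).1 (hs ▸ hp), _, (mem_normalizer_iff.1 h2 y).1 hxz, ?_⟩
    simp only [Subgroup.coe_mul, Subgroup.coe_inv]
    group

theorem Hyp.w_sq_Z {z : G} (hz : z ∈ Z) : w * (w * z * w⁻¹) * w⁻¹ = z := by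
  have hww : w * w ∈ J := (B.ker (⟨w, B.w_mem⟩ * ⟨w, B.w_mem⟩)).1 (by
    rw [map_mul, B.w_val]; exact c6_facts.2.2.2)
  rw [show w * (w * z * w⁻¹) * w⁻¹ = w * w * z * (w * w)⁻¹ by group, H.Z_comm hz (H.J_le hww),
    mul_inv_cancel_right]

theorem Hyp.w_Z_Ej {z : G} (hz : z ∈ Z) : w * z * w⁻¹ ∈ Ej J t := by
  refine ⟨(mem_normalizer_iff.1 (H.M_le B.w_mem) z).1 (H.Z_le_J F hz), mem_centralizer_singleton_iff.2 ?_⟩
  have h : Commute z t := mem_centralizer_iff.1 (H.L_le_cent F.t_mem) z hz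
  exact ((B.w_t.mul_left h).mul_left B.w_t.inv_left).eq

theorem Hyp.w_Z_not_Z {z : G} (hz : z ∈ Z) (hz1 : z ≠ 1) : w * z * w⁻¹ ∉ Z := by
  intro h
  refine H.w_not_norm F B (Subgroup.mem_normalizer_fintype fun a ha => ?_)
  haveI : Fact (Nat.Prime 3) := ⟨Nat.prime_three⟩
  have hle : Z ≤ zpowers z := (eq_of_le_of_card_ge (zpowers_le.2 hz) (by
    rw [Nat.card_zpowers, orderOf_eq_prime (H.Q_exp z (H.Z_le_Q hz)) hz1, H.card_Z])).ge
  obtain ⟨i, rfl⟩ := mem_zpowers_iff.1 (hle ha)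
  rw [← conj_zpow]
  exact zpow_mem h i

/-- The only conjugates of `z` in `J ∩ Q` lie in `Z`. -/
theorem Hyp.sing_R {z g : G} (hz : z ∈ Z) (hz1 : z ≠ 1) (hgz : g * z * g⁻¹ ∈ J ⊓ Q) : g * z * g⁻¹ ∈ Z := by
  rcases H.sing_cases F B hz hgz.1 with h | ⟨s, hs, z', hz', e⟩
  · exact h
  · exfalso
    have h1 : z' ≠ 1 := by
      rintro rfl
      rw [mul_one, mul_inv_cancel, mul_one, mul_inv_cancel] at e
      exact hz1 (_root_.conj_eq_one_iff.1 e)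
    have hQ : w * z' * w⁻¹ ∈ Q := by
      have hsQ : s⁻¹ ∈ normalizer (Q : Set G) := H.normalizer_le (H.S_le_normalizer (inv_mem hs))
      have := (mem_normalizer_iff.1 hsQ _).1 (e ▸ hgz.2)
      simpa [mul_assoc] using this
    exact H.w_Z_not_Z F B hz' h1 (H.Ej_inf_Q F (H.w_Z_Ej F B hz') hQ)

end

end Cfsg.Agent.McLThree
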