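import Mathlib

/-!
# Elements of order two and three of the symmetric group of degree eight
-/

set_option autoImplicit false
set_option linter.style.haveILetI false

namespace Cfsg.Agent.McLThree

open Equiv Equiv.Perm Finset

/-- The symmetric group of degree eight. -/
abbrev P8 : Type := Equiv.Perm (Fin 8)

theorem card_cent_replicate (p : P8) (n k : ℕ) (hk : 0 < k) (h : p.cycleType = Multiset.replicate k n) :
    Nat.card ↥(Subgroup.centralizer ({p} : Set P8)) = (8 - k * n).factorial * n ^ k * k.factorial := by
  rw [Equiv.Perm.nat_card_centralizer, h, Multiset.sum_replicate, Multiset.prod_replicate, smul_eq_mul,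
    Fintype.card_fin, Multiset.toFinset_replicate, if_neg hk.ne', Finset.prod_singleton, Multiset.count_replicate_self]

theorem support_of_card_cent {p : P8} (h3 : p ^ 3 = 1) (hp : p ≠ 1) :
    (Nat.card ↥(Subgroup.centralizer ({p} : Set P8)) = 360 → p.support.card = 3) ∧
      (Nat.card ↥(Subgroup.centralizer ({p} : Set P8)) = 36 → p.support.card = 6) := by
  haveI : Fact (Nat.Prime 3) := ⟨Nat.prime_three⟩
  have hr := cycleType_of_pow_prime_eq_one h3
  set k := Multiset.card p.cycleType
  have hk : 0 < k := card_cycleType_pos.2 hp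
  have hs : p.support.card = k * 3 := by
    rw [← sum_cycleType, hr, Multiset.sum_replicate, smul_eq_mul]
  have hle : p.support.card ≤ 8 := (p.support.card_le_univ).trans (by simp)
  rw [card_cent_replicate p 3 k hk hr, hs]
  have h12 : k = 1 ∨ k = 2 := by omega
  rcases h12 with h | h <;> rw [h] <;> constructor <;> intro h' <;> first | rfl | (norm_num [Nat.factorial] at h')

/-- An involution commuting with a three-cycle fixes its points. -/
theorem fix_of_three {p τ : P8} (h3 : p ^ 3 = 1) (hp : p.support.card = 3) (hτ : τ * τ = 1) (hc : τ * p = p * τ) :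
    ∀ x ∈ p.support, τ x = x := by
  intro x hx
  have hx1 : p x ≠ x := mem_support.1 hx
  have hx2 : p (p x) ≠ x := by
    intro h
    have h' : p (p (p x)) = x := by
      rw [show p (p (p x)) = (p ^ 3) x by rw [pow_succ, pow_two]; rfl, h3]; rfl
    rw [h] at h'; exact hx1 h'
  have hx3 : p (p x) ≠ p x := fun h => hx1 (p.injective h)
  have hsup : p.support = {x, p x, p (p x)} := by
    refine (eq_of_subset_of_card_le ?_ ?_).symm
    · intro y hy
      simp only [Finset.mem_insert, Finset.mem_singleton] at hy
      rcases hy with rfl | rfl | rfl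
      · exact hx
      · exact apply_mem_support.2 hx
      · exact apply_mem_support.2 (apply_mem_support.2 hx)
    · rw [hp, Finset.card_insert_of_notMem (by simp [hx1.symm, hx2.symm]), Finset.card_pair hx3.symm]
  have hcomm : ∀ y, τ (p y) = p (τ y) := fun y => DFunLike.congr_fun hc y
  have htt : ∀ y, τ (τ y) = y := fun y => DFunLike.congr_fun hτ y
  have hm : τ x ∈ p.support := mem_support.2 fun h => hx1 (τ.injective (by rw [hcomm, h]))
  rw [hsup] at hm
  simp only [Finset.mem_insert, Finset.mem_singleton] at hm
  rcases hm with h | h | h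
  · exact h
  · exfalso
    have h' := htt x
    rw [h, hcomm, h] at h'
    exact hx2 h'
  · exfalso
    have h' := htt x
    rw [h, hcomm, hcomm, h] at h'
    refine hx1 ?_
    have h4 : p (p (p (p x))) = p x := by
      rw [show p (p (p (p x))) = (p ^ 4) x by rw [pow_succ, pow_succ, pow_two]; rfl, show p ^ 4 = p ^ 3 * p from pow_succ p 3,
        h3, one_mul]
    rwa [h4] at h'

/-- A transposition commuting with an element of order three is disjoint from it. -/
theorem fix_of_swap {p τ : P8} (h3 : p ^ 3 = 1) (hτ : τ.IsSwap) (hc : τ * p = p * τ) :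
    ∀ x ∈ τ.support, p x = x := by
  obtain ⟨a, b, hab, rfl⟩ := hτ
  intro x hx
  rw [support_swap hab, Finset.mem_insert, Finset.mem_singleton] at hx
  by_contra hpx
  have hcomm : ∀ y, Equiv.swap a b (p y) = p (Equiv.swap a b y) := fun y => DFunLike.congr_fun hc y
  have hmem : ∀ y, y = a ∨ y = b → p y = a ∨ p y = b := by
    intro y hy
    by_contra hn
    push Not at hn
    have h := hcomm y
    rw [Equiv.swap_apply_of_ne_of_ne hn.1 hn.2] at h
    have h' := p.injective h.symm
    rcases hy with rfl | rfl
    · rw [Equiv.swap_apply_left] at h'; exact hab h'.symm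
    · rw [Equiv.swap_apply_right] at h'; exact hab h'
  have h2 : p (p x) = x := by
    have h1 := hmem x hx
    have h2 := hmem (p x) h1
    rcases hx with rfl | rfl <;> rcases h1 with h1 | h1 <;> rcases h2 with h2 | h2 <;>
      first | exact absurd h1 hpx | exact h2 | exact absurd (p.injective (h2.trans h1.symm)) hpx
  refine hpx ?_
  have h' : p (p (p x)) = x := by
    rw [show p (p (p x)) = (p ^ 3) x by rw [pow_succ, pow_two]; rfl, h3]; rfl
  rwa [h2] at h'

/-- A nontrivial permutation supported outside six points is the transposition of the other two. -/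
theorem swap_of_six {y τ : P8} (hy : y.support.card = 6) (hτ : τ ≠ 1) (hd : ∀ x ∈ y.support, τ x = x) :
    τ.IsSwap ∧ ∀ σ : P8, σ ≠ 1 → (∀ x ∈ y.support, σ x = x) → σ = τ := by
  have key : ∀ σ : P8, σ ≠ 1 → (∀ x ∈ y.support, σ x = x) → σ.support = y.supportᶜ ∧ σ.IsSwap := by
    intro σ hσ hσy
    have hsub : σ.support ⊆ y.supportᶜ := fun x hx => Finset.mem_compl.2 fun hxy => mem_support.1 hx (hσy x hxy)
    have hc : (y.supportᶜ).card = 2 := by rw [Finset.card_compl, hy, Fintype.card_fin]
    have h2 := two_le_card_support_of_ne_one hσ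
    have he := Finset.eq_of_subset_of_card_le hsub (by omega)
    exact ⟨he, card_support_eq_two.1 (by rw [he]; exact hc)⟩
  obtain ⟨h1, h2⟩ := key τ hτ hd
  refine ⟨h2, fun σ hσ hσy => ?_⟩
  obtain ⟨h3, h4⟩ := key σ hσ hσy
  obtain ⟨a, b, hab, rfl⟩ := h2
  obtain ⟨c, d, hcd, rfl⟩ := h4
  rw [support_swap hab] at h1
  rw [support_swap hcd, ← h1] at h3
  have hc' : c = a ∨ c = b := by
    have : c ∈ ({a, b} : Finset (Fin 8)) := h3 ▸ Finset.mem_insert_self c {d}
    simpa using this
  have hd' : d = a ∨ d = b := by
    have : d ∈ ({a, b} : Finset (Fin 8)) := h3 ▸ Finset.mem_insert_of_mem (Finset.mem_singleton_self d)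
    simpa using this
  rcases hc' with rfl | rfl <;> rcases hd' with rfl | rfl
  · exact absurd rfl hcd
  · rfl
  · exact Equiv.swap_comm _ _
  · exact absurd rfl hcd

/-- An involution is a product of disjoint transpositions: split off the one through a moved point. -/
theorem split_swap {p : P8} (hp : p * p = 1) {a : Fin 8} (ha : p a ≠ a) :
    (Equiv.swap a (p a)).IsSwap ∧ (Equiv.swap a (p a) * p) * (Equiv.swap a (p a) * p) = 1 ∧
      Disjoint (Equiv.swap a (p a)).support (Equiv.swap a (p a) * p).support ∧
      (Equiv.swap a (p a) * p).support.card + 2 = p.support.card := by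
  have hpp : ∀ y, p (p y) = y := fun y => DFunLike.congr_fun hp y
  set σ := Equiv.swap a (p a)
  have hq : ∀ y, (σ * p) y = if y = a ∨ y = p a then y else p y := by
    intro y
    rw [Equiv.Perm.mul_apply]
    split
    · next h =>
      rcases h with rfl | rfl
      · exact Equiv.swap_apply_right _ _
      · rw [hpp]; exact Equiv.swap_apply_left _ _
    · next h =>
      push Not at h
      exact Equiv.swap_apply_of_ne_of_ne (fun e => h.2 (by rw [← e, hpp])) (fun e => h.1 (p.injective e))
  have hsupp : (σ * p).support = p.support \ {a, p a} := by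
    ext y
    simp only [mem_support, Finset.mem_sdiff, Finset.mem_insert, Finset.mem_singleton, hq]
    split <;> simp_all
  refine ⟨⟨a, p a, fun e => ha e.symm, rfl⟩, Equiv.ext fun y => ?_, ?_, ?_⟩
  · show (σ * p) ((σ * p) y) = y
    by_cases h : y = a ∨ y = p a
    · rw [hq y, if_pos h, hq y, if_pos h]
    · rw [hq y, if_neg h, hq (p y), if_neg, hpp]
      rintro (h' | h')
      · exact h (Or.inr (by rw [← h', hpp]))
      · exact h (Or.inl (p.injective h'))
  · rw [support_swap (fun e => ha e.symm), hsupp]
    exact Finset.disjoint_sdiff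
  · rw [hsupp, Finset.card_sdiff_of_subset (by
      intro y hy
      simp only [Finset.mem_insert, Finset.mem_singleton] at hy
      rcases hy with rfl | rfl
      · exact mem_support.2 ha
      · exact apply_mem_support.2 (mem_support.2 ha)), Finset.card_pair (fun e => ha e.symm)]
    have h2 : ({a, p a} : Finset (Fin 8)).card ≤ p.support.card := Finset.card_le_card (by
      intro y hy
      simp only [Finset.mem_insert, Finset.mem_singleton] at hy
      rcases hy with rfl | rfl
      · exact mem_support.2 ha
      · exact apply_mem_support.2 (mem_support.2 ha))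
    rw [Finset.card_pair (fun e => ha e.symm)] at h2
    omega

theorem sign_invol {p : P8} (hp : p * p = 1) :
    ∃ k, p.support.card = 2 * k ∧ k ≤ 4 ∧ p.cycleType = Multiset.replicate k 2 ∧
      Equiv.Perm.sign p = (-1 : ℤˣ) ^ k := by
  haveI : Fact (Nat.Prime 2) := ⟨Nat.prime_two⟩
  have hr := cycleType_of_pow_prime_eq_one (σ := p) (p := 2) (by rw [pow_two]; exact hp)
  set k := Multiset.card p.cycleType
  have hs : p.support.card = 2 * k := by
    rw [← sum_cycleType, hr, Multiset.sum_replicate, smul_eq_mul, mul_comm]
  have hle : p.support.card ≤ 8 := (p.support.card_le_univ).trans (by simp)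
  refine ⟨k, hs, by omega, hr, ?_⟩
  rw [sign_of_cycleType, hr, Multiset.sum_replicate, Multiset.card_replicate, smul_eq_mul, pow_add, mul_comm k 2,
    pow_mul, show ((-1 : ℤˣ) ^ 2) = 1 from rfl, one_pow, one_mul]

/-- The centraliser of an involution has full 2-part only for four transpositions. -/
theorem support_of_full {p : P8} (hp : p * p = 1) (hp1 : p ≠ 1)
    (h : 128 ∣ Nat.card ↥(Subgroup.centralizer ({p} : Set P8))) : p.support.card = 8 ∧
      Nat.card ↥(Subgroup.centralizer ({p} : Set P8)) = 384 := by
  obtain ⟨k, hs, hk, hr, -⟩ := sign_invol hp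
  have hk0 : 0 < k := by
    have := two_le_card_support_of_ne_one hp1
    omega
  have hc := card_cent_replicate p 2 k hk0 hr
  rw [hc] at h ⊢
  rcases (show k = 1 ∨ k = 2 ∨ k = 3 ∨ k = 4 by omega) with rfl | rfl | rfl | rfl
  · norm_num [Nat.factorial] at h
  · norm_num [Nat.factorial] at h
  · norm_num [Nat.factorial] at h
  · exact ⟨hs, by norm_num [Nat.factorial]⟩

end Cfsg.Agent.McLThree
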