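import Cfsg.Prelude
import Cfsg.Agent.Lib.PLocal.Cores

/-!
# The 3-local data of McL: the Sylow subgroup and the extraspecial group

`|S| = 3 ^ 6`, `Z = Z(Q)` has order three, `C(Q) ≤ Z`, `S = JQ` and `J` is the only abelian subgroup of
order 81 of `S`.
-/

set_option autoImplicit false
set_option linter.unusedSectionVars false
set_option linter.style.haveILetI false

namespace Cfsg.Agent.McLThree

open Subgroup
open scoped commutatorElement

universe u

/-- The group `SL₂(5)`. -/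
abbrev SL5 : Type := Matrix.SpecialLinearGroup (Fin 2) (ZMod 5)

variable {G : Type u} [Group G]

/-- The data at the centre of a Sylow 3-subgroup and at `J`. -/
structure Hyp [Finite G] (S : Sylow 3 G) (Z J M₀ L₀ Q : Subgroup G) : Prop where
  Z_eq : Z = (S : Subgroup G) ⊓ centralizer ((S : Subgroup G) : Set G)
  J_le : J ≤ S
  J_comm : ∀ a ∈ J, ∀ b ∈ J, a * b = b * a
  J_exp : ∀ a ∈ J, a ^ 3 = 1
  J_card : Nat.card J = 81
  M_eq : M₀ = Subgroup.closure {g : G | g ∈ normalizer (J : Set G) ∧ ∃ k : ℕ, orderOf g = 3 ^ k}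
  quotM : ∃ π : ↥M₀ →* alternatingGroup (Fin 6), Function.Surjective π ∧ ∀ g : ↥M₀, π g = 1 ↔ (g : G) ∈ J
  L_eq : L₀ = Subgroup.closure {g : G | g ∈ normalizer (Z : Set G) ∧ ∃ k : ℕ, orderOf g = 3 ^ k}
  Q_eq : Q = (Cfsg.pCore 3 (normalizer (Z : Set G))).map (normalizer (Z : Set G)).subtype
  Q_ex : Cfsg.IsExtraspecial 3 Q
  Q_card : Nat.card Q = 243
  Q_exp : ∀ a ∈ Q, a ^ 3 = 1
  Q_L : Q ≤ L₀
  quotL : ∃ π : ↥L₀ →* SL5, Function.Surjective π ∧ ∀ g : ↥L₀, π g = 1 ↔ (g : G) ∈ Q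
  weak : centralizer (((Cfsg.pCore 3 (centralizer (Z : Set G))).map (centralizer (Z : Set G)).subtype : Subgroup G) : Set G)
    ≤ (Cfsg.pCore 3 (centralizer (Z : Set G))).map (centralizer (Z : Set G)).subtype

theorem card_SL5 : Nat.card SL5 = 120 := by
  rw [Nat.card_eq_fintype_card]
  decide +kernel

variable [Finite G] {S : Sylow 3 G} {Z J M₀ L₀ Q : Subgroup G} (H : Hyp S Z J M₀ L₀ Q)
include H

theorem Hyp.Z_le : Z ≤ (S : Subgroup G) := H.Z_eq ▸ inf_le_left

theorem Hyp.Z_comm {z : G} (hz : z ∈ Z) {g : G} (hg : g ∈ (S : Subgroup G)) : g * z = z * g :=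
  mem_centralizer_iff.1 (H.Z_eq ▸ hz : z ∈ (S : Subgroup G) ⊓ centralizer ((S : Subgroup G) : Set G)).2 g hg

theorem Hyp.Q_pgroup : IsPGroup 3 ↥Q := H.Q_ex.1.1

theorem Hyp.Q_le_normalizer : Q ≤ normalizer (Z : Set G) := H.Q_eq ▸ map_subtype_le _

theorem Hyp.normalizer_le : normalizer (Z : Set G) ≤ normalizer (Q : Set G) := by
  intro g hg
  refine Subgroup.mem_normalizer_fintype fun q hq => ?_
  rw [SetLike.mem_coe, H.Q_eq] at hq ⊢
  obtain ⟨c, hc, rfl⟩ := hq
  exact ⟨⟨g, hg⟩ * c * ⟨g, hg⟩⁻¹, (inferInstance : (Cfsg.pCore 3 _).Normal).conj_mem c hc _, rfl⟩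

theorem Hyp.S_le_normalizer : (S : Subgroup G) ≤ normalizer (Z : Set G) := fun g hg =>
  Subgroup.mem_normalizer_fintype fun z hz => by
    rw [H.Z_comm hz hg, mul_inv_cancel_right]; exact hz

theorem Hyp.Q_le_S : Q ≤ (S : Subgroup G) := by
  haveI : Fact (Nat.Prime 3) := ⟨Nat.prime_three⟩
  have h := PLocal.Cores.pCore_le_sylow (S.subtype H.S_le_normalizer)
  rw [H.Q_eq]
  refine (Subgroup.map_mono h).trans ?_
  rw [Sylow.coe_subtype, Subgroup.map_subgroupOf_eq_of_le H.S_le_normalizer]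

theorem Hyp.L_le : L₀ ≤ normalizer (Z : Set G) := by
  rw [H.L_eq, Subgroup.closure_le]
  exact fun g hg => hg.1

theorem Hyp.S_le_L : (S : Subgroup G) ≤ L₀ := fun g hg => by
  obtain ⟨k, hk⟩ := IsPGroup.iff_orderOf.1 S.2 ⟨g, hg⟩
  rw [H.L_eq]
  exact Subgroup.subset_closure ⟨H.S_le_normalizer hg, k, by rw [← hk, orderOf_mk]⟩

theorem Hyp.card_L : Nat.card ↥L₀ = 29160 := by
  obtain ⟨π, hπ, hk⟩ := H.quotL
  have hker : π.ker = Q.subgroupOf L₀ := by ext g; rw [MonoidHom.mem_ker, hk, mem_subgroupOf]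
  have h := π.ker.card_mul_index
  rw [index_ker, MonoidHom.range_eq_top.2 hπ, card_top, card_SL5, hker,
    Nat.card_congr (subgroupOfEquivOfLe H.Q_L).toEquiv, H.Q_card] at h
  omega

theorem Hyp.card_S : Nat.card (S : Subgroup G) = 729 := by
  haveI : Fact (Nat.Prime 3) := ⟨Nat.prime_three⟩
  have h := (S.subtype H.S_le_L).card_eq_multiplicity
  rw [Sylow.coe_subtype, Nat.card_congr (subgroupOfEquivOfLe H.S_le_L).toEquiv, H.card_L] at h
  rw [h, show (29160 : ℕ) = 3 ^ 6 * 40 by norm_num, Nat.factorization_mul (by norm_num) (by norm_num),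
    Finsupp.add_apply, Nat.prime_three.factorization_pow, Finsupp.single_eq_same,
    Nat.factorization_eq_zero_of_not_dvd (by norm_num : ¬ 3 ∣ 40)]
  norm_num

/-- `Z` has order three and is the centre of `Q`. -/
theorem Hyp.Z_eq_center : Z = (center ↥Q).map Q.subtype ∧ Nat.card ↥Z = 3 := by
  haveI : Fact (Nat.Prime 3) := ⟨Nat.prime_three⟩
  have hZN : Z ≤ normalizer (Z : Set G) := le_normalizer
  have hZQ : Z ≤ Q := by
    rw [H.Q_eq]
    haveI : (Z.subgroupOf (normalizer (Z : Set G))).Normal := normal_subgroupOf_of_le_normalizer le_rfl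
    have h := PLocal.Cores.le_pCore (N := Z.subgroupOf (normalizer (Z : Set G))) ((S.2.to_le H.Z_le).comap_of_injective _ (normalizer (Z : Set G)).subtype_injective)
    exact (Subgroup.map_subgroupOf_eq_of_le hZN).ge.trans (Subgroup.map_mono h)
  have hle : Z ≤ (center ↥Q).map Q.subtype := fun z hz =>
    ⟨⟨z, hZQ hz⟩, mem_center_iff.2 fun q => Subtype.ext (H.Z_comm hz (H.Q_le_S q.2)), rfl⟩
  have hc : Nat.card ↥((center ↥Q).map Q.subtype) = 3 := by
    rw [card_map_of_injective Q.subtype_injective, H.Q_ex.2]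
  have hne : Z ≠ ⊥ := by
    haveI : Nontrivial ↥(S : Subgroup G) := Finite.one_lt_card_iff_nontrivial.1 (by rw [H.card_S]; norm_num)
    haveI := S.2.center_nontrivial
    obtain ⟨⟨z, hz⟩, hz1⟩ := exists_ne (1 : ↥(center ↥(S : Subgroup G)))
    intro h
    refine hz1 (Subtype.ext (Subtype.ext ?_))
    have hzZ : (z : G) ∈ Z := by
      rw [H.Z_eq]
      exact ⟨z.2, mem_centralizer_iff.2 fun g hg => congrArg Subtype.val (mem_center_iff.1 hz ⟨g, hg⟩)⟩
    rwa [h, mem_bot] at hzZ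
  have h1 : Nat.card ↥Z = 3 := by
    rcases (Nat.dvd_prime Nat.prime_three).1 (hc ▸ card_dvd_of_le hle) with h | h
    · exact absurd (Subgroup.eq_bot_of_card_eq Z h) hne
    · exact h
  exact ⟨eq_of_le_of_card_ge hle (by rw [hc, h1]), h1⟩

theorem Hyp.card_Z : Nat.card ↥Z = 3 := H.Z_eq_center.2

theorem Hyp.Z_le_Q : Z ≤ Q := H.Z_eq_center.1 ▸ map_subtype_le _

theorem Hyp.L_le_cent : L₀ ≤ centralizer (Z : Set G) := by
  haveI : Fact (Nat.Prime 3) := ⟨Nat.prime_three⟩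
  rw [H.L_eq, Subgroup.closure_le]
  rintro g ⟨hg, k, hk⟩
  refine mem_centralizer_iff.2 fun z hz => ?_
  haveI : IsCyclic ↥Z := isCyclic_of_prime_card H.card_Z
  set φ : ↥(normalizer (Z : Set G)) →* MulAut ↥Z := normalizerMonoidHom Z
  have h1 : φ ⟨g, hg⟩ = 1 := by
    refine orderOf_eq_one_iff.1 (Nat.eq_one_of_dvd_coprimes (k := orderOf (φ ⟨g, hg⟩))
      ((by norm_num : Nat.Coprime 3 2).pow_left k) ?_ ?_)
    · exact (orderOf_map_dvd φ _).trans (by rw [orderOf_mk, hk])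
    · have hc : Nat.card (MulAut ↥Z) = 2 := by
        rw [IsCyclic.card_mulAut, H.card_Z, Nat.totient_prime Nat.prime_three]
      exact hc ▸ orderOf_dvd_natCard _
  have h2 : g * z * g⁻¹ = z := congrArg (fun f : MulAut ↥Z => ((f ⟨z, hz⟩ : ↥Z) : G)) h1
  exact (mul_inv_eq_iff_eq_mul.1 h2).symm

theorem Hyp.cent_le : centralizer (Z : Set G) ≤ normalizer (Z : Set G) := Subgroup.centralizer_le_normalizer _

/-- `Q` is the 3-core of `C(Z)`. -/
theorem Hyp.core_cent : (Cfsg.pCore 3 (centralizer (Z : Set G))).map (centralizer (Z : Set G)).subtype = Q := by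
  haveI : Fact (Nat.Prime 3) := ⟨Nat.prime_three⟩
  set C := centralizer (Z : Set G)
  set K := (Cfsg.pCore 3 C).map C.subtype
  have hQC : Q ≤ C := H.Q_L.trans H.L_le_cent
  refine le_antisymm ?_ ?_
  · rw [H.Q_eq]
    have hKN : K ≤ normalizer (Z : Set G) := (map_subtype_le _).trans H.cent_le
    haveI : (K.subgroupOf (normalizer (Z : Set G))).Normal := by
      refine ⟨fun k hk g => ?_⟩
      haveI : (C.subgroupOf (normalizer (Z : Set G))).Normal := by
        refine ⟨fun c hc g => ?_⟩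
        refine mem_subgroupOf.2 (mem_centralizer_iff.2 fun z hz => ?_)
        have hz' : (g : G)⁻¹ * z * g ∈ Z := (mem_normalizer_iff''.1 g.2 z).1 hz
        have h := mem_centralizer_iff.1 (mem_subgroupOf.1 hc) _ hz'
        show z * ((g : G) * c * (g : G)⁻¹) = (g : G) * c * (g : G)⁻¹ * z
        calc z * ((g : G) * c * (g : G)⁻¹) = (g : G) * (((g : G)⁻¹ * z * g) * c) * (g : G)⁻¹ := by group
          _ = (g : G) * (c * ((g : G)⁻¹ * z * g)) * (g : G)⁻¹ := by rw [h]
          _ = _ := by group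
      obtain ⟨c, hc, hck⟩ := hk
      have hgC : ∀ d : ↥C, (g : G) * d * (g : G)⁻¹ ∈ C := fun d =>
        (inferInstance : (C.subgroupOf (normalizer (Z : Set G))).Normal).conj_mem ⟨d, H.cent_le d.2⟩ d.2 g
      let α : ↥C ≃* ↥C :=
        { toFun := fun d => ⟨(g : G) * d * (g : G)⁻¹, hgC d⟩
          invFun := fun d => ⟨(g : G)⁻¹ * d * g, by
            have := (inferInstance : (C.subgroupOf (normalizer (Z : Set G))).Normal).conj_mem ⟨d, H.cent_le d.2⟩ d.2 g⁻¹
            simpa [mem_subgroupOf] using this⟩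
          left_inv := fun d => Subtype.ext (by show (g : G)⁻¹ * ((g : G) * d * (g : G)⁻¹) * g = d; group)
          right_inv := fun d => Subtype.ext (by show (g : G) * ((g : G)⁻¹ * d * g) * (g : G)⁻¹ = d; group)
          map_mul' := fun a b => Subtype.ext (by
            show (g : G) * ((a : G) * b) * (g : G)⁻¹ = (g : G) * a * (g : G)⁻¹ * ((g : G) * b * (g : G)⁻¹)
            group) }
      haveI := PLocal.Cores.pCore_characteristic (p := 3) (G := ↥C)
      refine mem_subgroupOf.2 ⟨α c, ?_, ?_⟩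
      · exact Subgroup.characteristic_iff_le_comap.1 inferInstance α hc
      · show (g : G) * (c : G) * (g : G)⁻¹ = (g : G) * k * (g : G)⁻¹
        rw [show (c : G) = k from hck]
    have h := PLocal.Cores.le_pCore (N := K.subgroupOf (normalizer (Z : Set G)))
      ((PLocal.Cores.isPGroup_pCore.map _).comap_of_injective _ (normalizer (Z : Set G)).subtype_injective)
    exact (Subgroup.map_subgroupOf_eq_of_le hKN).ge.trans (Subgroup.map_mono h)
  · haveI : (Q.subgroupOf C).Normal := normal_subgroupOf_of_le_normalizer (H.cent_le.trans H.normalizer_le)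
    have h := PLocal.Cores.le_pCore (N := Q.subgroupOf C) (H.Q_pgroup.comap_of_injective _ C.subtype_injective)
    exact (Subgroup.map_subgroupOf_eq_of_le hQC).ge.trans (Subgroup.map_mono h)

/-- `C(Q) ≤ Z`. -/
theorem Hyp.cent_Q : centralizer (Q : Set G) ≤ Z := by
  have hw := H.weak
  rw [H.core_cent] at hw
  intro g hg
  have hgQ := hw hg
  rw [H.Z_eq_center.1]
  exact ⟨⟨g, hgQ⟩, mem_center_iff.2 fun q => Subtype.ext (mem_centralizer_iff.1 hg q q.2), rfl⟩

/-- Commutators of `Q` lie in `Z`. -/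
theorem Hyp.comm_Q {a b : G} (ha : a ∈ Q) (hb : b ∈ Q) : a * b * a⁻¹ * b⁻¹ ∈ Z := by
  have h : ⁅(⟨a, ha⟩ : ↥Q), ⟨b, hb⟩⁆ ∈ center ↥Q := by
    rw [← H.Q_ex.1.2.2]; exact commutator_mem_commutator (mem_top _) (mem_top _)
  rw [H.Z_eq_center.1]
  exact ⟨_, h, rfl⟩

/-- An abelian subgroup of `Q` has order at most 27. -/
theorem Hyp.abelian_Q {A : Subgroup G} (hA : A ≤ Q) (hc : ∀ a ∈ A, ∀ b ∈ A, a * b = b * a) :
    Nat.card ↥A ≤ 27 := by
  haveI : Fact (Nat.Prime 3) := ⟨Nat.prime_three⟩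
  by_contra hlt
  obtain ⟨j, hj⟩ := (H.Q_pgroup.to_le hA).exists_card_eq
  have hd : 81 ∣ Nat.card ↥A := by
    rw [hj] at hlt ⊢
    rcases Nat.lt_or_ge j 4 with h | h
    · exfalso
      have : 3 ^ j ≤ 3 ^ 3 := Nat.pow_le_pow_right (by norm_num) (by omega)
      omega
    · exact (by norm_num : (81 : ℕ) = 3 ^ 4) ▸ pow_dvd_pow 3 h
  -- the commutator with a fixed element is a homomorphism to `Z`
  obtain ⟨b, hb, hbA⟩ : ∃ b ∈ Q, b ∉ A := by
    by_contra hcon
    push Not at hcon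
    obtain ⟨a, ha⟩ : ∃ a : ↥Q, ∃ b : ↥Q, a * b ≠ b * a := by
      by_contra hall
      push Not at hall
      have hz : center ↥Q = ⊤ := eq_top_iff.2 fun a _ => mem_center_iff.2 fun b => hall b a
      have h := H.Q_ex.2
      rw [hz, card_top, H.Q_card] at h
      norm_num at h
    obtain ⟨b, hab⟩ := ha
    exact hab (Subtype.ext (hc _ (hcon _ a.2) _ (hcon _ b.2)))
  have hbc : ∀ a : ↥A, Commute (a : G) b → ∀ g ∈ A, Commute (a : G) g := fun a _ g hg => hc a a.2 g hg
  let f : ↥A →* ↥Z :=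
    { toFun := fun a => ⟨(a : G) * b * (a : G)⁻¹ * b⁻¹, H.comm_Q (hA a.2) hb⟩
      map_one' := Subtype.ext (by simp)
      map_mul' := fun a c => Subtype.ext (by
        have hz := H.comm_Q (hA c.2) hb
        have h1 := H.Z_comm hz (H.Q_le_S (hA a.2))
        show (a : G) * c * b * ((a : G) * c)⁻¹ * b⁻¹ =
          (a : G) * b * (a : G)⁻¹ * b⁻¹ * ((c : G) * b * (c : G)⁻¹ * b⁻¹)
        rw [H.Z_comm hz (H.Q_le_S (mul_mem (mul_mem (mul_mem (hA a.2) hb) (inv_mem (hA a.2))) (inv_mem hb)))]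
        calc (a : G) * c * b * ((a : G) * c)⁻¹ * b⁻¹ =
            (a : G) * ((c : G) * b * (c : G)⁻¹ * b⁻¹) * (a : G)⁻¹ * ((a : G) * b * (a : G)⁻¹ * b⁻¹) := by group
          _ = (c : G) * b * (c : G)⁻¹ * b⁻¹ * ((a : G) * b * (a : G)⁻¹ * b⁻¹) := by
            rw [h1, mul_inv_cancel_right]) }
  have hker : 27 ∣ Nat.card ↥f.ker := by
    have h := f.ker.card_mul_index
    rw [index_ker] at h
    rcases (Nat.dvd_prime Nat.prime_three).1 (H.card_Z ▸ f.range.card_subgroup_dvd_card) with h3 | h3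
    · rw [h3, mul_one] at h
      exact Dvd.dvd.trans (by norm_num : 27 ∣ 81) (h ▸ hd : 81 ∣ Nat.card ↥f.ker)
    · rw [h3] at h
      exact Nat.dvd_of_mul_dvd_mul_right (by norm_num : 0 < 3) (by rw [h]; exact hd)
  set K := f.ker.map A.subtype
  have hKb : ∀ k ∈ K, Commute k b := by
    rintro _ ⟨a, ha, rfl⟩
    exact mul_inv_eq_iff_eq_mul.1 (mul_inv_eq_one.1 (congrArg Subtype.val (MonoidHom.mem_ker.1 ha)))
  have hQeq : A ⊔ zpowers b = Q := by
    refine eq_of_le_of_card_ge (sup_le hA (zpowers_le.2 hb)) ?_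
    obtain ⟨i, hi⟩ := (H.Q_pgroup.to_le (sup_le hA (zpowers_le.2 hb))).exists_card_eq
    have h1 : 3 ^ 4 ∣ Nat.card ↥(A ⊔ zpowers b : Subgroup G) := hd.trans (card_dvd_of_le le_sup_left)
    have h2 : 81 < Nat.card ↥(A ⊔ zpowers b : Subgroup G) := by
      by_contra hle
      have hA81 : 81 ≤ Nat.card ↥A := Nat.le_of_dvd Nat.card_pos hd
      have he : A = A ⊔ zpowers b := eq_of_le_of_card_ge le_sup_left (by omega)
      exact hbA (he ▸ mem_sup_right (mem_zpowers b))
    rw [H.Q_card, hi]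
    rw [hi] at h2
    rcases Nat.lt_or_ge i 5 with h | h
    · have : 3 ^ i ≤ 3 ^ 4 := Nat.pow_le_pow_right (by norm_num) (by omega)
      omega
    · exact (by norm_num : (243 : ℕ) = 3 ^ 5) ▸ Nat.pow_le_pow_right (by norm_num) h
  have hKc : K ≤ (center ↥Q).map Q.subtype := by
    intro k hk
    have hkA : k ∈ A := map_subtype_le _ hk
    have hle : Q ≤ centralizer ({k} : Set G) := by
      rw [← hQeq]
      exact sup_le (fun a ha => mem_centralizer_singleton_iff.2 (hc a ha k hkA))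
        (zpowers_le.2 (mem_centralizer_singleton_iff.2 (hKb k hk).symm.eq))
    exact ⟨⟨k, hA hkA⟩, mem_center_iff.2 fun q => Subtype.ext (mem_centralizer_singleton_iff.1 (hle q.2)), rfl⟩
  have h := card_le_of_le hKc
  rw [← H.Z_eq_center.1, H.card_Z, card_map_of_injective A.subtype_injective] at h
  have := Nat.le_of_dvd Nat.card_pos hker
  omega

end Cfsg.Agent.McLThree
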