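import Cfsg.Agent.Lib.McLThree.NormZ
import Cfsg.Agent.Lib.McLThree.Five

/-!
# The shape of `N(Z) ∩ C(t)` modulo `t`

It is `Sym 3 × Sym 5` when `C(Z) ∩ C(t)` induces all automorphisms of `L₀/Q`, and the subgroup of equal
signs otherwise.
-/

set_option autoImplicit false
set_option linter.unusedSectionVars false
set_option linter.style.haveILetI false

namespace Cfsg.Agent.McLThree

open Subgroup
open scoped Pointwise

universe u

theorem perm_three {X : Type*} [Group X] [Finite X] (hc : Nat.card X = 6) {a b : X}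
    (hne : a * b ≠ b * a) : Nonempty (X ≃* Equiv.Perm (Fin 3)) := by
  haveI : Fact (Nat.Prime 2) := ⟨Nat.prime_two⟩
  haveI : Fact (Nat.Prime 3) := ⟨Nat.prime_three⟩
  obtain ⟨d, hd⟩ := exists_prime_orderOf_dvd_card' (G := X) 2 (hc ▸ by norm_num)
  obtain ⟨x, hx⟩ := exists_prime_orderOf_dvd_card' (G := X) 3 (hc ▸ by norm_num)
  set W := zpowers d
  have hW : Nat.card W = 2 := by rw [Nat.card_zpowers, hd]
  have hidx : Nat.card (X ⧸ W) = 3 := by
    have := W.card_mul_index
    rw [hW, hc] at this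
    show W.index = 3
    omega
  have hsup : zpowers x ⊔ W = ⊤ := by
    refine eq_top_of_card_eq _ (le_antisymm (card_le_card_group _) ?_)
    rw [hc]
    have h2 : 2 ∣ Nat.card ↥(zpowers x ⊔ W) := hW ▸ card_dvd_of_le le_sup_right
    have h3 : 3 ∣ Nat.card ↥(zpowers x ⊔ W) := by
      rw [← hx, ← Nat.card_zpowers]; exact card_dvd_of_le le_sup_left
    exact Nat.le_of_dvd Nat.card_pos (Nat.Coprime.mul_dvd_of_dvd_of_dvd (by norm_num) h2 h3)
  have hcomm : d * x ≠ x * d := by
    intro h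
    have hxc : zpowers x ⊔ W ≤ centralizer ({x, d} : Set X) := by
      refine sup_le (zpowers_le.2 ?_) (zpowers_le.2 ?_) <;> rw [mem_centralizer_iff] <;>
        rintro g (rfl | rfl) <;> first | rfl | exact h | exact h.symm
    have hc2 : ∀ g : X, g ∈ centralizer ({x, d} : Set X) := fun g => hxc (hsup.ge (mem_top g))
    have hxa : zpowers x ⊔ W ≤ centralizer ({b} : Set X) := by
      refine sup_le (zpowers_le.2 ?_) (zpowers_le.2 ?_) <;> rw [mem_centralizer_singleton_iff]
      · exact mem_centralizer_iff.1 (hc2 b) x (by simp) |>.trans rfl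
      · exact mem_centralizer_iff.1 (hc2 b) d (by simp) |>.trans rfl
    exact hne (mem_centralizer_singleton_iff.1 (hxa (hsup.ge (mem_top a))))
  have hcore : W.normalCore = ⊥ := by
    rcases (Nat.dvd_prime Nat.prime_two).1 (hW ▸ card_dvd_of_le W.normalCore_le) with h | h
    · exact card_eq_one.1 h
    exfalso
    have he : W.normalCore = W := eq_of_le_of_card_ge W.normalCore_le (by rw [hW, h])
    have hn : x * d * x⁻¹ ∈ W :=
      he.le (Normal.conj_mem inferInstance d (he.ge (mem_zpowers d)) x)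
    obtain ⟨i, hi⟩ := mem_zpowers_iff.1 hn
    rw [← zpow_mod_orderOf, hd] at hi
    rcases Int.emod_two_eq_zero_or_one i with h' | h' <;> push_cast at hi <;> rw [h'] at hi
    · rw [zpow_zero] at hi
      have := _root_.conj_eq_one_iff.1 hi.symm
      rw [this, orderOf_one] at hd
      omega
    · rw [zpow_one] at hi
      exact hcomm (mul_inv_eq_iff_eq_mul.1 hi.symm).symm
  let φ := MulAction.toPermHom X (X ⧸ W)
  have hinj : Function.Injective φ := by
    rw [← MonoidHom.ker_eq_bot_iff, ← normalCore_eq_ker, hcore]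
  haveI : Fintype (X ⧸ W) := Fintype.ofFinite _
  have hbij : Function.Bijective φ := hinj.bijective_of_nat_card_le (by
    rw [Nat.card_perm, hidx, hc]; decide)
  exact ⟨(MulEquiv.ofBijective φ hbij).trans
    (Equiv.permCongrHom (Fintype.equivFinOfCardEq (by rw [← Nat.card_eq_fintype_card]; exact hidx)))⟩

theorem sign_three : (∀ p : Equiv.Perm (Fin 3), p ^ 3 = 1 → Equiv.Perm.sign p = 1) ∧
    ∀ p q : Equiv.Perm (Fin 3), q ^ 3 = 1 → q ≠ 1 → p * q * p⁻¹ = q⁻¹ → Equiv.Perm.sign p = -1 := by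
  decide +kernel

theorem five_four_powers : five5 ^ 6 = five5 ∧ four5 ^ 9 = four5 ∧ five5 ^ 5 = 1 ∧ four5 ^ 4 = 1 := by
  decide +kernel

variable {G : Type u} [Group G] [Finite G] {S : Sylow 3 G} {Z J M₀ L₀ Q : Subgroup G}
  (H : Hyp S Z J M₀ L₀ Q) {π : ↥L₀ →* SL5} {t f : G} (F : Frame Q L₀ π t f)
  {s z z' : G} (K : JSide Z J L₀ t s z z')

/-- `N(Z) ∩ C(t)`. -/
abbrev normZt (Z : Subgroup G) (t : G) : Subgroup G := normalizer (Z : Set G) ⊓ centralizer ({t} : Set G)

/-- The subgroup generated by the elements of order prime to three of `C(Z) ∩ C(t)`. -/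
def primeGen (Z : Subgroup G) (t : G) : Subgroup G :=
  Subgroup.closure {x | x ∈ centZt Z t ∧ ¬ 3 ∣ orderOf x}

theorem primeGen_le (Z : Subgroup G) (t : G) : primeGen Z t ≤ centZt Z t := by
  rw [primeGen, Subgroup.closure_le]
  exact fun x hx => hx.1

include H F

theorem Hyp.centZt_le : centZt Z t ≤ normZt Z t := inf_le_inf_right _ H.cent_le

include K

theorem Hyp.conj_centZt {g x : G} (hg : g ∈ normZt Z t) (hx : x ∈ centZt Z t) :
    g * x * g⁻¹ ∈ centZt Z t := by
  have hgt : Commute g t := mem_centralizer_singleton_iff.1 hg.2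
  refine ⟨mem_centralizer_iff.2 fun w hw => ?_, mem_centralizer_singleton_iff.2
    ((hgt.mul_left (mem_centralizer_singleton_iff.1 hx.2)).mul_left hgt.inv_left).eq⟩
  have hw' : g⁻¹ * w * g ∈ Z := (mem_normalizer_iff''.1 hg.1 w).1 hw
  have h := mem_centralizer_iff.1 hx.1 _ hw'
  calc w * (g * x * g⁻¹) = g * ((g⁻¹ * w * g) * x) * g⁻¹ := by group
    _ = g * (x * (g⁻¹ * w * g)) * g⁻¹ := by rw [h]
    _ = _ := by group

theorem Hyp.primeGen_normal : (primeGen Z t).subgroupOf (normZt Z t) |>.Normal := by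
  refine ⟨fun x hx g => ?_⟩
  have hle : primeGen Z t ≤ (primeGen Z t).comap (MulAut.conj (g : G)).toMonoidHom := by
    rw [primeGen, Subgroup.closure_le]
    rintro y ⟨hy, hy3⟩
    refine Subgroup.subset_closure ⟨H.conj_centZt F K g.2 hy, ?_⟩
    show ¬ 3 ∣ orderOf ((MulAut.conj (g : G)).toMonoidHom y)
    rwa [orderOf_injective _ (MulAut.conj (g : G)).injective]
  exact hle hx

theorem Hyp.primeGen_normal_cent : (primeGen Z t).subgroupOf (centZt Z t) |>.Normal := by
  refine ⟨fun x hx g => ?_⟩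
  exact (H.primeGen_normal F K).conj_mem ⟨x, H.centZt_le F x.2⟩ hx ⟨g, H.centZt_le F g.2⟩

theorem Hyp.t_primeGen : t ∈ primeGen Z t :=
  Subgroup.subset_closure ⟨⟨H.L_le_cent F.t_mem, mem_centralizer_singleton_iff.2 rfl⟩,
    by rw [F.t_two]; norm_num⟩

/-- A lift of order prime to three. -/
theorem Hyp.conj_mem_primeGen {σ : SL5} {n m : ℕ} (hn : σ ^ n = 1) (hm : σ ^ (3 * m) = σ) (hn3 : ¬ 3 ∣ n) :
    ∃ c : ↥(centZt Z t), (c : G) ∈ primeGen Z t ∧ H.actK F c = MulAut.conj σ := by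
  obtain ⟨c, hc, hct⟩ := F.lift σ
  have hπ : π (c ^ (3 * m)) = σ := by rw [map_pow, hc, hm]
  refine ⟨⟨((c ^ (3 * m) : ↥L₀) : G), H.L_le_cent (c ^ (3 * m)).2, ?_⟩, ?_, ?_⟩
  · rw [Subgroup.coe_pow]
    exact mem_centralizer_singleton_iff.2 (hct.pow_left _).eq
  · refine Subgroup.subset_closure ⟨⟨H.L_le_cent (c ^ (3 * m)).2, ?_⟩, fun h => ?_⟩
    · rw [Subgroup.coe_pow]
      exact mem_centralizer_singleton_iff.2 (hct.pow_left _).eq
    · have hpow : ((c ^ (3 * m) : ↥L₀) : G) ^ n = 1 := by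
        rw [Subgroup.coe_pow, ← pow_mul, show 3 * m * n = n * 3 * m by ring, pow_mul,
          H.orderOf_of_ker F.ker c (by rw [hc, hn]), one_pow]
      exact hn3 (h.trans (orderOf_dvd_of_pow_eq_one hpow))
  · show H.act F _ = _
    rw [H.act_of_mem F _ ((c ^ (3 * m) : ↥L₀).2 : ((_ : ↥(normalizer (Z : Set G))) : G) ∈ L₀)]
    exact congrArg MulAut.conj hπ

/-- The image of `B` is everything. -/
theorem Hyp.primeGen_map : ((primeGen Z t).subgroupOf (centZt Z t)).map (H.actK F) = (H.actK F).range := by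
  set W := ((primeGen Z t).subgroupOf (centZt Z t)).map (H.actK F)
  have hinn : (MulAut.conj (G := SL5)).range ≤ W := by
    obtain ⟨f6, f9, f5, f4⟩ := five_four_powers
    obtain ⟨a, ha, hae⟩ := H.conj_mem_primeGen F K (σ := five5) (n := 5) (m := 2) f5 f6 (by norm_num)
    obtain ⟨b, hb, hbe⟩ := H.conj_mem_primeGen F K (σ := four5) (n := 4) (m := 3) f4 f9 (by norm_num)
    rintro _ ⟨σ, rfl⟩
    obtain ⟨i, j, k, l, rfl⟩ := gen_word σ
    simp only [map_mul, map_pow]
    have h5 : MulAut.conj five5 ∈ W := ⟨a, ha, hae⟩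
    have h4 : MulAut.conj four5 ∈ W := ⟨b, hb, hbe⟩
    repeat' apply mul_mem
    all_goals first
      | exact pow_mem h5 _
      | exact h4
  refine le_antisymm (Subgroup.map_le_range _ _) ?_
  rintro _ ⟨k, rfl⟩
  set n := orderOf k
  set p := n.factorization 3
  -- the part of order prime to three, and the rest
  have hk' : k ^ 3 ^ p ∈ (primeGen Z t).subgroupOf (centZt Z t) := by
    refine mem_subgroupOf.2 (Subgroup.subset_closure ⟨(k ^ 3 ^ p).2, ?_⟩)
    rw [Subgroup.orderOf_coe, orderOf_pow, Nat.gcd_eq_right (Nat.ordProj_dvd n 3)]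
    exact Nat.not_dvd_ordCompl Nat.prime_three (orderOf_pos k).ne'
  have h1 : H.actK F k ^ 3 ^ p ∈ W := by rw [← map_pow]; exact ⟨_, hk', rfl⟩
  have h2 : H.actK F k ^ 2 ∈ W := by
    refine hinn ?_
    rcases H.card_centZt F with ⟨-, hr⟩ | ⟨hc, -⟩
    · exact pow_mem (hr.le ⟨k, rfl⟩) 2
    · set I := (MulAut.conj (G := SL5)).range
      have hI := I.card_mul_index
      rw [card_inn] at hI
      have := card_mulAut_SL5_le
      have hidx : I.index ≤ 2 := by omega
      have hpos : 0 < I.index := Nat.pos_of_ne_zero index_ne_zero_of_finite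
      rcases (show I.index = 1 ∨ I.index = 2 by omega) with h | h
      · rw [index_eq_one.1 h]; exact mem_top _
      · exact sq_mem_of_index_two h _
  obtain ⟨m, hm⟩ : ∃ m, 3 ^ p = 2 * m + 1 := ((by decide : Odd 3).pow)
  rw [hm, pow_succ, pow_mul] at h1
  exact (mul_mem_cancel_left (pow_mem h2 m)).1 h1

/-- `B` misses `Z`. -/
theorem Hyp.z_not_primeGen : z ∉ primeGen Z t := by
  set A := (Ej J t).subgroupOf (centZt Z t) with hA
  have hEK : Ej J t ≤ centZt Z t := le_inf (fun x hx => mem_centralizer_iff.2 fun w hw =>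
    H.J_comm w (H.Z_le_J F hw) x hx.1) inf_le_right
  haveI : IsMulCommutative ↥A := ⟨⟨fun a b => Subtype.ext (Subtype.ext
    (H.J_comm _ (mem_subgroupOf.1 a.2).1 _ (mem_subgroupOf.1 b.2).1))⟩⟩
  letI : CommGroup ↥A := { (inferInstance : Group ↥A) with mul_comm := fun a b => IsMulCommutative.is_comm.comm a b }
  set τ : ↥(centZt Z t) →* ↥A := MonoidHom.transfer (MonoidHom.id ↥A)
  set zK : ↥(centZt Z t) := ⟨z, hEK (H.Z_le_Ej F K.z_mem)⟩
  have hz : τ zK ≠ 1 := by
    have key : ∀ (k : ℕ) (g₀ : ↥(centZt Z t)), g₀⁻¹ * zK ^ k * g₀ ∈ A → g₀⁻¹ * zK ^ k * g₀ = zK ^ k := by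
      intro k g₀ _
      have hc : Commute g₀ zK := Subtype.ext (mem_centralizer_iff.1 g₀.2.1 z K.z_mem).symm
      rw [mul_assoc, ← (hc.pow_right k).eq, inv_mul_cancel_left]
    intro h1
    rw [MonoidHom.transfer_eq_pow (MonoidHom.id ↥A) zK key] at h1
    have h2 : z ^ A.index = 1 := congrArg (fun a : ↥A => ((a : ↥(centZt Z t)) : G)) h1
    have hidx := A.card_mul_index
    rw [Nat.card_congr (subgroupOfEquivOfLe hEK).toEquiv, H.card_Ej F] at hidx
    haveI : Fact (Nat.Prime 3) := ⟨Nat.prime_three⟩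
    have hd := orderOf_dvd_of_pow_eq_one h2
    rw [orderOf_eq_prime (H.z_cube F K) (H.z_ne F K)] at hd
    rcases H.card_centZt F with ⟨e, -⟩ | ⟨e, -⟩ <;> rw [e] at hidx <;> omega
  intro hzB
  have hle : primeGen Z t ≤ (τ.ker).map (centZt Z t).subtype := by
    rw [primeGen, Subgroup.closure_le]
    rintro x ⟨hx, hx3⟩
    refine ⟨⟨x, hx⟩, orderOf_eq_one_iff.1 (Nat.eq_one_of_dvd_coprimes
      ((Nat.prime_three.coprime_iff_not_dvd).2 hx3) (k := orderOf (τ ⟨x, hx⟩)) ?_ ?_), rfl⟩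
    · exact orderOf_dvd_of_pow_eq_one (Subtype.ext (Subtype.ext (H.J_exp _ (mem_subgroupOf.1 (τ ⟨x, hx⟩).2).1)))
    · exact (orderOf_map_dvd τ _).trans (by rw [orderOf_mk])
  obtain ⟨y, hy, hye⟩ := hle hzB
  have : y = zK := Subtype.ext hye
  exact hz (this ▸ hy)

/-- The kernel of the action on `B` is `⟨t⟩`. -/
theorem Hyp.primeGen_ker {g : G} (hg : g ∈ primeGen Z t) (h1 : H.actK F ⟨g, primeGen_le Z t hg⟩ = 1) :
    g ∈ zpowers t := by
  haveI : Fact (Nat.Prime 3) := ⟨Nat.prime_three⟩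
  have hno : ∀ w ∈ Z, w ∈ primeGen Z t → w = 1 := by
    intro w hw hwB
    rw [← H.Z_eq_zpowers F K] at hw
    obtain ⟨k, hk⟩ := mem_zpowers_iff.1 hw
    rcases order_three (H.z_cube F K) k with e | e | e <;> rw [e] at hk
    · exact hk.symm
    · exact absurd (hk ▸ hwB) (H.z_not_primeGen F K)
    · exact absurd (by simpa using inv_mem (hk ▸ hwB : z⁻¹ ∈ primeGen Z t)) (H.z_not_primeGen F K)
  rcases (H.ker_actK F).1 h1 with h | h
  · rw [hno g h hg]; exact one_mem _
  · have h' := hno _ h (mul_mem hg (H.t_primeGen F K))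
    rw [show g = g * t * t⁻¹ by group, h', one_mul]
    exact inv_mem (mem_zpowers t)

theorem Hyp.card_primeGen : 3 * Nat.card ↥(primeGen Z t) = Nat.card ↥(centZt Z t) := by
  set B' := (primeGen Z t).subgroupOf (centZt Z t)
  set ψ := (H.actK F).comp B'.subtype
  have hr : ψ.range = (H.actK F).range := by
    rw [MonoidHom.range_comp, Subgroup.range_subtype, H.primeGen_map F K]
  have hk : Nat.card ↥ψ.ker = 2 := by
    refine Eq.trans ?_ ((Nat.card_zpowers t).trans F.t_two)
    refine Nat.card_congr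
      { toFun := fun x => ⟨((x : ↥B') : G), H.primeGen_ker F K (mem_subgroupOf.1 (x : ↥B').2) x.2⟩
        invFun := fun y => ⟨⟨⟨y, primeGen_le Z t (zpowers_le.2 (H.t_primeGen F K) y.2)⟩,
          mem_subgroupOf.2 (zpowers_le.2 (H.t_primeGen F K) y.2)⟩, ?_⟩
        left_inv := fun x => rfl
        right_inv := fun y => rfl }
    show H.actK F _ = 1
    rw [H.ker_actK F]
    obtain ⟨i, hi⟩ := mem_zpowers_iff.1 y.2
    have h2 : t ^ (2 : ℤ) = 1 := by rw [zpow_two]; exact H.tt F K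
    rw [zpow_eq_zpow_emod i h2] at hi
    rcases Int.emod_two_eq_zero_or_one i with e | e <;> rw [e] at hi
    · exact Or.inl (by show (y : G) ∈ Z; rw [← hi, zpow_zero]; exact one_mem _)
    · exact Or.inr (by show (y : G) * t ∈ Z; rw [← hi, zpow_one, H.tt F K]; exact one_mem _)
  have h := ψ.ker.card_mul_index
  rw [index_ker, hr, hk, Nat.card_congr (subgroupOfEquivOfLe (primeGen_le Z t)).toEquiv] at h
  have h' := (H.actK F).ker.card_mul_index
  rw [index_ker, H.card_ker_actK F] at h'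
  omega

theorem Hyp.card_normZt : Nat.card ↥(normZt Z t) = 2 * Nat.card ↥(centZt Z t) := by
  obtain ⟨b, -, hbt, -, -, hbz, -⟩ := H.exists_b F K
  set Kc := (centZt Z t).subgroupOf (normZt Z t)
  have hidx : Kc.index = 2 := by
    refine index_eq_two_iff.2 ⟨⟨b, H.mem_norm_Z F K hbz, mem_centralizer_singleton_iff.2 hbt.eq⟩, fun g => ?_⟩
    have hfix : ∀ x : G, Commute x t → x * z * x⁻¹ = z → x ∈ centZt Z t := fun x hx hxz =>
      ⟨H.mem_cent_Z F K hxz, mem_centralizer_singleton_iff.2 hx.eq⟩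
    have hgt : Commute (g : G) t := mem_centralizer_singleton_iff.1 g.2.2
    have hno : ∀ x : G, x ∈ centZt Z t → x * z * x⁻¹ = z := fun x hx => H.conj_Z hx.1 K.z_mem
    have hzz : z⁻¹ ≠ z := fun h => H.z_ne F K (by
      have h2 : z * z = 1 := by nth_rw 1 [← h]; rw [inv_mul_cancel]
      have h3 := H.z_cube F K
      rwa [pow_succ, pow_two, h2, one_mul] at h3)
    rcases H.norm_Z_cases F K g.2.1 with h | h
    · refine Or.inr ⟨hfix _ hgt h, fun hm => hzz ?_⟩
      have := hno _ hm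
      change (g : G) * b * z * ((g : G) * b)⁻¹ = z at this
      rw [show (g : G) * b * z * ((g : G) * b)⁻¹ = (g : G) * (b * z * b⁻¹) * (g : G)⁻¹ by group, hbz,
        ← conj_inv, h] at this
      exact this
    · refine Or.inl ⟨hfix _ (hgt.mul_left hbt) ?_, fun hm => hzz (h.symm.trans (hno _ hm))⟩
      show (g : G) * b * z * ((g : G) * b)⁻¹ = z
      rw [show (g : G) * b * z * ((g : G) * b)⁻¹ = (g : G) * (b * z * b⁻¹) * (g : G)⁻¹ by group, hbz,
        ← conj_inv, h, inv_inv]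
  have h := Kc.card_mul_index
  rw [hidx, Nat.card_congr (subgroupOfEquivOfLe (H.centZt_le F)).toEquiv] at h
  omega

/-- The action of `N(Z) ∩ C(t)` on `L₀/Q`. -/
noncomputable def Hyp.actN : ↥(normZt Z t) →* MulAut SL5 :=
  (H.act F).comp (Subgroup.inclusion inf_le_left)

/-- Coordinates for `N(Z) ∩ C(t)` modulo `t`. -/
theorem Hyp.exists_shape : ∃ φ : ↥(normZt Z t) →* Equiv.Perm (Fin 3) × Equiv.Perm (Fin 5),
    (∀ g, φ g = 1 ↔ (g : G) ∈ zpowers t) ∧
    (Nat.card ↥(centZt Z t) = 720 → Function.Surjective φ) ∧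
    (Nat.card ↥(centZt Z t) = 360 → φ.range = (((Equiv.Perm.sign).comp
      (MonoidHom.fst (Equiv.Perm (Fin 3)) (Equiv.Perm (Fin 5)))) *
        ((Equiv.Perm.sign).comp (MonoidHom.snd (Equiv.Perm (Fin 3)) (Equiv.Perm (Fin 5))))).ker) := by
  classical
  obtain ⟨b, hbL, hbt, hbb, hbN, hbz, hbz'⟩ := H.exists_b F K
  set bN : ↥(normZt Z t) := ⟨b, H.mem_norm_Z F K hbz, mem_centralizer_singleton_iff.2 hbt.eq⟩
  set zN : ↥(normZt Z t) := ⟨z, le_normalizer K.z_mem, (H.Z_le_Ej F K.z_mem).2⟩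
  set B' := (primeGen Z t).subgroupOf (normZt Z t)
  haveI : B'.Normal := H.primeGen_normal F K
  have hB'card : Nat.card ↥B' = Nat.card ↥(primeGen Z t) :=
    Nat.card_congr (subgroupOfEquivOfLe ((primeGen_le Z t).trans (H.centZt_le F))).toEquiv
  set q := QuotientGroup.mk' B' with hq
  have h6 : Nat.card (↥(normZt Z t) ⧸ B') = 6 := by
    have h := B'.card_eq_card_quotient_mul_card_subgroup
    rw [hB'card, H.card_normZt F K, ← H.card_primeGen F K] at h
    have hpos : 0 < Nat.card ↥(primeGen Z t) := Nat.card_pos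
    exact Nat.eq_of_mul_eq_mul_right hpos (by rw [← h]; ring)
  have hz1 : q zN ≠ 1 := fun h => H.z_not_primeGen F K (mem_subgroupOf.1 ((QuotientGroup.eq_one_iff _).1 h))
  have hz3 : q zN ^ 3 = 1 := by rw [← map_pow, show zN ^ 3 = 1 from Subtype.ext (H.z_cube F K), map_one]
  have hbzq : q bN * q zN * (q bN)⁻¹ = (q zN)⁻¹ := by
    rw [← map_inv, ← map_inv, ← map_mul, ← map_mul]
    exact congrArg q (Subtype.ext hbz)
  obtain ⟨e3⟩ := perm_three h6 (a := q bN) (b := q zN) (fun h => hz1 (by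
    rw [h, mul_inv_cancel_right] at hbzq
    have h2 : q zN * q zN = 1 := by nth_rw 2 [hbzq]; rw [mul_inv_cancel]
    rwa [pow_succ, pow_two, h2, one_mul] at hz3))
  obtain ⟨α, hα⟩ : ∃ α : MulAut SL5, α ∉ (MulAut.conj (G := SL5)).range := by
    rcases H.card_centZt F with ⟨-, hr⟩ | ⟨hc, hr⟩
    · exact ⟨_, H.b_outer F K hbL hbt hbb hbN hbz hbz'⟩
    · by_contra hcon
      push Not at hcon
      have htop : (MulAut.conj (G := SL5)).range = ⊤ := eq_top_iff.2 fun α _ => hcon α
      have h' := (H.actK F).ker.card_mul_index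
      rw [index_ker, H.card_ker_actK F, hr, ← htop, card_inn, hc] at h'
      omega
  obtain ⟨e5, he5⟩ := exists_equiv_perm α hα
  set φ : ↥(normZt Z t) →* Equiv.Perm (Fin 3) × Equiv.Perm (Fin 5) :=
    (e3.toMonoidHom.comp q).prod (e5.toMonoidHom.comp (H.actN F)) with hφ
  have hker : ∀ g, φ g = 1 ↔ (g : G) ∈ zpowers t := by
    intro g
    constructor
    · intro h
      have h1 : q g = 1 := e3.injective ((congrArg Prod.fst h).trans (map_one e3).symm)
      have h2 : H.actN F g = 1 := e5.injective ((congrArg Prod.snd h).trans (map_one e5).symm)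
      exact H.primeGen_ker F K (mem_subgroupOf.1 ((QuotientGroup.eq_one_iff _).1 h1)) h2
    · intro h
      have hgB : (g : G) ∈ primeGen Z t := zpowers_le.2 (H.t_primeGen F K) h
      refine Prod.ext ?_ ?_
      · show e3 (q g) = 1
        rw [show q g = 1 from (QuotientGroup.eq_one_iff g).2 (mem_subgroupOf.2 hgB), map_one]
      · show e5 (H.actN F g) = 1
        have : H.actN F g = H.actK F ⟨g, primeGen_le Z t hgB⟩ := rfl
        rw [this, (H.ker_actK F).2 ?_, map_one]
        obtain ⟨i, hi⟩ := mem_zpowers_iff.1 h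
        have h2 : t ^ (2 : ℤ) = 1 := by rw [zpow_two]; exact H.tt F K
        rw [zpow_eq_zpow_emod i h2] at hi
        rcases Int.emod_two_eq_zero_or_one i with e | e <;> rw [e] at hi
        · exact Or.inl (by show (g : G) ∈ Z; rw [← hi, zpow_zero]; exact one_mem _)
        · exact Or.inr (by show (g : G) * t ∈ Z; rw [← hi, zpow_one, H.tt F K]; exact one_mem _)
  have hcardk : Nat.card ↥φ.ker = 2 := by
    rw [show φ.ker = (zpowers t).subgroupOf (normZt Z t) from Subgroup.ext fun g => by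
      rw [MonoidHom.mem_ker, hker, mem_subgroupOf],
      Nat.card_congr (subgroupOfEquivOfLe (zpowers_le.2 (show t ∈ normZt Z t from
        ⟨H.L_le F.t_mem, mem_centralizer_singleton_iff.2 rfl⟩))).toEquiv, Nat.card_zpowers, F.t_two]
  have hrange := φ.ker.card_mul_index
  rw [index_ker, hcardk, H.card_normZt F K] at hrange
  have h35 : Nat.card (Equiv.Perm (Fin 3) × Equiv.Perm (Fin 5)) = 720 := by
    rw [Nat.card_prod, Nat.card_perm, Nat.card_perm, Nat.card_eq_fintype_card, Nat.card_eq_fintype_card,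
      Fintype.card_fin, Fintype.card_fin]
    rfl
  refine ⟨φ, hker, fun hc => MonoidHom.range_eq_top.1 (eq_top_of_card_eq _ (by omega)), fun hc => ?_⟩
  set bisgn := ((Equiv.Perm.sign).comp (MonoidHom.fst (Equiv.Perm (Fin 3)) (Equiv.Perm (Fin 5)))) *
    ((Equiv.Perm.sign).comp (MonoidHom.snd (Equiv.Perm (Fin 3)) (Equiv.Perm (Fin 5))))
  have hinnK : (H.actK F).range = (MulAut.conj (G := SL5)).range := by
    rcases H.card_centZt F with ⟨-, hr⟩ | ⟨hc', -⟩
    · exact hr
    · omega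
  have hle : φ.range ≤ bisgn.ker := by
    rintro _ ⟨g, rfl⟩
    show Equiv.Perm.sign (e3 (q g)) * Equiv.Perm.sign (e5 (H.actN F g)) = 1
    have hK : ∀ k : ↥(normZt Z t), (k : G) ∈ centZt Z t →
        Equiv.Perm.sign (e3 (q k)) = 1 ∧ Equiv.Perm.sign (e5 (H.actN F k)) = 1 := by
      intro k hk
      refine ⟨sign_three.1 _ ?_, (he5 _).2 (hinnK ▸ ⟨⟨k, hk⟩, rfl⟩)⟩
      rw [← map_pow, ← map_pow, show q (k ^ 3) = 1 from (QuotientGroup.eq_one_iff _).2 (mem_subgroupOf.2 ?_), map_one]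
      set B2 := (primeGen Z t).subgroupOf (centZt Z t)
      haveI : B2.Normal := H.primeGen_normal_cent F K
      have h3 : B2.index = 3 := by
        have h := B2.card_mul_index
        rw [Nat.card_congr (subgroupOfEquivOfLe (primeGen_le Z t)).toEquiv, ← H.card_primeGen F K] at h
        exact Nat.eq_of_mul_eq_mul_left (Nat.card_pos (α := ↥(primeGen Z t))) (by rw [h]; ring)
      have := B2.pow_index_mem ⟨k, hk⟩
      rw [h3] at this
      exact mem_subgroupOf.1 this
    rcases H.norm_Z_cases F K g.2.1 with h | h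
    · have hk : (g : G) ∈ centZt Z t := ⟨H.mem_cent_Z F K h, g.2.2⟩
      rw [(hK g hk).1, (hK g hk).2, one_mul]
    · have hgb : ((g * bN : ↥(normZt Z t)) : G) ∈ centZt Z t := by
        refine ⟨H.mem_cent_Z F K ?_, (g * bN).2.2⟩
        show (g : G) * b * z * ((g : G) * b)⁻¹ = z
        rw [show (g : G) * b * z * ((g : G) * b)⁻¹ = (g : G) * (b * z * b⁻¹) * (g : G)⁻¹ by group, hbz,
          ← conj_inv, h, inv_inv]
      obtain ⟨s1, s2⟩ := hK _ hgb
      rw [map_mul, map_mul, map_mul] at s1 s2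
      have hb3 : Equiv.Perm.sign (e3 (q bN)) = -1 := by
        refine sign_three.2 _ (e3 (q zN)) (by rw [← map_pow, hz3, map_one])
          (fun h' => hz1 (e3.injective (h'.trans (map_one e3).symm))) ?_
        simp only [← map_inv e3, ← map_mul e3]; rw [hbzq]
      have hb5 : Equiv.Perm.sign (e5 (H.actN F bN)) = -1 := by
        rcases Int.units_eq_one_or (Equiv.Perm.sign (e5 (H.actN F bN))) with h' | h'
        · exact absurd ((he5 _).1 h') (H.b_outer F K hbL hbt hbb hbN hbz hbz')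
        · exact h'
      rw [hb3] at s1
      rw [hb5] at s2
      rw [mul_neg, mul_one, neg_eq_iff_eq_neg] at s1 s2
      rw [s1, s2]; rfl
  refine eq_of_le_of_card_ge hle ?_
  have hs : bisgn (Equiv.swap 0 1, 1) = -1 := by simp [bisgn]
  have hk := bisgn.ker.card_mul_index
  rw [index_ker] at hk
  have h2 : Nat.card ↥bisgn.range = 2 := by
    rw [MonoidHom.range_eq_top.2 fun u => ?_, card_top, Nat.card_eq_fintype_card, Fintype.card_units_int]
    rcases Int.units_eq_one_or u with rfl | rfl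
    · exact ⟨1, map_one _⟩
    · exact ⟨_, hs⟩
  rw [h2] at hk
  omega

end Cfsg.Agent.McLThree
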