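import Cfsg.Agent.Lib.McLThree.Elem

/-!
# The facts about `J` used at the involution `t`, and their first consequences in `C(t)`

`JSide` collects what is used about `N(J)`: an element of `C(t)` exchanging `z` and a second point `z'` of
`E`, the centralisers of the two other lines of `E`, and three facts on elements of `C(t) ∩ N(J)`.
-/

set_option autoImplicit false
set_option linter.unusedSectionVars false
set_option linter.style.haveILetI false

namespace Cfsg.Agent.McLThree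

open Subgroup
open scoped Pointwise

universe u

variable {G : Type u} [Group G]

/-- The other lines of `E`. -/
def IsY (z z' y : G) : Prop := y = z * z' ∨ y = z * z'⁻¹

/-- What is used about `N(J)`. -/
structure JSide (Z J L₀ : Subgroup G) (t s z z' : G) : Prop where
  z_mem : z ∈ Z
  z'_mem : z' ∈ Ej J t
  z'_not : z' ∉ Z
  s_t : Commute s t
  s_J : s ∈ normalizer (J : Set G)
  s_z : s * z * s⁻¹ = z'
  s_z' : s * z' * s⁻¹ ∈ Z
  cent_y : ∀ y, IsY z z' y → centralizer ({y} : Set G) ≤ normalizer (J : Set G)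
  sq_y : ∀ y, IsY z z' y → ∀ g, Commute g y → Commute g t → g * g ∈ Ej J t ∨ g * g * t ∈ Ej J t
  no_comm : ∀ g g', g ∈ L₀ → s⁻¹ * g' * s ∈ L₀ → Commute g t → Commute g' t →
    g ∈ normalizer (J : Set G) → g' ∈ normalizer (J : Set G) → g * g = t → g' * g' = t →
    g * z * g⁻¹ = z → g * z' * g⁻¹ = z'⁻¹ → g' * z * g'⁻¹ = z⁻¹ → g' * z' * g'⁻¹ = z' → g * g' ≠ g' * g
  no_both : ∀ i d, i * i = 1 → i ≠ t → Commute i t → Commute i (z * z') → Commute d t →
    d ∈ centralizer (Ej J t : Set G) → d * d = t →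
    ¬ ((∃ g ∈ normalizer (J : Set G), g * t * g⁻¹ = i) ∧ (∃ g ∈ normalizer (J : Set G), g * t * g⁻¹ = i * d))

theorem order_three {G : Type u} [Group G] {a : G} (h : a ^ 3 = 1) (k : ℤ) :
    a ^ k = 1 ∨ a ^ k = a ∨ a ^ k = a⁻¹ := by
  rw [zpow_eq_zpow_emod k (n := 3) (by exact_mod_cast h)]
  have h0 := Int.emod_nonneg k (show (3 : ℤ) ≠ 0 by norm_num)
  have h3 := Int.emod_lt_of_pos k (show (0 : ℤ) < 3 by norm_num)
  rcases (show k % 3 = 0 ∨ k % 3 = 1 ∨ k % 3 = 2 by omega) with e | e | e <;> rw [e]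
  · exact Or.inl (zpow_zero a)
  · exact Or.inr (Or.inl (zpow_one a))
  · refine Or.inr (Or.inr (eq_inv_of_mul_eq_one_left ?_))
    rw [zpow_two, ← h, pow_succ, pow_two]

variable [Finite G] {S : Sylow 3 G} {Z J M₀ L₀ Q : Subgroup G}
  (H : Hyp S Z J M₀ L₀ Q) {π : ↥L₀ →* SL5} {t f : G} (F : Frame Q L₀ π t f)
include H F

/-- `C(Z)` does not normalize `J`. -/
theorem Hyp.cent_not_le : ¬ centralizer (Z : Set G) ≤ normalizer (J : Set G) := by
  intro h
  have hf := h (H.L_le_cent F.f_mem)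
  have hfn : f ∈ normalizer ((J ⊓ Q : Subgroup G) : Set G) := Subgroup.mem_normalizer_fintype fun x hx =>
    ⟨(mem_normalizer_iff.1 hf x).1 hx.1, H.conj_Q (H.L_le_cent F.f_mem) hx.2⟩
  rcases H.eq_Z_or_eq_Q F (le_inf (H.Z_le_J F) H.Z_le_Q) inf_le_right hfn with h' | h' <;>
    have h'' : Nat.card ↥(J ⊓ Q) = _ := congrArg (fun K : Subgroup G => Nat.card ↥K) h'
  · rw [H.card_J_inf_Q F, H.card_Z] at h''; omega
  · rw [H.card_J_inf_Q F, H.Q_card] at h''; omega

variable {s z z' : G} (K : JSide Z J L₀ t s z z')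
include K

theorem Hyp.z_ne : z ≠ 1 := fun h => K.z'_not (by rw [← K.s_z, h]; simp)

theorem Hyp.z_cube : z ^ 3 = 1 := H.Q_exp z (H.Z_le_Q K.z_mem)

theorem Hyp.z'_cube : z' ^ 3 = 1 := H.J_exp z' K.z'_mem.1

theorem Hyp.Z_eq_zpowers : zpowers z = Z := by
  haveI : Fact (Nat.Prime 3) := ⟨Nat.prime_three⟩
  refine eq_of_le_of_card_ge (zpowers_le.2 K.z_mem) ?_
  rw [H.card_Z, Nat.card_zpowers, orderOf_eq_prime (H.z_cube F K) (H.z_ne F K)]

theorem Hyp.cent_Z_eq : centralizer (Z : Set G) = centralizer ({z} : Set G) := by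
  rw [← H.Z_eq_zpowers F K, Subgroup.zpowers_eq_closure, Subgroup.centralizer_closure]

/-- The elements of `E`. -/
theorem Hyp.Ej_cases {e : G} (he : e ∈ Ej J t) :
    e ∈ Z ∨ e ∈ zpowers z' ∨ IsY z z' e ∨ IsY z z' e⁻¹ := by
  haveI : Fact (Nat.Prime 3) := ⟨Nat.prime_three⟩
  set A := zpowers z
  set B := zpowers z'
  have hAB : (A : Set G) * (B : Set G) = (Ej J t : Set G) := by
    have hsub : (A : Set G) * (B : Set G) ⊆ (Ej J t : Set G) := by
      rintro _ ⟨a, ha, b, hb, rfl⟩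
      exact mul_mem (zpowers_le.2 (H.Z_le_Ej F K.z_mem) ha) (zpowers_le.2 K.z'_mem hb)
    refine Set.eq_of_subset_of_ncard_le hsub ?_ (Set.toFinite _)
    rw [← Nat.card_coe_set_eq, ← Nat.card_coe_set_eq]
    have h := Hall.card_mul_inf A B
    have hB : Nat.card ↥B = 3 := by
      rw [Nat.card_zpowers, orderOf_eq_prime (H.z'_cube F K) fun h1 => K.z'_not (h1 ▸ one_mem Z)]
    have hA : Nat.card ↥A = 3 := by rw [show A = Z from H.Z_eq_zpowers F K, H.card_Z]
    have hI : Nat.card ↥(A ⊓ B) = 1 := by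
      rcases (Nat.dvd_prime Nat.prime_three).1 (hB ▸ card_dvd_of_le (inf_le_right : A ⊓ B ≤ B)) with h1 | h1
      · exact h1
      · exfalso
        have he' : A ⊓ B = B := eq_of_le_of_card_ge inf_le_right (by omega)
        exact K.z'_not ((show A = Z from H.Z_eq_zpowers F K) ▸ (he'.ge (mem_zpowers z')).1)
    rw [hA, hB, hI, mul_one] at h
    have h9 : Nat.card ↥(Ej J t : Set G) = 9 := H.card_Ej F
    omega
  rw [← SetLike.mem_coe, ← hAB] at he
  obtain ⟨a, ha, b, hb, rfl⟩ := he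
  obtain ⟨i, rfl⟩ := mem_zpowers_iff.1 ha
  obtain ⟨j, rfl⟩ := mem_zpowers_iff.1 hb
  show z ^ i * z' ^ j ∈ Z ∨ _
  have hc : Commute z z' := H.J_comm z (H.Z_le_J F K.z_mem) z' K.z'_mem.1
  rcases order_three (H.z'_cube F K) j with e2 | e2 | e2
  · exact Or.inl (by rw [e2, mul_one]; exact zpow_mem K.z_mem i)
  all_goals rcases order_three (H.z_cube F K) i with e1 | e1 | e1
  all_goals simp only [e1, e2, one_mul]
  · exact Or.inr (Or.inl (mem_zpowers z'))
  · exact Or.inr (Or.inr (Or.inl (Or.inl rfl)))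
  · refine Or.inr (Or.inr (Or.inr (Or.inr ?_)))
    rw [mul_inv_rev, inv_inv]; exact hc.inv_right.symm.eq
  · exact Or.inr (Or.inl (inv_mem (mem_zpowers z')))
  · exact Or.inr (Or.inr (Or.inl (Or.inr rfl)))
  · refine Or.inr (Or.inr (Or.inr (Or.inl ?_)))
    rw [mul_inv_rev, inv_inv, inv_inv]; exact hc.symm.eq

/-- The normalizer of `E` in `C(t)`. -/
abbrev NE (J : Subgroup G) (t : G) : Subgroup G := normalizer (Ej J t : Set G) ⊓ centralizer ({t} : Set G)

theorem Hyp.norm_J_le_NE {g : G} (hg : g ∈ normalizer (J : Set G)) (hgt : Commute g t) : g ∈ NE J t :=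
  ⟨Subgroup.mem_normalizer_fintype fun x hx => ⟨(mem_normalizer_iff.1 hg x).1 hx.1,
    mem_centralizer_singleton_iff.2 ((hgt.mul_left (mem_centralizer_singleton_iff.1 hx.2)).mul_left
      hgt.inv_left).eq⟩, mem_centralizer_singleton_iff.2 hgt.eq⟩

theorem Hyp.s_NE : s ∈ NE J t := H.norm_J_le_NE F K K.s_J K.s_t

/-- An element of `N(E) ∩ C(t)` sends a point to a point. -/
theorem Hyp.point_image {g w : G} (hg : g ∈ NE J t) (hw : w = z ∨ w = z') :
    g * w * g⁻¹ ∈ Z ∨ g * w * g⁻¹ ∈ zpowers z' := by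
  have hwE : w ∈ Ej J t := by
    rcases hw with rfl | rfl
    · exact H.Z_le_Ej F K.z_mem
    · exact K.z'_mem
  have hnot : ¬ centralizer ({g * w * g⁻¹} : Set G) ≤ normalizer (J : Set G) := by
    intro hle
    refine H.cent_not_le F fun c hc => ?_
    obtain ⟨k, hk, hkz⟩ : ∃ k ∈ normalizer (J : Set G), k * z * k⁻¹ = g * w * g⁻¹ := by
      rcases hw with rfl | rfl
      · exact ⟨g, H.normalizer_Ej_le F hg.1, rfl⟩
      · refine ⟨g * s, mul_mem (H.normalizer_Ej_le F hg.1) K.s_J, ?_⟩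
        rw [← K.s_z]; group
    have hcz : c * z = z * c := (mem_centralizer_iff.1 hc z K.z_mem).symm
    have hm : k * c * k⁻¹ ∈ normalizer (J : Set G) := by
      refine hle (mem_centralizer_singleton_iff.2 ?_)
      rw [← hkz]
      calc k * c * k⁻¹ * (k * z * k⁻¹) = k * (c * z) * k⁻¹ := by group
        _ = k * (z * c) * k⁻¹ := by rw [hcz]
        _ = _ := by group
    have := mul_mem (mul_mem (inv_mem hk) hm) hk
    rwa [show k⁻¹ * (k * c * k⁻¹) * k = c by group] at this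
  rcases H.Ej_cases F K ((mem_normalizer_iff.1 hg.1 w).1 hwE) with h | h | h | h
  · exact Or.inl h
  · exact Or.inr h
  · exact absurd (K.cent_y _ h) hnot
  · refine absurd ((fun x hx => K.cent_y _ h ?_) : centralizer ({g * w * g⁻¹} : Set G) ≤ _) hnot
    exact mem_centralizer_singleton_iff.2 (Commute.inv_right (mem_centralizer_singleton_iff.1 hx)).eq

end Cfsg.Agent.McLThree
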