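import Cfsg.Agent.Lib.McLThree.Orbit

/-!
# The decomposition `J = C_J(t) × [J, t]` and the translations by `Q`

`[J, t] ≤ J ∩ Q`; every element of `[J, t]` is a translation of `z'` by an element of `Q`, in a unique
way modulo `Z`, and no such translation of `z'` is by a non-trivial element of `[J, t]` alone.
-/

set_option autoImplicit false
set_option linter.unusedSectionVars false
set_option linter.style.haveILetI false

namespace Cfsg.Agent.McLThree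

open Subgroup
open scoped Pointwise

universe u

variable {G : Type u} [Group G] [Finite G] {S : Sylow 3 G} {Z J M₀ L₀ Q : Subgroup G}
  (H : Hyp S Z J M₀ L₀ Q) {π : ↥L₀ →* SL5} {t f : G} (F : Frame Q L₀ π t f)
include H

/-- The elements of `J` inverted by `t`. -/
def Hyp.Wj (_F : Frame Q L₀ π t f) : Subgroup G where
  carrier := {x | x ∈ J ∧ t * x * t⁻¹ = x⁻¹}
  one_mem' := ⟨one_mem J, by simp⟩
  mul_mem' := fun {x y} hx hy => ⟨mul_mem hx.1 hy.1, by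
    rw [show t * (x * y) * t⁻¹ = t * x * t⁻¹ * (t * y * t⁻¹) by group, hx.2, hy.2, ← mul_inv_rev,
      H.J_comm y hy.1 x hx.1]⟩
  inv_mem' := fun {x} hx => ⟨inv_mem hx.1, by
    rw [show t * x⁻¹ * t⁻¹ = (t * x * t⁻¹)⁻¹ by group, hx.2]⟩

include F

theorem Hyp.conj_t_conj (x : G) : t * (t * x * t⁻¹) * t⁻¹ = x := by
  have htt : t * t = 1 := by rw [← pow_two, ← F.t_two, pow_orderOf_eq_one]
  rw [show t * (t * x * t⁻¹) * t⁻¹ = t * t * x * (t * t)⁻¹ by group, htt]; group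

/-- Each element of a `t`-invariant subgroup of `J` is a fixed element times an inverted one. -/
theorem Hyp.decomp {T : Subgroup G} (hTJ : T ≤ J) (hT : ∀ x ∈ T, t * x * t⁻¹ ∈ T) {a : G} (ha : a ∈ T) :
    ∃ e ∈ T ⊓ Ej J t, ∃ v ∈ T ⊓ H.Wj F, a = e * v := by
  set b := t * a * t⁻¹ with hb
  have hbT : b ∈ T := hT a ha
  have hbb : t * b * t⁻¹ = a := H.conj_t_conj F a
  have hcom : Commute a b := H.J_comm a (hTJ ha) b (hTJ hbT)
  have he : a * b * (a * b) ∈ T := mul_mem (mul_mem ha hbT) (mul_mem ha hbT)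
  have hbi : b⁻¹ ∈ T := inv_mem hbT
  have hv : a * b⁻¹ * (a * b⁻¹) ∈ T := mul_mem (mul_mem ha hbi) (mul_mem ha hbi)
  refine ⟨(a * b) * (a * b), ⟨he, hTJ he, mem_centralizer_singleton_iff.2 ?_⟩,
    (a * b⁻¹) * (a * b⁻¹), ⟨hv, hTJ hv, ?_⟩, ?_⟩
  · have e : t * (a * b * (a * b)) * t⁻¹ = a * b * (a * b) := by
      rw [show t * (a * b * (a * b)) * t⁻¹ = t * a * t⁻¹ * (t * b * t⁻¹) * (t * a * t⁻¹ * (t * b * t⁻¹)) by group,
        hbb, ← hb, hcom.symm.eq]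
    exact (mul_inv_eq_iff_eq_mul.1 e).symm
  · rw [show t * (a * b⁻¹ * (a * b⁻¹)) * t⁻¹ =
        t * a * t⁻¹ * (t * b * t⁻¹)⁻¹ * (t * a * t⁻¹ * (t * b * t⁻¹)⁻¹) by group, hbb, ← hb]
    group
  · have h1 : Commute (a * b) (a * b⁻¹) :=
      H.J_comm _ (hTJ (mul_mem ha hbT)) _ (hTJ (mul_mem ha (inv_mem hbT)))
    have h2 : a * b * (a * b⁻¹) = a * a := by
      rw [mul_assoc, ← mul_assoc b, ← hcom.eq]; group
    calc a = a ^ 3 * a := by rw [H.J_exp a (hTJ ha), one_mul]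
      _ = (a * a) * (a * a) := by simp only [pow_succ, pow_zero, one_mul, mul_assoc]
      _ = (a * b * (a * b⁻¹)) * (a * b * (a * b⁻¹)) := by rw [h2]
      _ = (a * b) * ((a * b⁻¹) * (a * b)) * (a * b⁻¹) := by group
      _ = (a * b) * ((a * b) * (a * b⁻¹)) * (a * b⁻¹) := by rw [h1.eq]
      _ = _ := by group

theorem Hyp.Wj_inf_Ej {x : G} (hw : x ∈ H.Wj F) (he : x ∈ Ej J t) : x = 1 := by
  have h1 : t * x * t⁻¹ = x := by
    rw [← mem_centralizer_singleton_iff.1 he.2, mul_inv_cancel_right]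
  have h2 : x * x = 1 := by
    rw [hw.2] at h1
    exact mul_eq_one_iff_inv_eq.2 h1
  calc x = x ^ 3 * (x * x)⁻¹ := by simp only [pow_succ, pow_zero, one_mul, mul_assoc]; group
    _ = 1 := by rw [H.J_exp x hw.1, h2, inv_one, one_mul]

theorem Hyp.Wj_le : H.Wj F ≤ J ⊓ Q := by
  intro x hx
  refine ⟨hx.1, ?_⟩
  have h := H.t_comm_L F (H.S_le_L (H.J_le hx.1))
  rw [hx.2] at h
  have h2 : x * x ∈ Q := by
    have := inv_mem h
    rwa [mul_inv_rev, inv_inv] at this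
  have h3 := mul_mem h2 h2
  rwa [show x * x * (x * x) = x * x ^ 3 by simp only [pow_succ, pow_zero, one_mul, mul_assoc],
    H.J_exp x hx.1, mul_one] at h3

theorem Hyp.t_conj_Q {x : G} (hx : x ∈ Q) : t * x * t⁻¹ ∈ Q := H.conj_Q (H.L_le_cent F.t_mem) hx

theorem Hyp.t_conj_R {x : G} (hx : x ∈ J ⊓ Q) : t * x * t⁻¹ ∈ J ⊓ Q :=
  ⟨(mem_normalizer_iff.1 (H.t_norm_J F) x).1 hx.1, H.t_conj_Q F hx.2⟩

theorem Hyp.R_decomp {r : G} (hr : r ∈ J ⊓ Q) : ∃ a ∈ Z, ∃ v ∈ H.Wj F, r = a * v := by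
  obtain ⟨e, he, v, hv, rfl⟩ := H.decomp F (T := J ⊓ Q) inf_le_left (fun x hx => H.t_conj_R F hx) hr
  exact ⟨e, H.Ej_inf_Q F he.2 he.1.2, v, hv.2, rfl⟩

theorem Hyp.card_Wj : Nat.card ↥(H.Wj F) = 9 := by
  have hinf : Nat.card ↥(Z ⊓ H.Wj F) = 1 :=
    (Subgroup.eq_bot_iff_card _).1 (eq_bot_iff.2 fun x hx => mem_bot.2 (H.Wj_inf_Ej F hx.2 (H.Z_le_Ej F hx.1)))
  have h := Hall.card_mul_inf Z (H.Wj F)
  have hset : (Z : Set G) * (H.Wj F : Set G) = ((J ⊓ Q : Subgroup G) : Set G) := by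
    ext r
    constructor
    · rintro ⟨a, ha, v, hv, rfl⟩
      exact mul_mem (⟨H.Z_le_J F ha, H.Z_le_Q ha⟩ : a ∈ J ⊓ Q) (H.Wj_le F hv)
    · intro hr
      obtain ⟨a, ha, v, hv, rfl⟩ := H.R_decomp F hr
      exact ⟨a, ha, v, hv, rfl⟩
  rw [hinf, H.card_Z, mul_one] at h
  have h27 : Nat.card ↥((Z : Set G) * (H.Wj F : Set G)) = 27 := by rw [hset]; exact H.card_J_inf_Q F
  rw [h27] at h
  omega

section

variable {ρ : ↥M₀ →* Six.A6} {u w : G} (B : Base S J M₀ t ρ u w)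
include B

/-- An element of `Q` fixing `w z w⁻¹` modulo `Z` is in `J ∩ Q`. -/
theorem Hyp.mem_R_of_trans {z : G} (hz : z ∈ Z) (hz1 : z ≠ 1) {q : G} (hq : q ∈ Q)
    (h : q * (w * z * w⁻¹) * q⁻¹ * (w * z * w⁻¹)⁻¹ ∈ Z) : q ∈ J ⊓ Q := by
  set z' := w * z * w⁻¹ with hz'
  have hE := H.w_Z_Ej F B hz
  have hnQ : z' ∉ Q := fun hQ => H.w_Z_not_Z F B hz hz1 (H.Ej_inf_Q F hE hQ)
  rw [← H.fix_eq F (H.J_le hE.1) hnQ]
  exact ⟨hq, by
    have := inv_mem h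
    rwa [show (q * z' * q⁻¹ * z'⁻¹)⁻¹ = z' * q * z'⁻¹ * q⁻¹ by group] at this⟩

theorem Hyp.trans_mem_R {z : G} (hz : z ∈ Z) {q : G} (hq : q ∈ Q) :
    q * (w * z * w⁻¹) * q⁻¹ * (w * z * w⁻¹)⁻¹ ∈ J ⊓ Q := by
  set z' := w * z * w⁻¹
  have hJ : z' ∈ J := (H.w_Z_Ej F B hz).1
  refine ⟨mul_mem ((mem_normalizer_iff.1 (H.S_le_normalizer_J F (H.Q_le_S hq)) z').1 hJ) ((inv_mem hJ : z'⁻¹ ∈ J)), ?_⟩
  rw [show q * z' * q⁻¹ * z'⁻¹ = q * (z' * q⁻¹ * z'⁻¹) by group]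
  exact mul_mem hq ((mem_normalizer_iff.1 (H.L_le_normalizer_Q (H.S_le_L (H.J_le hJ))) q⁻¹).1 (inv_mem hq))

/-- Every element of `[J, t]` translates `w z w⁻¹`. -/
theorem Hyp.exists_trans {z : G} (hz : z ∈ Z) (hz1 : z ≠ 1) {x : G} (hx : x ∈ H.Wj F) :
    ∃ q ∈ Q, ∃ a ∈ Z, q * (w * z * w⁻¹) * q⁻¹ = w * z * w⁻¹ * x * a := by
  set z' := w * z * w⁻¹ with hz'
  set R := J ⊓ Q with hR
  have hzJ : z' ∈ J := (H.w_Z_Ej F B hz).1
  haveI : (Z.subgroupOf R).Normal := ⟨fun a ha g => by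
    rw [mem_subgroupOf] at ha ⊢
    show (g : G) * a * (g : G)⁻¹ ∈ Z
    rw [H.Z_comm ha (H.J_le g.2.1), mul_inv_cancel_right]
    exact ha⟩
  have hZR : Z ≤ R := le_inf (H.Z_le_J F) H.Z_le_Q
  let φ : ↥Q →* ↥R ⧸ Z.subgroupOf R :=
    { toFun := fun q => QuotientGroup.mk ⟨_, H.trans_mem_R F B hz q.2⟩
      map_one' := (QuotientGroup.eq_one_iff _).2 (by
        rw [mem_subgroupOf]
        show (1 : G) * z' * (1 : G)⁻¹ * z'⁻¹ ∈ Z
        simp)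
      map_mul' := fun p q => by
        rw [← QuotientGroup.mk_mul, QuotientGroup.eq, mem_subgroupOf]
        set y := (q : G) * z' * (q : G)⁻¹ * z'⁻¹
        set x' := (p : G) * z' * (p : G)⁻¹ * z'⁻¹
        show ((p : G) * q * z' * ((p : G) * q)⁻¹ * z'⁻¹)⁻¹ * (x' * y) ∈ Z
        have hyR := H.trans_mem_R F B hz q.2
        have hxR := H.trans_mem_R F B hz p.2
        have hc := H.comm_Q p.2 hyR.2
        have e : (p : G) * q * z' * ((p : G) * q)⁻¹ * z'⁻¹ =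
            ((p : G) * y * (p : G)⁻¹ * y⁻¹) * (y * x') := by
          simp only [y, x']; group
        rw [e, H.J_comm y hyR.1 x' hxR.1, mul_inv_rev,
          show (x' * y)⁻¹ * ((p : G) * y * (p : G)⁻¹ * y⁻¹)⁻¹ * (x' * y) =
            (x' * y)⁻¹ * (((p : G) * y * (p : G)⁻¹ * y⁻¹)⁻¹ * (x' * y)) by group,
          ← H.Z_comm (inv_mem hc) (H.J_le (mul_mem hxR.1 hyR.1)), inv_mul_cancel_left]
        exact inv_mem hc }
  have hker : φ.ker = R.subgroupOf Q := by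
    ext q
    rw [MonoidHom.mem_ker, mem_subgroupOf]
    show QuotientGroup.mk _ = (1 : ↥R ⧸ Z.subgroupOf R) ↔ _
    rw [QuotientGroup.eq_one_iff, mem_subgroupOf]
    refine ⟨fun h => H.mem_R_of_trans F B hz hz1 q.2 h, fun h => ?_⟩
    show (q : G) * z' * (q : G)⁻¹ * z'⁻¹ ∈ Z
    rw [H.J_comm _ h.1 z' hzJ, mul_inv_cancel_right, mul_inv_cancel]
    exact one_mem Z
  have hk := φ.ker.card_mul_index
  rw [index_ker, hker, Nat.card_congr (subgroupOfEquivOfLe inf_le_right).toEquiv, H.card_J_inf_Q F,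
    H.Q_card] at hk
  have hq9 := (Z.subgroupOf R).card_mul_index
  rw [Nat.card_congr (subgroupOfEquivOfLe hZR).toEquiv, H.card_Z, H.card_J_inf_Q F] at hq9
  have htop : φ.range = ⊤ := Subgroup.eq_top_of_card_eq _ (by
    have h1 : Nat.card (↥R ⧸ Z.subgroupOf R) = 9 := by
      rw [← Subgroup.index_eq_card]; omega
    omega)
  obtain ⟨q, hq⟩ := MonoidHom.range_eq_top.1 htop (QuotientGroup.mk ⟨x, H.Wj_le F hx⟩)
  have hmem := (QuotientGroup.eq.1 hq)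
  rw [mem_subgroupOf] at hmem
  change ((q : G) * z' * (q : G)⁻¹ * z'⁻¹)⁻¹ * x ∈ Z at hmem
  refine ⟨q, q.2, _, inv_mem hmem, ?_⟩
  have hy := (H.trans_mem_R F B hz q.2).1
  set y := (q : G) * z' * (q : G)⁻¹ * z'⁻¹ with hydef
  calc (q : G) * z' * (q : G)⁻¹ = y * z' := by rw [hydef]; group
    _ = z' * y := H.J_comm y hy z' hzJ
    _ = z' * x * (y⁻¹ * x)⁻¹ := by group

/-- The central part of a translation is unique. -/
theorem Hyp.trans_unique {z : G} (hz : z ∈ Z) (hz1 : z ≠ 1) {q q' x a a' : G} (hq : q ∈ Q)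
    (hq' : q' ∈ Q) (ha : a ∈ Z) (ha' : a' ∈ Z)
    (h : q * (w * z * w⁻¹) * q⁻¹ = w * z * w⁻¹ * x * a)
    (h' : q' * (w * z * w⁻¹) * q'⁻¹ = w * z * w⁻¹ * x * a') : a = a' := by
  set z' := w * z * w⁻¹ with hz'
  have hzJ : z' ∈ J := (H.w_Z_Ej F B hz).1
  have hd : a'⁻¹ * a ∈ Z := mul_mem (inv_mem ha') ha
  have h1 : q'⁻¹ * (z' * x * a') * q' = z' := by rw [← h']; group
  have h2 : q'⁻¹ * q * z' * (q'⁻¹ * q)⁻¹ = z' * (a'⁻¹ * a) := by
    calc q'⁻¹ * q * z' * (q'⁻¹ * q)⁻¹ = q'⁻¹ * (q * z' * q⁻¹) * q' := by group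
      _ = (q'⁻¹ * (z' * x * a') * q') * (q'⁻¹ * (a'⁻¹ * a) * q') := by rw [h]; group
      _ = z' * (q'⁻¹ * ((a'⁻¹ * a) * q')) := by rw [h1]; group
      _ = _ := by rw [← H.Z_comm hd (H.Q_le_S hq'), inv_mul_cancel_left]
  have h3 : q'⁻¹ * q ∈ J ⊓ Q := H.mem_R_of_trans F B hz hz1 (mul_mem (inv_mem hq') hq) (by
    rw [h2, show z' * (a'⁻¹ * a) * z'⁻¹ = a'⁻¹ * a by
      rw [H.Z_comm hd (H.J_le hzJ), mul_inv_cancel_right]]
    exact hd)
  rw [H.J_comm _ h3.1 z' hzJ, mul_inv_cancel_right] at h2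
  exact (inv_mul_eq_one.1 (left_eq_mul.1 h2)).symm

/-- No translation of `w z w⁻¹` is by a non-trivial element of `[J, t]` alone. -/
theorem Hyp.aniso {z : G} (hz : z ∈ Z) (hz1 : z ≠ 1) {q x : G} (hq : q ∈ Q) (hx : x ∈ H.Wj F)
    (h : q * (w * z * w⁻¹) * q⁻¹ = w * z * w⁻¹ * x) : x = 1 := by
  set T := (J ⊓ Q).map (MulAut.conj w).toMonoidHom with hT
  have hTJ : T ≤ J := by
    rintro _ ⟨r, hr, rfl⟩
    exact (mem_normalizer_iff.1 (H.M_le B.w_mem) r).1 hr.1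
  have hTt : ∀ y ∈ T, t * y * t⁻¹ ∈ T := by
    rintro _ ⟨r, hr, rfl⟩
    refine ⟨t * r * t⁻¹, H.t_conj_R F hr, ?_⟩
    show w * (t * r * t⁻¹) * w⁻¹ = t * (w * r * w⁻¹) * t⁻¹
    have e : t * w = w * t := B.w_t.symm
    calc w * (t * r * t⁻¹) * w⁻¹ = w * t * r * (w * t)⁻¹ := by group
      _ = t * w * r * (t * w)⁻¹ := by rw [e]
      _ = _ := by group
  have hzT : z ∉ T := by
    rintro ⟨r, hr, e⟩
    have e' : r = w⁻¹ * z * w⁻¹⁻¹ := by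
      rw [← e]; show r = w⁻¹ * (w * r * w⁻¹) * w⁻¹⁻¹; group
    have h1 := H.sing_R F B hz hz1 (e' ▸ hr)
    exact H.w_Z_not_Z F B h1 (fun h2 => hz1 (_root_.conj_eq_one_iff.1 h2)) (by
      rw [show w * (w⁻¹ * z * w⁻¹⁻¹) * w⁻¹ = z by group]; exact hz)
  haveI : Fact (Nat.Prime 3) := ⟨Nat.prime_three⟩
  have hTW : H.Wj F ≤ T := by
    have h9 : Nat.card ↥(T ⊓ Ej J t) ≤ 3 := by
      have hd : Nat.card ↥(T ⊓ Ej J t) ∣ 3 ^ 2 := by
        rw [show (3 : ℕ) ^ 2 = Nat.card ↥(Ej J t) by rw [H.card_Ej F]; norm_num]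
        exact card_dvd_of_le inf_le_right
      obtain ⟨i, hi, hc⟩ := (Nat.dvd_prime_pow Nat.prime_three).1 hd
      rw [hc]
      interval_cases i
      · norm_num
      · norm_num
      · exfalso
        have he : T ⊓ Ej J t = Ej J t := eq_of_le_of_card_ge inf_le_right (by rw [hc, H.card_Ej F]; norm_num)
        exact hzT (he.ge (H.Z_le_Ej F hz)).1
    have hTc : Nat.card ↥T = 27 := by
      rw [hT, card_map_of_injective (MulEquiv.injective _), H.card_J_inf_Q F]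
    have hm := Hall.card_mul_inf (T ⊓ Ej J t) (T ⊓ H.Wj F)
    have hset : (T : Set G) ⊆ ((T ⊓ Ej J t : Subgroup G) : Set G) * ((T ⊓ H.Wj F : Subgroup G) : Set G) := by
      intro a ha
      obtain ⟨e, he, v, hv, rfl⟩ := H.decomp F hTJ hTt ha
      exact ⟨e, he, v, hv, rfl⟩
    have h27 : 27 ≤ Nat.card ↥(((T ⊓ Ej J t : Subgroup G) : Set G) * ((T ⊓ H.Wj F : Subgroup G) : Set G)) :=
      hTc.ge.trans (Nat.card_mono (Set.toFinite _) hset)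
    have hpos : 1 ≤ Nat.card ↥((T ⊓ Ej J t) ⊓ (T ⊓ H.Wj F)) := Nat.card_pos
    have hge : Nat.card ↥(H.Wj F) ≤ Nat.card ↥(T ⊓ H.Wj F) := by
      rw [H.card_Wj F]
      nlinarith
    exact (eq_of_le_of_card_ge inf_le_right hge).ge.trans inf_le_left
  have hz'T : w * z * w⁻¹ ∈ T := ⟨z, ⟨H.Z_le_J F hz, H.Z_le_Q hz⟩, rfl⟩
  obtain ⟨r, hr, e⟩ := mul_mem hz'T (hTW hx)
  have e' : r = (w⁻¹ * q * w) * z * (w⁻¹ * q * w)⁻¹ := by
    change w * r * w⁻¹ = w * z * w⁻¹ * x at e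
    rw [← h] at e
    calc r = w⁻¹ * (w * r * w⁻¹) * w := by group
      _ = _ := by rw [e]; group
  have h1 := H.sing_R F B hz hz1 (e' ▸ hr)
  rw [← e'] at h1
  have hrE := H.w_Z_Ej F B h1
  have hxeq : x = (w * z * w⁻¹)⁻¹ * (w * r * w⁻¹) := by
    change w * r * w⁻¹ = w * z * w⁻¹ * x at e
    rw [e, inv_mul_cancel_left]
  exact H.Wj_inf_Ej F hx (hxeq ▸ mul_mem (inv_mem (H.w_Z_Ej F B hz)) hrE)

end

end Cfsg.Agent.McLThree
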