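import Cfsg.Agent.Lib.McLThree.Det

/-!
# Finite checks for the stabilizer of a nonsingular vector

The checks are run on truth values, so that the kernel only evaluates.
-/

set_option autoImplicit false
set_option synthInstance.maxSize 2000
set_option synthInstance.maxHeartbeats 200000
set_option maxRecDepth 100000

namespace Cfsg.Agent.McLThree

open Model

/-- The unipotent maps fixing the second singular basis vector. -/
def lo (a b : ZMod 3) : Mat :=
  ((1, a, b, a * a + b * b), (0, 1, 0, -(-2 * a)), (0, 0, 1, -(-2 * b)), vz')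

/-- A matrix exchanging the two singular basis vectors. -/
def swp (p q : ZMod 3 × ZMod 3) : Mat :=
  (vz', (0, p.1, p.2, 0), (0, q.1, q.2, 0), vz)

/-- The twenty-four rotations, evaluated. -/
def rot24 : List Mat :=
  [((1, 0, 0, 0), (0, 1, 0, 0), (0, 0, 1, 0), (0, 0, 0, 1)),
   ((1, 0, 0, 0), (0, 2, 0, 0), (0, 0, 2, 0), (0, 0, 0, 1)),
   ((0, 0, 0, 1), (0, 1, 0, 0), (0, 0, 2, 0), (1, 0, 0, 0)),
   ((0, 0, 0, 1), (0, 2, 0, 0), (0, 0, 1, 0), (1, 0, 0, 0)),
   ((2, 2, 0, 2), (0, 0, 1, 0), (1, 0, 0, 2), (2, 1, 0, 2)),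
   ((2, 2, 0, 2), (0, 0, 2, 0), (2, 0, 0, 1), (2, 1, 0, 2)),
   ((2, 1, 0, 2), (0, 0, 1, 0), (2, 0, 0, 1), (2, 2, 0, 2)),
   ((2, 1, 0, 2), (0, 0, 2, 0), (1, 0, 0, 2), (2, 2, 0, 2)),
   ((2, 0, 2, 2), (1, 0, 0, 2), (0, 1, 0, 0), (2, 0, 1, 2)),
   ((2, 0, 2, 2), (2, 0, 0, 1), (0, 2, 0, 0), (2, 0, 1, 2)),
   ((2, 0, 1, 2), (1, 0, 0, 2), (0, 2, 0, 0), (2, 0, 2, 2)),
   ((2, 0, 1, 2), (2, 0, 0, 1), (0, 1, 0, 0), (2, 0, 2, 2)),
   ((1, 0, 0, 0), (0, 0, 1, 0), (0, 2, 0, 0), (0, 0, 0, 1)),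
   ((1, 0, 0, 0), (0, 0, 2, 0), (0, 1, 0, 0), (0, 0, 0, 1)),
   ((0, 0, 0, 1), (0, 0, 1, 0), (0, 1, 0, 0), (1, 0, 0, 0)),
   ((0, 0, 0, 1), (0, 0, 2, 0), (0, 2, 0, 0), (1, 0, 0, 0)),
   ((2, 0, 2, 2), (0, 2, 0, 0), (1, 0, 0, 2), (2, 0, 1, 2)),
   ((2, 0, 2, 2), (0, 1, 0, 0), (2, 0, 0, 1), (2, 0, 1, 2)),
   ((2, 0, 1, 2), (0, 2, 0, 0), (2, 0, 0, 1), (2, 0, 2, 2)),
   ((2, 0, 1, 2), (0, 1, 0, 0), (1, 0, 0, 2), (2, 0, 2, 2)),
   ((2, 1, 0, 2), (1, 0, 0, 2), (0, 0, 1, 0), (2, 2, 0, 2)),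
   ((2, 1, 0, 2), (2, 0, 0, 1), (0, 0, 2, 0), (2, 2, 0, 2)),
   ((2, 2, 0, 2), (1, 0, 0, 2), (0, 0, 2, 0), (2, 1, 0, 2)),
   ((2, 2, 0, 2), (2, 0, 0, 1), (0, 0, 1, 0), (2, 1, 0, 2))]

set_option maxRecDepth 100000 in
theorem rot24_eq : twelve ++ twelve.map (comp rotM) = rot24 := by
  decide +kernel

/-- The rotations commuting with `t`. -/
def eight : List Mat :=
  [((1, 0, 0, 0), (0, 1, 0, 0), (0, 0, 1, 0), (0, 0, 0, 1)),
   ((1, 0, 0, 0), (0, 2, 0, 0), (0, 0, 2, 0), (0, 0, 0, 1)),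
   ((0, 0, 0, 1), (0, 1, 0, 0), (0, 0, 2, 0), (1, 0, 0, 0)),
   ((0, 0, 0, 1), (0, 2, 0, 0), (0, 0, 1, 0), (1, 0, 0, 0)),
   ((1, 0, 0, 0), (0, 0, 1, 0), (0, 2, 0, 0), (0, 0, 0, 1)),
   ((1, 0, 0, 0), (0, 0, 2, 0), (0, 1, 0, 0), (0, 0, 0, 1)),
   ((0, 0, 0, 1), (0, 0, 1, 0), (0, 1, 0, 0), (1, 0, 0, 0)),
   ((0, 0, 0, 1), (0, 0, 2, 0), (0, 2, 0, 0), (1, 0, 0, 0))]

/-- The nonzero singular vectors. -/
def singList : List V :=
  [vz, -vz, vz', -vz', (1, 1, 0, 1), (1, -1, 0, 1), (1, 0, 1, 1), (1, 0, -1, 1), (-1, -1, 0, -1),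
    (-1, 1, 0, -1), (-1, 0, -1, -1), (-1, 0, 1, -1), (2, 1, 1, 1), (2, 1, -1, 1), (2, -1, 1, 1), (2, -1, -1, 1),
    (-2, -1, -1, -1), (-2, -1, 1, -1), (-2, 1, -1, -1), (-2, 1, 1, -1)]

theorem mem_singList : ∀ v : V, qf v = 0 → v ≠ 0 → v ∈ singList := by decide +kernel

/-- Equality of matrices as a truth value. -/
def meq (a b : Mat) : Bool := decide (a = b)

/-- Equality of vectors as a truth value. -/
def veq (a b : V) : Bool := decide (a = b)

/-- The elements of the field. -/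
def f3 : List (ZMod 3) := [0, 1, 2]

/-- The pairs. -/
def f9 : List (ZMod 3 × ZMod 3) := f3.flatMap fun a => f3.map fun b => (a, b)

theorem mem_f3 : ∀ a : ZMod 3, a ∈ f3 := by decide +kernel

theorem mem_f9 : ∀ a : ZMod 3 × ZMod 3, a ∈ f9 := by decide +kernel

theorem cent_chk : (rot24.all fun m => !(meq (comp m tMat) (comp tMat m)) || eight.any (meq m)) = true := by
  decide +kernel

theorem cent_tMat (m : Mat) (hm : m ∈ rot24) (h : comp m tMat = comp tMat m) : m ∈ eight := by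
  have h1 := List.all_eq_true.1 cent_chk m hm
  simpa [meq, h] using h1

theorem sq_chk : (eight.all fun m => meq (comp m m) Model.one || meq (comp m m) tMat) = true := by
  decide +kernel

theorem eight_sq (m : Mat) (hm : m ∈ eight) : comp m m = Model.one ∨ comp m m = tMat := by
  simpa [meq] using List.all_eq_true.1 sq_chk m hm

/-- A matrix moves every singular vector. -/
def free (m : Mat) : Bool := singList.all fun v => !(veq (app m v) v)

theorem free_spec {m : Mat} (h : free m = true) (v : V) (hv : v ∈ singList) : app m v ≠ v := by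
  simpa [veq] using List.all_eq_true.1 h v hv

theorem invol_chk : (eight.all fun m => !(meq (comp m m) Model.one) || meq m Model.one || meq m tMat ||
    eight.all fun r => !(veq (app r vys) vys && meq (comp r r) tMat) || free m || free (comp m r)) = true := by
  decide +kernel

theorem rot_invol (m : Mat) (hm : m ∈ eight) (h : comp m m = Model.one) : m = Model.one ∨ m = tMat ∨
    ∀ r ∈ eight, app r vys = vys → comp r r = tMat →
      (∀ v ∈ singList, app m v ≠ v) ∨ (∀ v ∈ singList, app (comp m r) v ≠ v) := by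
  have h1 := List.all_eq_true.1 invol_chk m hm
  simp only [meq, h, decide_true, Bool.not_true, Bool.false_or, Bool.or_eq_true, decide_eq_true_eq] at h1
  rcases h1 with (e | e) | e
  · exact Or.inl e
  · exact Or.inr (Or.inl e)
  · refine Or.inr (Or.inr fun r hr h2 h3 => ?_)
    have h4 := List.all_eq_true.1 e r hr
    simp only [veq, h2, h3, decide_true, Bool.and_self, Bool.not_true, Bool.false_or, Bool.or_eq_true] at h4
    exact h4.imp (fun h5 => free_spec h5) fun h5 => free_spec h5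

theorem lo_cyc : ∃ a b : ZMod 3, comp (comp (uni (-1) (-1)) (lo a b)) (uni 1 1) = cycM := by
  decide +kernel

theorem tMat_eq : tM = tMat := by decide +kernel

/-- The pairs form an orthonormal basis. -/
def onb (p q : ZMod 3 × ZMod 3) : Bool :=
  decide (p.1 * p.1 + p.2 * p.2 = 1) && decide (q.1 * q.1 + q.2 * q.2 = 1) &&
    decide (p.1 * q.1 + p.2 * q.2 = 0)

theorem conj_chk : (f9.all fun p => f9.all fun q => !(onb p q) || f9.all fun ab =>
    f9.any fun cd => meq (comp (lo ab.1 ab.2) (swp p q)) (comp (swp p q) (uni cd.1 cd.2))) = true := by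
  decide +kernel

theorem lo_conj (p q : ZMod 3 × ZMod 3) (h1 : p.1 * p.1 + p.2 * p.2 = 1) (h2 : q.1 * q.1 + q.2 * q.2 = 1)
    (h3 : p.1 * q.1 + p.2 * q.2 = 0) (a b : ZMod 3) :
    ∃ c d : ZMod 3, comp (lo a b) (swp p q) = comp (swp p q) (uni c d) := by
  have h := List.all_eq_true.1 (List.all_eq_true.1 conj_chk p (mem_f9 p)) q (mem_f9 q)
  simp only [onb, h1, h2, h3, decide_true, Bool.and_self, Bool.not_true, Bool.false_or] at h
  obtain ⟨cd, -, hcd⟩ := List.any_eq_true.1 (List.all_eq_true.1 h (a, b) (mem_f9 _))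
  exact ⟨cd.1, cd.2, by simpa [meq] using hcd⟩

/-- The anti-isometries of square minus one. -/
def anti (c d : ZMod 3 × ZMod 3) : Bool :=
  decide (c.1 * c.1 + c.2 * c.2 = -1) && decide (d.1 * d.1 + d.2 * d.2 = -1) &&
    decide (c.1 * d.1 + c.2 * d.2 = 0) && decide (c.1 * c.1 + d.1 * c.2 = -1)

theorem anti_chk : (f9.all fun p => f9.all fun q =>
    !(onb p q && decide (p.1 * q.2 - p.2 * q.1 = -1)) || f9.all fun c => f9.all fun d => !(anti c d) ||
      [blk c d (-1), comp (blk c d (-1)) tMat].all fun k =>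
        !(meq (comp (blk c d (-1)) (comp (comp (swp p q) k) (swp p q)))
          (comp (comp (comp (swp p q) k) (swp p q)) (blk c d (-1))))) = true := by
  decide +kernel

/-- A reflection conjugates an anti-isometry of square `-1` to one not commuting with it. -/
theorem refl_anti (p q c d : ZMod 3 × ZMod 3) (h1 : p.1 * p.1 + p.2 * p.2 = 1) (h2 : q.1 * q.1 + q.2 * q.2 = 1)
    (h3 : p.1 * q.1 + p.2 * q.2 = 0) (h4 : p.1 * q.2 - p.2 * q.1 = -1)
    (h5 : c.1 * c.1 + c.2 * c.2 = -1) (h6 : d.1 * d.1 + d.2 * d.2 = -1) (h7 : c.1 * d.1 + c.2 * d.2 = 0)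
    (h8 : c.1 * c.1 + d.1 * c.2 = -1) (k : Mat) (hk : k = blk c d (-1) ∨ k = comp (blk c d (-1)) tMat) :
      comp (blk c d (-1)) (comp (comp (swp p q) k) (swp p q)) ≠
        comp (comp (comp (swp p q) k) (swp p q)) (blk c d (-1)) := by
  have h := List.all_eq_true.1 (List.all_eq_true.1 anti_chk p (mem_f9 p)) q (mem_f9 q)
  simp only [onb, h1, h2, h3, h4, decide_true, Bool.and_self, Bool.not_true, Bool.false_or] at h
  have h' := List.all_eq_true.1 (List.all_eq_true.1 h c (mem_f9 c)) d (mem_f9 d)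
  simp only [anti, h5, h6, h7, h8, decide_true, Bool.and_self, Bool.not_true, Bool.false_or] at h'
  simpa [meq] using List.all_eq_true.1 h' k (by simpa using hk)

end Cfsg.Agent.McLThree
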