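import Cfsg.Agent.Lib.McLThree.Frame

/-!
# The abelian subgroups of order 81 of the Sylow subgroup

`S = JQ`, `J ∩ Q` has order 27 and consists of the elements fixed modulo `Z` by any element of `S`
outside `Q`, and `J` is the only abelian subgroup of `S` of order 81.
-/

set_option autoImplicit false
set_option linter.unusedSectionVars false
set_option linter.style.haveILetI false
set_option maxRecDepth 100000

namespace Cfsg.Agent.McLThree

open Subgroup
open scoped Pointwise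

universe u

theorem cube_of_nine : ∀ σ : SL5, σ ^ 729 = 1 → σ ^ 3 = 1 := fun σ h => by
  obtain ⟨i, -, hi⟩ := (Nat.dvd_prime_pow Nat.prime_three).1
    (show orderOf σ ∣ 3 ^ 6 from orderOf_dvd_of_pow_eq_one (by norm_num [h]))
  have hd := orderOf_dvd_natCard σ
  rw [card_SL5, hi] at hd
  refine orderOf_dvd_iff_pow_eq_one.1 (hi ▸ ?_)
  rcases Nat.lt_or_ge i 2 with h2 | h2
  · exact (pow_dvd_pow 3 (by omega : i ≤ 1)).trans (by norm_num)
  · have h9 := (pow_dvd_pow 3 h2).trans hd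
    norm_num at h9

variable {G : Type u} [Group G] [Finite G] {S : Sylow 3 G} {Z J M₀ L₀ Q : Subgroup G}
  (H : Hyp S Z J M₀ L₀ Q) {π : ↥L₀ →* SL5} {t f : G} (F : Frame Q L₀ π t f)
include H F

theorem Hyp.card_fix_sylow {a : G} (ha : a ∈ (S : Subgroup G)) (haQ : a ∉ Q) :
    Nat.card ↥(H.fix (H.S_le_L ha)) ≤ 27 := by
  refine H.card_fix_three F (H.S_le_L ha) haQ (cube_of_nine _ ?_)
  rw [← map_pow, show (⟨a, H.S_le_L ha⟩ : ↥L₀) ^ 729 = 1 from Subtype.ext (by
    show a ^ 729 = 1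
    have h := congrArg Subtype.val (pow_card_eq_one' (x := (⟨a, ha⟩ : ↥(S : Subgroup G))))
    rwa [H.card_S] at h), map_one]

/-- An abelian subgroup of order 81 of `S` meets `Q` in the fixed points of each of its outer elements. -/
theorem Hyp.abelian_facts {A : Subgroup G} (hA : A ≤ (S : Subgroup G))
    (hc : ∀ a ∈ A, ∀ b ∈ A, a * b = b * a) (hcard : Nat.card ↥A = 81) :
    ¬ A ≤ Q ∧ Nat.card ↥(A ⊓ Q) = 27 ∧ Z ≤ A ∧
      ∀ (a : G) (ha : a ∈ A), a ∉ Q → H.fix (H.S_le_L (hA ha)) = A ⊓ Q := by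
  have hnot : ¬ A ≤ Q := fun h => by
    have := H.abelian_Q h hc
    omega
  have hbig : 27 ≤ Nat.card ↥(A ⊓ Q) := by
    have h := Hall.card_mul_inf A Q
    have hle : Nat.card ↥((A : Set G) * (Q : Set G)) ≤ Nat.card ↥((S : Subgroup G) : Set G) :=
      Nat.card_mono (Set.toFinite _) (by
        rintro _ ⟨a, ha, b, hb, rfl⟩
        exact mul_mem (hA ha) (H.Q_le_S hb))
    rw [hcard, H.Q_card] at h
    have hle' : Nat.card ↥((A : Set G) * (Q : Set G)) ≤ 729 := hle.trans_eq H.card_S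
    nlinarith
  have hfix : ∀ (a : G) (ha : a ∈ A), a ∉ Q → H.fix (H.S_le_L (hA ha)) = A ⊓ Q := by
    intro a ha haQ
    refine (eq_of_le_of_card_ge ?_ ((H.card_fix_sylow F (hA ha) haQ).trans hbig)).symm
    intro x hx
    refine ⟨hx.2, ?_⟩
    rw [hc a ha x hx.1, mul_inv_cancel_right, mul_inv_cancel]
    exact one_mem _
  obtain ⟨a, ha, haQ⟩ := SetLike.not_le_iff_exists.1 hnot
  have heq := hfix a ha haQ
  refine ⟨hnot, le_antisymm (heq ▸ H.card_fix_sylow F (hA ha) haQ) hbig, ?_, hfix⟩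
  exact (H.Z_le_fix (H.S_le_L (hA ha))).trans (heq.le.trans inf_le_left)

theorem Hyp.card_J_inf_Q : Nat.card ↥(J ⊓ Q) = 27 := (H.abelian_facts F H.J_le H.J_comm H.J_card).2.1

theorem Hyp.Z_le_J : Z ≤ J := (H.abelian_facts F H.J_le H.J_comm H.J_card).2.2.1

/-- `S = JQ`. -/
theorem Hyp.exists_mul {g : G} (hg : g ∈ (S : Subgroup G)) : ∃ a ∈ J, ∃ q ∈ Q, g = a * q := by
  have h := Hall.card_mul_inf J Q
  rw [H.J_card, H.Q_card, H.card_J_inf_Q F] at h
  have hsub : (J : Set G) * (Q : Set G) ⊆ ((S : Subgroup G) : Set G) := by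
    rintro _ ⟨a, ha, b, hb, rfl⟩
    exact mul_mem (H.J_le ha) (H.Q_le_S hb)
  have hc : ((S : Subgroup G) : Set G).ncard ≤ ((J : Set G) * (Q : Set G)).ncard := by
    rw [← Nat.card_coe_set_eq, ← Nat.card_coe_set_eq]
    have : Nat.card ↥((J : Set G) * (Q : Set G)) = 729 := by omega
    rw [this]
    exact H.card_S.le
  have heq := Set.eq_of_subset_of_ncard_le hsub hc (Set.toFinite _)
  obtain ⟨a, ha, q, hq, e⟩ := (heq ▸ (hg : g ∈ ((S : Subgroup G) : Set G)) : g ∈ (J : Set G) * (Q : Set G))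
  exact ⟨a, ha, q, hq, e.symm⟩

/-- Elements outside `Q` have the same fixed points modulo `Z` as `J`. -/
theorem Hyp.fix_eq {a : G} (ha : a ∈ (S : Subgroup G)) (haQ : a ∉ Q) : H.fix (H.S_le_L ha) = J ⊓ Q := by
  obtain ⟨b, hb, q, hq, rfl⟩ := H.exists_mul F ha
  have hbQ : b ∉ Q := fun h => haQ (mul_mem h hq)
  rw [← (H.abelian_facts F H.J_le H.J_comm H.J_card).2.2.2 b hb hbQ]
  ext x
  have key : ∀ y ∈ Q, b * q * y * (b * q)⁻¹ * y⁻¹ = (q * y * q⁻¹ * y⁻¹) * (b * y * b⁻¹ * y⁻¹) := by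
    intro y hy
    have hz := H.comm_Q hq hy
    have hz' := H.Z_comm hz (H.J_le hb)
    rw [show b * q * y * (b * q)⁻¹ * y⁻¹ = b * (q * y * q⁻¹ * y⁻¹) * b⁻¹ * (b * y * b⁻¹ * y⁻¹) by group, hz',
      mul_inv_cancel_right]
  constructor
  · rintro ⟨hx, hz⟩
    refine ⟨hx, ?_⟩
    rw [key x hx] at hz
    exact (mul_mem_cancel_left (H.comm_Q hq hx)).1 hz
  · rintro ⟨hx, hz⟩
    refine ⟨hx, ?_⟩
    rw [key x hx]
    exact mul_mem (H.comm_Q hq hx) hz

/-- `J` is the only abelian subgroup of order 81 of `S`. -/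
theorem Hyp.J_unique {A : Subgroup G} (hA : A ≤ (S : Subgroup G))
    (hc : ∀ a ∈ A, ∀ b ∈ A, a * b = b * a) (hcard : Nat.card ↥A = 81) : A = J := by
  obtain ⟨hnot, -, -, hfix⟩ := H.abelian_facts F hA hc hcard
  obtain ⟨a, ha, haQ⟩ := SetLike.not_le_iff_exists.1 hnot
  have hR : A ⊓ Q = J ⊓ Q := (hfix a ha haQ).symm.trans (H.fix_eq F (hA ha) haQ)
  set C := (S : Subgroup G) ⊓ centralizer ((J ⊓ Q : Subgroup G) : Set G) with hC
  have hAC : A ≤ C := le_inf hA fun x hx => mem_centralizer_iff.2 fun r hr => (hc x hx r ((hR.ge hr).1)).symm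
  have hJC : J ≤ C := le_inf H.J_le fun x hx => mem_centralizer_iff.2 fun r hr => (H.J_comm x hx r hr.1).symm
  have hCQ : C ⊓ Q ≤ J ⊓ Q := by
    intro q hq
    by_contra hqJ
    set B := (J ⊓ Q) ⊔ zpowers q
    have hBQ : B ≤ Q := sup_le inf_le_right (zpowers_le.2 hq.2)
    have hBc : ∀ a ∈ B, ∀ b ∈ B, a * b = b * a := by
      intro a ha b hb
      have hcen : B ≤ centralizer (B : Set G) := by
        refine (Subgroup.le_centralizer_iff.1 ?_)
        refine sup_le (fun r hr => mem_centralizer_iff.2 fun y hy => ?_) (zpowers_le.2 (mem_centralizer_iff.2 fun y hy => ?_))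
        · have hB' : B ≤ centralizer ({r} : Set G) := sup_le
            (fun r' hr' => mem_centralizer_singleton_iff.2 (H.J_comm r' hr'.1 r hr.1))
            (zpowers_le.2 (mem_centralizer_singleton_iff.2 (mem_centralizer_iff.1 hq.1.2 r hr).symm))
          exact mem_centralizer_singleton_iff.1 (hB' hy)
        · have hB' : B ≤ centralizer ({q} : Set G) := sup_le
            (fun r' hr' => mem_centralizer_singleton_iff.2 (mem_centralizer_iff.1 hq.1.2 r' hr'))
            (zpowers_le.2 (mem_centralizer_singleton_iff.2 rfl))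
          exact mem_centralizer_singleton_iff.1 (hB' hy)
      exact (mem_centralizer_iff.1 (hcen ha) b hb).symm
    have h27 := H.abelian_Q hBQ hBc
    have heq : J ⊓ Q = B := eq_of_le_of_card_ge le_sup_left (by rw [H.card_J_inf_Q F]; exact h27)
    exact hqJ (heq ▸ mem_sup_right (mem_zpowers q))
  have hcard' : Nat.card ↥C ≤ 81 := by
    have h := Hall.card_mul_inf C Q
    have hle : Nat.card ↥((C : Set G) * (Q : Set G)) ≤ Nat.card ↥((S : Subgroup G) : Set G) :=
      Nat.card_mono (Set.toFinite _) (by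
        rintro _ ⟨a, ha, b, hb, rfl⟩
        exact mul_mem ha.1 (H.Q_le_S hb))
    have h1 : Nat.card ↥(C ⊓ Q) ≤ 27 := H.card_J_inf_Q F ▸ card_le_of_le hCQ
    rw [H.Q_card] at h
    have hle' : Nat.card ↥((C : Set G) * (Q : Set G)) ≤ 729 := hle.trans_eq H.card_S
    nlinarith
  exact (eq_of_le_of_card_ge hAC (by omega)).trans (eq_of_le_of_card_ge hJC (by rw [H.J_card]; exact hcard')).symm

/-- The normalizer of `S` normalizes `J`. -/
theorem Hyp.normalizer_S_le : normalizer ((S : Subgroup G) : Set G) ≤ normalizer (J : Set G) := by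
  intro g hg
  refine Subgroup.mem_normalizer_fintype fun x hx => ?_
  have h := H.J_unique F (A := J.map (MulAut.conj g).toMonoidHom) ?_ ?_ ?_
  · exact h ▸ (⟨x, hx, rfl⟩ : g * x * g⁻¹ ∈ J.map (MulAut.conj g).toMonoidHom)
  · rintro _ ⟨y, hy, rfl⟩
    exact (mem_normalizer_iff.1 hg y).1 (H.J_le hy)
  · rintro _ ⟨a, ha, rfl⟩ _ ⟨b, hb, rfl⟩
    rw [← map_mul, ← map_mul, H.J_comm a ha b hb]
  · rw [card_map_of_injective (MulEquiv.injective _), H.J_card]

end Cfsg.Agent.McLThree
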