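import Cfsg.Agent.Lib.McLThree.Stab
import Cfsg.Agent.Lib.McLThree.Side

/-!
# The facts about `J` from the centralizer of `z z'`
-/

set_option autoImplicit false
set_option linter.unusedSectionVars false
set_option linter.style.haveILetI false
set_option synthInstance.maxSize 2000
set_option synthInstance.maxHeartbeats 200000

namespace Cfsg.Agent.McLThree

open Subgroup
open Model

universe u

variable {G : Type u} [Group G] [Finite G] {S : Sylow 3 G} {Z J M₀ L₀ Q : Subgroup G}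
  (H : Hyp S Z J M₀ L₀ Q) {π : ↥L₀ →* SL5} {t f : G} (F : Frame Q L₀ π t f)
  {ρ : ↥M₀ →* Six.A6} {u w : G} (B : Base S J M₀ t ρ u w)
  {z x y : G} (C : Coord Z J Q t w z x y)
include H F B C

local notation "zz" => w * z * w⁻¹

/-- The side at `J`, given that `C(z z')` normalizes `J`. -/
theorem Hyp.jside (hcy : centralizer ({z * zz} : Set G) ≤ normalizer (J : Set G)) :
    JSide Z J L₀ t w z zz := by
  obtain ⟨k, -, hkt, -, hkJ, hkz, hkzz⟩ := H.exists_g F B C
  have hk : ∀ c : G, Commute c (z * zz⁻¹) → Commute (k⁻¹ * c * k) (z * zz) := fun c hc => by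
    have e : k * (z * zz) * k⁻¹ = z * zz⁻¹ := by
      rw [show k * (z * zz) * k⁻¹ = k * z * k⁻¹ * (k * zz * k⁻¹) by group, hkz, hkzz]
    have e' : z * zz = k⁻¹ * (z * zz⁻¹) * k := by rw [← e]; group
    rw [e']
    show k⁻¹ * c * k * (k⁻¹ * (z * zz⁻¹) * k) = k⁻¹ * (z * zz⁻¹) * k * (k⁻¹ * c * k)
    calc k⁻¹ * c * k * (k⁻¹ * (z * zz⁻¹) * k) = k⁻¹ * (c * (z * zz⁻¹)) * k := by group
      _ = k⁻¹ * (z * zz⁻¹ * c) * k := by rw [hc.eq]
      _ = _ := by group
  have hcent : ∀ v, IsY z zz v → centralizer ({v} : Set G) ≤ normalizer (J : Set G) := by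
    rintro v (rfl | rfl)
    · exact hcy
    · intro c hc
      have h := hcy (mem_centralizer_singleton_iff.2 (hk c (mem_centralizer_singleton_iff.1 hc)).eq)
      have := mul_mem (mul_mem hkJ h) (inv_mem hkJ)
      rwa [show k * (k⁻¹ * c * k) * k⁻¹ = c by group] at this
  refine ⟨C.z_mem, H.w_Z_Ej F B C.z_mem, H.w_Z_not_Z F B C.z_mem C.z_ne, B.w_t, H.M_le B.w_mem, rfl,
    ?_, hcent, ?_, ?_, ?_⟩
  · rw [H.w_sq_Z F B C.z_mem]
    exact C.z_mem
  · rintro v hv g hgv hgt
    have hgJ := hcent v hv (mem_centralizer_singleton_iff.2 hgv.eq)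
    rcases hv with rfl | rfl
    · exact H.sq_stab F B C hgt hgv hgJ
    · have hconjt : Commute (k⁻¹ * g * k) t := (hkt.inv_left.mul_left hgt).mul_left hkt
      have hconjJ : k⁻¹ * g * k ∈ normalizer (J : Set G) := mul_mem (mul_mem (inv_mem hkJ) hgJ) hkJ
      have hE : ∀ e ∈ Ej J t, k * e * k⁻¹ ∈ Ej J t := fun e he =>
        ⟨(mem_normalizer_iff.1 hkJ e).1 he.1, mem_centralizer_singleton_iff.2
          (((hkt.mul_left (mem_centralizer_singleton_iff.1 he.2)).mul_left hkt.inv_left).eq)⟩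
      rcases H.sq_stab F B C hconjt (hk g hgv) hconjJ with e | e
      · left
        have := hE _ e
        rwa [show k * (k⁻¹ * g * k * (k⁻¹ * g * k)) * k⁻¹ = g * g by group] at this
      · right
        have := hE _ e
        rwa [show k * (k⁻¹ * g * k * (k⁻¹ * g * k) * t) * k⁻¹ = g * g * (k * t * k⁻¹) by group,
          hkt.eq, mul_inv_cancel_right] at this
  · intro g g' hgL hg'L _ _ hgJ hg'J hgg _ _ hgz hg'z _
    exact H.not_commute F B C hgL hgJ hgg hgz hg'L hg'J hg'z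
  · intro i d hii hne hit hiy hdt hdE hdd hboth
    obtain ⟨⟨n₁, hn₁, e₁⟩, n₂, hn₂, e₂⟩ := hboth
    have hi1 : i ≠ 1 := by
      intro h
      have h2 : orderOf t = 2 := F.t_two
      rw [h] at e₁
      rw [_root_.conj_eq_one_iff.1 e₁, orderOf_one] at h2
      norm_num at h2
    have hdz : Commute d z := (mem_centralizer_iff.1 hdE z (H.Z_le_Ej F C.z_mem)).symm
    have hdz' : Commute d zz := (mem_centralizer_iff.1 hdE zz (H.w_Z_Ej F B C.z_mem)).symm
    rcases H.not_both_fused F B C hit hiy (hcy (mem_centralizer_singleton_iff.2 hiy.eq)) hii hi1 hne hdt hdz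
        hdz' (hcy (mem_centralizer_singleton_iff.2 (hdz.mul_right hdz').eq)) hdd with h | h
    · exact h n₁ hn₁ e₁
    · exact h n₂ hn₂ e₂

omit B C in
/-- The side at `J` exists, given the centralizers of the lines `z z'`. -/
theorem Hyp.exists_side
    (hcy : ∀ (ρ : ↥M₀ →* Six.A6) (u w z x y : G), Base S J M₀ t ρ u w → Coord Z J Q t w z x y →
      centralizer ({z * (w * z * w⁻¹)} : Set G) ≤ normalizer (J : Set G)) :
    ∃ s z z', JSide Z J L₀ t s z z' := by
  obtain ⟨ρ, u, w, B⟩ := H.exists_base F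
  obtain ⟨z, x, y, C⟩ := H.exists_coord F B
  exact ⟨w, z, w * z * w⁻¹, H.jside F B C (hcy ρ u w z x y B C)⟩

end Cfsg.Agent.McLThree
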